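import Mathlib
import Cfsg.Agent.Lib.Small.SpClassCount.Classes

/-!
Invariant symmetric forms of a Jordan matrix up to congruence by the centraliser, and their determinants.
-/

set_option autoImplicit false
set_option linter.unusedSectionVars false
set_option linter.style.haveILetI false

namespace Cfsg.Agent.Small.ClassNumberO

open Matrix Cfsg.Agent.Small.SpClassCount
open scoped _root_.Classical

universe u

variable {F : Type u} [Field F] [Fintype F] {t : ℕ} (d : Fin t → ℕ)

local notation "I" => ((k : Fin t) × Fin (d k))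
local notation "Mat" => Matrix ((k : Fin t) × Fin (d k)) ((k : Fin t) × Fin (d k)) F

/-- invariant symmetric forms -/
structure IsSForm (W : Mat) : Prop where
  unit : IsUnit W.det
  symm : Wᵀ = W
  inv : IsInv d W

theorem btop_transpose_sym {W : Mat} (hW : IsInv d W) (hs : Wᵀ = W) {i : ℕ} (hi : 1 ≤ i) :
    (btop d W i)ᵀ = (-1 : F) ^ (i + 1) • btop d W i := by
  ext k l
  have hchain : ∀ a, a + 1 ≤ i →
      phi d W k.1 l.1 a (i - 1 - a) = (-1 : F) ^ a * phi d W k.1 l.1 0 (i - 1) := by
    intro a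
    induction a with
    | zero => intro _; simp
    | succ a ih =>
      intro ha
      have h := (isInv_iff d W).1 hW k.1 l.1 a (i - 1 - (a + 1))
      rw [vanish_left d hW k.1 l.1 (show d k.1 ≤ a + 1 + (i - 1 - (a + 1) + 1) by
          have := k.2; omega), add_zero, show i - 1 - (a + 1) + 1 = i - 1 - a by omega,
        ih (by omega)] at h
      rw [eq_neg_of_add_eq_zero_left h, pow_succ]; ring
  have h := hchain (i - 1) (by omega)
  rw [Nat.sub_self] at h
  have hsw : phi d W l.1 k.1 0 (i - 1) = phi d W k.1 l.1 (i - 1) 0 := by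
    have hk : i - 1 < d k.1 := by rw [k.2]; omega
    have hl : 0 < d l.1 := by rw [l.2]; omega
    rw [phi, dif_pos ⟨hl, hk⟩, phi, dif_pos ⟨hk, hl⟩]
    exact congrFun (congrFun hs ⟨k.1, i - 1, hk⟩) ⟨l.1, 0, hl⟩
  simp only [Matrix.transpose_apply, Matrix.smul_apply, smul_eq_mul, btop]
  rw [hsw, h]
  obtain ⟨j, rfl⟩ : ∃ j, i = j + 1 := ⟨i - 1, by omega⟩
  rw [Nat.add_sub_cancel, pow_succ, pow_succ]
  ring

theorem isSForm_congr {W y : Mat} (hW : IsSForm d W) (hy : Comm d y) (hu : IsUnit y.det) :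
    IsSForm d (yᵀ * W * y) := by
  refine ⟨?_, ?_, ?_⟩
  · rw [Matrix.det_mul, Matrix.det_mul, Matrix.det_transpose]
    exact (hu.mul hW.unit).mul hu
  · rw [Matrix.transpose_mul, Matrix.transpose_mul, Matrix.transpose_transpose, hW.symm, ← Matrix.mul_assoc]
  · have hJ : y * Cfsg.jordanTypeMatrix d F = Cfsg.jordanTypeMatrix d F * y := (comm_iff d).1 hy
    unfold IsInv
    calc (Cfsg.jordanTypeMatrix d F)ᵀ * (yᵀ * W * y) * Cfsg.jordanTypeMatrix d F
        = (y * Cfsg.jordanTypeMatrix d F)ᵀ * W * (y * Cfsg.jordanTypeMatrix d F) := by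
          simp only [Matrix.transpose_mul, Matrix.mul_assoc]
      _ = yᵀ * ((Cfsg.jordanTypeMatrix d F)ᵀ * W * Cfsg.jordanTypeMatrix d F) * y := by
          rw [hJ]; simp only [Matrix.transpose_mul, Matrix.mul_assoc]
      _ = yᵀ * W * y := by rw [hW.inv]

variable {p : ℕ} [Fact p.Prime] [CharP F p] (hd : ∀ k, 1 ≤ d k)
include hd

theorem congr_of_btop_sym (hp : p ≠ 2) {V W : Mat} (hV : IsSForm d V) (hW : IsSForm d W)
    (h : ∀ i, 1 ≤ i → btop d W i = btop d V i) : ∃ y : Mat, IsUnit y.det ∧ Comm d y ∧ yᵀ * V * y = W := by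
  have hVu : IsUnit V.det := hV.unit
  set S := V⁻¹ * W with hS
  have hSc : Comm d S := comm_of_inv d hd hV.inv hVu hW.inv
  have hVS : V * S = W := Matrix.mul_nonsing_inv_cancel_left _ _ hVu
  have htop : ∀ i, topC d hd S i = 1 := by
    intro i
    rcases Nat.eq_zero_or_pos i with rfl | hi
    · exact Matrix.ext fun k => absurd k.2 (by have := hd k.1; omega)
    have h1 := btop_mul d hd hV.inv hSc hi
    rw [hVS, h i hi] at h1
    have hu := isUnit_btop d hd hV.inv hVu hi
    calc topC d hd S i = (btop d V i)⁻¹ * (btop d V i * topC d hd S i) :=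
          (Matrix.nonsing_inv_mul_cancel_left _ _ hu).symm
      _ = 1 := by rw [← h1, Matrix.nonsing_inv_mul _ hu]
  obtain ⟨c, hc⟩ := isNilpotent_sub_one d hd hSc htop
  have hSp : S ^ p ^ c = 1 := by
    have h2 : (S - 1) ^ p ^ c = 0 :=
      pow_eq_zero_of_le (Nat.lt_pow_self (Fact.out : p.Prime).one_lt).le hc
    by_cases hne : Nonempty I
    · haveI := hne
      haveI : CharP Mat p := inferInstance
      haveI : ExpChar Mat p := ExpChar.prime Fact.out
      rw [sub_pow_expChar_pow_of_commute p c (Commute.one_right S), one_pow, sub_eq_zero] at h2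
      exact h2
    · haveI : IsEmpty I := not_nonempty_iff.1 hne
      exact Subsingleton.elim _ _
  have hodd : Odd (p ^ c) := ((Fact.out : p.Prime).odd_of_ne_two hp).pow
  obtain ⟨e, he⟩ := hodd
  have hadj : ∀ n : ℕ, (S ^ n)ᵀ * V = V * S ^ n := by
    have h1 : Sᵀ * V = V * S := by
      have h2 := congrArg Matrix.transpose hVS
      rw [Matrix.transpose_mul, hV.symm, hW.symm] at h2
      rw [h2, hVS]
    intro n
    induction n with
    | zero => simp
    | succ n ih =>
      rw [pow_succ, Matrix.transpose_mul, Matrix.mul_assoc, ih, ← Matrix.mul_assoc, h1,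
        Matrix.mul_assoc, ← pow_succ', ← pow_succ]
  refine ⟨S ^ (e + 1), ?_, ?_, ?_⟩
  · rw [Matrix.det_pow]
    refine IsUnit.pow _ ?_
    rw [hS, Matrix.det_mul]
    exact (Matrix.isUnit_nonsing_inv_det _ hVu).mul hW.unit
  · exact (Commute.pow_left hSc (e + 1) :)
  · rw [hadj, Matrix.mul_assoc, ← pow_add, show e + 1 + (e + 1) = p ^ c + 1 by omega, pow_succ, hSp,
      one_mul, hVS]

/-- classification by the square classes on odd sizes -/
theorem congr_sym (hp : p ≠ 2) (h2 : (2 : F) ≠ 0) {V W : Mat} (hV : IsSForm d V) (hW : IsSForm d W)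
    (h : ∀ i, 1 ≤ i → Odd i → IsSquare ((btop d V i).det * (btop d W i).det)) :
    ∃ y : Mat, IsUnit y.det ∧ Comm d y ∧ yᵀ * V * y = W := by
  have hex : ∀ i, ∃ P : Matrix {k // d k = i} {k // d k = i} F, IsUnit P.det ∧
      (1 ≤ i → Pᵀ * btop d V i * P = btop d W i) := by
    intro i
    rcases Nat.eq_zero_or_pos i with rfl | hi
    · exact ⟨1, by simp, fun h => by omega⟩
    have hunit : ∀ P : Matrix {k // d k = i} {k // d k = i} F,
        Pᵀ * btop d V i * P = btop d W i → IsUnit P.det := by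
      intro P hP
      have hu := isUnit_btop d hd hW.inv hW.unit (i := i) hi
      rw [← hP, Matrix.det_mul] at hu
      exact (IsUnit.mul_iff.1 hu).2
    have hVt := btop_transpose_sym d hV.inv hV.symm hi
    have hWt := btop_transpose_sym d hW.inv hW.symm hi
    rcases Nat.even_or_odd i with he | ho
    · rw [he.add_one.neg_one_pow, neg_one_smul] at hVt hWt
      obtain ⟨P, hP⟩ := SymplecticSemisimple.exists_congr (btop d V i) (btop d W i)
        (alt_of_skew h2 hVt) (isUnit_btop d hd hV.inv hV.unit hi) (alt_of_skew h2 hWt)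
        (isUnit_btop d hd hW.inv hW.unit hi)
      exact ⟨P, hunit P hP, fun _ => hP⟩
    · rw [ho.add_one.neg_one_pow, one_smul] at hVt hWt
      obtain ⟨P, hP⟩ := sym_congr h2 hVt hWt (isUnit_btop d hd hV.inv hV.unit hi)
        (isUnit_btop d hd hW.inv hW.unit hi) (h i hi ho)
      exact ⟨P, hunit P hP, fun _ => hP⟩
  choose P hPu hP using hex
  set C := lift d P with hC
  have hCc : Comm d C := comm_lift d P
  have hCu : IsUnit C.det := isUnit_of_topC d hd hCc fun i => by rw [hC, topC_lift]; exact hPu i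
  obtain ⟨y, hyu, hyc, hy⟩ := congr_of_btop_sym d hd hp (isSForm_congr d hV hCc hCu) hW (fun i hi => by
    rw [btop_congr d hd hV.inv hCc hCc hi, hC, topC_lift, hP i hi])
  refine ⟨C * y, by rw [Matrix.det_mul]; exact hCu.mul hyu, comm_mul d hd hCc hyc, ?_⟩
  rw [← hy, Matrix.transpose_mul]
  simp only [Matrix.mul_assoc]

/-- the determinant of a commuting matrix -/
theorem det_comm {X : Mat} (hX : Comm d X) (hu : IsUnit X.det) :
    X.det = ∏ i ∈ Finset.univ.image d, (topC d hd X i).det ^ i := by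
  set L := lift d (fun i => topC d hd X i) with hL
  have hLc : Comm d L := comm_lift d _
  have htu := isUnit_topC d hd hX hu
  have hLu : IsUnit L.det := isUnit_of_topC d hd hLc fun i => by rw [hL, topC_lift]; exact htu i
  have hXL : Comm d (L⁻¹ * X) := comm_mul d hd (comm_inv d hd hLc hLu) hX
  have htop : ∀ i, topC d hd (L⁻¹ * X) i = 1 := by
    intro i
    have h := topC_mul d hd hLc hXL i
    rw [Matrix.mul_nonsing_inv_cancel_left _ _ hLu, hL, topC_lift] at h
    calc topC d hd (L⁻¹ * X) i = (topC d hd X i)⁻¹ * (topC d hd X i * topC d hd (L⁻¹ * X) i) :=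
          (Matrix.nonsing_inv_mul_cancel_left _ _ (htu i)).symm
      _ = 1 := by rw [← h, Matrix.nonsing_inv_mul _ (htu i)]
  have hdet1 : (L⁻¹ * X).det = 1 := by
    obtain ⟨c, hc⟩ := isNilpotent_sub_one d hd hXL htop
    set N := -(L⁻¹ * X - 1) with hN
    have hnil : IsNilpotent N := IsNilpotent.neg ⟨c, hc⟩
    have hcp : N.charpoly = Polynomial.X ^ Fintype.card I :=
      sub_eq_zero.1 (Matrix.isNilpotent_charpoly_sub_pow_of_isNilpotent hnil).eq_zero
    have h1 : (L⁻¹ * X).det = N.charpoly.eval 1 := by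
      rw [Matrix.eval_charpoly, map_one, hN, sub_neg_eq_add, add_sub_cancel]
    rw [h1, hcp, Polynomial.eval_pow, Polynomial.eval_X, one_pow]
  have hLX : X.det = L.det := by
    conv_lhs => rw [← Matrix.mul_nonsing_inv_cancel_left L X hLu, Matrix.det_mul, hdet1, mul_one]
  rw [hLX]
  -- the block shape of the lift
  have htri : L.BlockTriangular (fun x => d x.1) := by
    intro x y hxy
    exact dif_neg fun h => (ne_of_lt hxy) h.1.symm
  rw [htri.det]
  refine Finset.prod_congr ?_ fun i hi => ?_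
  · ext i
    simp only [Finset.mem_image, Finset.mem_univ, true_and]
    constructor
    · rintro ⟨x, rfl⟩; exact ⟨x.1, rfl⟩
    · rintro ⟨k, rfl⟩; exact ⟨⟨k, ⟨0, hd k⟩⟩, rfl⟩
  · let e : {x : I // d x.1 = i} ≃ {k // d k = i} × Fin i :=
      { toFun := fun x => (⟨x.1.1, x.2⟩, ⟨x.1.2.val, lt_of_lt_of_eq x.1.2.isLt x.2⟩)
        invFun := fun z => ⟨⟨z.1.1, ⟨z.2.val, lt_of_lt_of_eq z.2.isLt z.1.2.symm⟩⟩, z.1.2⟩
        left_inv := fun x => Subtype.ext (SpJordan.sig_ext d rfl rfl)
        right_inv := fun z => rfl }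
    have heq : L.toSquareBlock (fun x => d x.1) i =
        (Matrix.blockDiagonal (fun _ : Fin i => topC d hd X i)).submatrix e e := by
      ext ⟨⟨k, a⟩, hk⟩ ⟨⟨l, b⟩, hl⟩
      simp only at hk hl
      subst hl
      rw [Matrix.toSquareBlock_def, Matrix.submatrix_apply, Matrix.blockDiagonal_apply]
      show L ⟨k, a⟩ ⟨l, b⟩ = _
      simp only [hL, lift, e, Equiv.coe_fn_mk, Fin.ext_iff]
      by_cases hab : a.val = b.val
      · rw [dif_pos ⟨hk, hab⟩, if_pos hab]
      · rw [dif_neg (fun h => hab h.2), if_neg hab]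
    rw [heq, Matrix.det_submatrix_equiv_self, Matrix.det_blockDiagonal, Finset.prod_const, Finset.card_univ,
      Fintype.card_fin]

end Cfsg.Agent.Small.ClassNumberO
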