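import Mathlib
import Cfsg.Agent.Lib.Small.ClassNumberSp.Split
import Cfsg.Agent.Lib.Small.ClassNumberU.Root
import Cfsg.Agent.Lib.Small.ClassNumberO.Forms

/-!
The adjoint of a symmetric matrix, and square roots of self-adjoint elements away from the eigenvalues one and
minus one.
-/

set_option autoImplicit false
set_option linter.unusedSectionVars false
set_option linter.style.haveILetI false

namespace Cfsg.Agent.Small.ClassNumberO

open Matrix Cfsg.Agent.Small.ClassNumberSp

universe u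

variable {F : Type u} [Field F] [Fintype F] {ι : Type} [Fintype ι] [DecidableEq ι]

/-- A nondegenerate symmetric matrix. -/
structure IsGram (B : Matrix ι ι F) : Prop where
  symm : Bᵀ = B
  unit : IsUnit B.det

/-- The adjoint with respect to `B`. -/
noncomputable def adj (B X : Matrix ι ι F) : Matrix ι ι F := B⁻¹ * Xᵀ * B

variable {B : Matrix ι ι F}

theorem adj_add (X Y : Matrix ι ι F) : adj B (X + Y) = adj B X + adj B Y := by
  rw [adj, adj, adj, Matrix.transpose_add, Matrix.mul_add, Matrix.add_mul]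

theorem adj_neg (X : Matrix ι ι F) : adj B (-X) = -adj B X := by
  rw [adj, adj, Matrix.transpose_neg, Matrix.mul_neg, Matrix.neg_mul]

theorem adj_sub (X Y : Matrix ι ι F) : adj B (X - Y) = adj B X - adj B Y := by
  rw [sub_eq_add_neg, adj_add, adj_neg, ← sub_eq_add_neg]

theorem adj_smul (c : F) (X : Matrix ι ι F) : adj B (c • X) = c • adj B X := by
  simp only [adj, Matrix.transpose_smul, Matrix.mul_smul, Matrix.smul_mul]

theorem adj_one (hB : IsGram B) : adj B 1 = 1 := by
  rw [adj, Matrix.transpose_one, Matrix.mul_one, Matrix.nonsing_inv_mul _ hB.unit]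

theorem adj_mul (hB : IsGram B) (X Y : Matrix ι ι F) : adj B (X * Y) = adj B Y * adj B X := by
  simp only [adj, Matrix.transpose_mul, Matrix.mul_assoc]
  rw [Matrix.mul_nonsing_inv_cancel_left _ _ hB.unit]

theorem mul_adj (hB : IsGram B) (X : Matrix ι ι F) : B * adj B X = Xᵀ * B := by
  rw [adj, Matrix.mul_assoc, Matrix.mul_nonsing_inv_cancel_left _ _ hB.unit]

theorem adj_adj (hB : IsGram B) (X : Matrix ι ι F) : adj B (adj B X) = X := by
  have h : (adj B X)ᵀ * B = B * X := by
    have := congrArg Matrix.transpose (mul_adj hB X)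
    rw [Matrix.transpose_mul, Matrix.transpose_mul, Matrix.transpose_transpose, hB.symm] at this
    exact this
  rw [adj, Matrix.mul_assoc, h, Matrix.nonsing_inv_mul_cancel_left _ _ hB.unit]

theorem adj_mul_self_iff (hB : IsGram B) (X : Matrix ι ι F) : adj B X * X = 1 ↔ Xᵀ * B * X = B := by
  constructor
  · intro h
    rw [← mul_adj hB, Matrix.mul_assoc, h, Matrix.mul_one]
  · intro h
    rw [adj, Matrix.mul_assoc, Matrix.mul_assoc, ← Matrix.mul_assoc Xᵀ, h, Matrix.nonsing_inv_mul _ hB.unit]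

theorem det_adj (hB : IsGram B) (X : Matrix ι ι F) : (adj B X).det = X.det := by
  have h := congrArg Matrix.det (mul_adj hB X)
  rw [Matrix.det_mul, Matrix.det_mul, Matrix.det_transpose, mul_comm X.det] at h
  exact hB.unit.mul_left_cancel h

theorem adj_pow (hB : IsGram B) (X : Matrix ι ι F) : ∀ k : ℕ, adj B (X ^ k) = adj B X ^ k
  | 0 => by rw [pow_zero, pow_zero, adj_one hB]
  | k + 1 => by rw [pow_succ', adj_mul hB, adj_pow hB X k, pow_succ]

theorem adj_smul_mul {c : F} (hc : c * c = 1) {X : Matrix ι ι F} (hX : adj B X * X = 1) :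
    adj B (c • X) * (c • X) = 1 := by
  rw [adj_smul, Matrix.smul_mul, Matrix.mul_smul, smul_smul, hc, hX, one_smul]

theorem adj_eP (hB : IsGram B) {g : Matrix ι ι F} (hg : adj B g * g = 1) : adj B (eP g) = eP g := by
  have hg' : g * adj B g = 1 := mul_eq_one_comm.1 hg
  have h1 : adj B g - 1 = -(adj B g * (g - 1)) := by rw [mul_sub, hg, mul_one, neg_sub]
  have hc : Commute (adj B g) (g - 1) :=
    (show Commute (adj B g) g from hg.trans hg'.symm).sub_right (Commute.one_right _)
  rw [eP, adj_sub, adj_one hB, adj_pow hB, adj_sub, adj_one hB, h1, (idN_even (Matrix ι ι F)).neg_pow, hc.mul_pow,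
    pow_idN_unit (IsUnit.of_mul_eq_one (b := g) hg), one_mul]

theorem adj_eM (hB : IsGram B) {g : Matrix ι ι F} (hg : adj B g * g = 1) : adj B (eM g) = eM g :=
  adj_eP hB (by rw [adj_neg, neg_mul_neg, hg])

theorem two_isUnit (h2 : (2 : F) ≠ 0) : IsUnit (2 : Matrix ι ι F) := by
  have h := h2.isUnit.map (algebraMap F (Matrix ι ι F))
  rwa [map_ofNat] at h

theorem adj_eZ (hB : IsGram B) (h2 : (2 : F) ≠ 0) {g : Matrix ι ι F} (hg : adj B g * g = 1) :
    adj B (eZ g) = eZ g := by
  rw [eZ_eq (two_isUnit h2), adj_sub, adj_sub, adj_one hB, adj_eP hB hg, adj_eM hB hg]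

/-- On the part without eigenvalue one or minus one every fixed unit is a norm. -/
theorem root_eZ (hB : IsGram B) (h2 : (2 : F) ≠ 0) {b M : Matrix ι ι F} (hb : adj B b * b = 1)
    (hMc : Commute M b) (hMj : adj B M = M) (hMu : IsUnit M) :
    ∃ y z : Matrix ι ι F, y * z = eZ b ∧ z * y = eZ b ∧ eZ b * y = y ∧ eZ b * z = z ∧ Commute y b ∧ Commute z b ∧
      adj B y * y = M * eZ b := by
  classical
  set e := eZ b with he
  have idem : IsIdempotentElem e := eZ_idem b
  have hje : adj B e = e := adj_eZ hB h2 hb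
  have hb' : b * adj B b = 1 := mul_eq_one_comm.1 hb
  have hbjb : Commute b (adj B b) := hb'.trans hb.symm
  have hbe : Commute b e := commute_eZ (Commute.refl b)
  have hMe : Commute M e := commute_eZ hMc
  have hjbe : Commute (adj B b) e := commute_eZ hbjb.symm
  haveI : Finite idem.Corner := Subtype.finite
  let mk : ∀ x : Matrix ι ι F, Commute x e → idem.Corner := fun x hx => ⟨x * e, (Subsemigroup.mem_corner_iff idem).2
    ⟨by rw [← mul_assoc, ← hx.eq, mul_assoc, idem.eq], by rw [mul_assoc, idem.eq]⟩⟩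
  have hmul : ∀ (x y : Matrix ι ι F) (hx : Commute x e) (hy : Commute y e),
      mk (x * y) (hx.mul_left hy) = mk x hx * mk y hy := fun x y hx hy =>
    Subtype.ext (show x * y * e = x * e * (y * e) by
      rw [mul_assoc x e, ← mul_assoc e y, ← hy.eq, mul_assoc y e, idem.eq, mul_assoc])
  have hone : ∀ (x : Matrix ι ι F) (hx : Commute x e), x = 1 → mk x hx = 1 := fun x hx h =>
    Subtype.ext (show x * e = e by rw [h, one_mul])
  have hjmem : ∀ x : idem.Corner, adj B x.1 ∈ Subsemigroup.corner e := fun x => by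
    obtain ⟨h1, h2'⟩ := (Subsemigroup.mem_corner_iff idem).1 x.2
    refine (Subsemigroup.mem_corner_iff idem).2 ⟨?_, ?_⟩
    · conv_lhs => arg 1; rw [← hje]
      rw [← adj_mul hB, h2']
    · conv_lhs => arg 2; rw [← hje]
      rw [← adj_mul hB, h1]
  let j : idem.Corner → idem.Corner := fun x => ⟨adj B x.1, hjmem x⟩
  have hjw : j (mk b hbe) = mk (adj B b) hjbe := Subtype.ext (show adj B (b * e) = adj B b * e by
    rw [adj_mul hB, hje, hjbe.eq])
  have hjM : j (mk M hMe) = mk M hMe := Subtype.ext (show adj B (M * e) = M * e by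
    rw [adj_mul hB, hje, hMj, hMe.eq])
  have hAcomm : ∀ x ∈ ({mk b hbe, mk M hMe} : Set idem.Corner), ∀ y ∈ ({mk b hbe, mk M hMe} : Set idem.Corner),
      x * y = y * x := by
    rintro x (rfl | rfl) y (rfl | rfl)
    · rfl
    · exact (hmul b M hbe hMe).symm.trans ((Subtype.ext (show b * M * e = M * b * e by rw [hMc.eq])).trans
        (hmul M b hMe hbe))
    · exact (hmul M b hMe hbe).symm.trans ((Subtype.ext (show M * b * e = b * M * e by rw [hMc.eq])).trans
        (hmul b M hbe hMe))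
    · rfl
  let u : idem.Cornerˣ := ⟨mk b hbe, mk (adj B b) hjbe,
    (hmul b _ hbe hjbe).symm.trans (hone _ (hbe.mul_left hjbe) hb'),
    (hmul _ b hjbe hbe).symm.trans (hone _ (hjbe.mul_left hbe) hb)⟩
  have hMu' : IsUnit (mk M hMe) := by
    obtain ⟨v, rfl⟩ := hMu
    have hv : Commute ((v⁻¹ : (Matrix ι ι F)ˣ) : Matrix ι ι F) e := hMe.units_inv_left
    exact ⟨⟨mk (v : Matrix ι ι F) hMe, mk _ hv, (hmul _ _ hMe hv).symm.trans (hone _ (hMe.mul_left hv) v.mul_inv),
      (hmul _ _ hv hMe).symm.trans (hone _ (hv.mul_left hMe) v.inv_mul)⟩, rfl⟩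
  obtain ⟨y, hy, hyu, hjy⟩ := ClassNumberU.exists_root j
    (fun x y => Subtype.ext (adj_add x.1 y.1))
    (fun x y => Subtype.ext (adj_mul hB x.1 y.1))
    (Subtype.ext hje) (fun x => Subtype.ext (adj_adj hB _))
    {mk b hbe, mk M hMe} hAcomm
    (by
      rintro x (rfl | rfl)
      · rw [hjw]
        exact ClassNumberU.mem_of_unit_inv (x := u) _ (Subring.subset_closure (Or.inl rfl))
      · rw [hjM]; exact Subring.subset_closure (Or.inr rfl))
    (w := mk b hbe) (Or.inl rfl)
    (by
      rw [hjw]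
      have hc1 : Commute (b * b - 1) e :=
        (hbe.mul_left hbe).sub_left (Commute.one_left e)
      have e1 : mk b hbe - mk (adj B b) hjbe = mk (adj B b) hjbe * mk (b * b - 1) hc1 := by
        exact (Subtype.ext (show b * e - adj B b * e = adj B b * (b * b - 1) * e by
          rw [mul_sub, ← mul_assoc, hb, one_mul, mul_one, sub_mul])).trans (hmul _ _ hjbe hc1)
      rw [e1]
      refine (u⁻¹).isUnit.mul ?_
      obtain ⟨k, hk⟩ : ∃ k, idN (Matrix ι ι F) = k + 1 :=
        ⟨idN (Matrix ι ι F) - 1, by have := idN_pos (Matrix ι ι F); omega⟩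
      have hc2 : Commute ((b * b - 1) ^ k) e := hc1.pow_left k
      refine ⟨⟨mk (b * b - 1) hc1, mk _ hc2, ?_, ?_⟩, rfl⟩
      · exact (hmul _ _ hc1 hc2).symm.trans (Subtype.ext (show (b * b - 1) * (b * b - 1) ^ k * e = e by
          rw [← pow_succ', ← hk]; exact idem.eq))
      · exact (hmul _ _ hc2 hc1).symm.trans (Subtype.ext (show (b * b - 1) ^ k * (b * b - 1) * e = e by
          rw [← pow_succ, ← hk]; exact idem.eq)))
    (M := mk M hMe) (Or.inr rfl) hMu' hjM
  have hyc : ∀ x ∈ Subring.closure ({mk b hbe, mk M hMe} : Set idem.Corner), Commute x.1 b := by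
    intro x hx
    induction hx using Subring.closure_induction with
    | mem x hx =>
      rcases hx with rfl | rfl
      · exact (Commute.refl b).mul_left hbe.symm
      · exact hMc.mul_left hbe.symm
    | zero => exact Commute.zero_left b
    | one => exact hbe.symm
    | add x y _ _ ihx ihy => exact ihx.add_left ihy
    | neg x _ ihx => exact ihx.neg_left
    | mul x y _ _ ihx ihy => exact ihx.mul_left ihy
  obtain ⟨yu, rfl⟩ := hyu
  refine ⟨(yu : idem.Corner).1, (↑yu⁻¹ : idem.Corner).1, congrArg Subtype.val yu.mul_inv,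
    congrArg Subtype.val yu.inv_mul, ((Subsemigroup.mem_corner_iff idem).1 (yu : idem.Corner).2).1,
    ((Subsemigroup.mem_corner_iff idem).1 (↑yu⁻¹ : idem.Corner).2).1, hyc _ hy,
    hyc _ (ClassNumberU.mem_of_unit_inv _ hy), congrArg Subtype.val hjy⟩

/-- Congruence and determinant on the part without eigenvalue one or minus one. -/
theorem congr_eZ (hB : IsGram B) (h2 : (2 : F) ≠ 0) {b M M' : Matrix ι ι F} (hb : adj B b * b = 1)
    (hMc : Commute M b) (hMj : adj B M = M) (hMu : IsUnit M) (hMc' : Commute M' b) (hMj' : adj B M' = M')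
    (hMu' : IsUnit M') :
    ∃ Y : Matrix ι ι F, Commute Y b ∧ eZ b * Y = Y ∧ adj B Y * M * Y = M' * eZ b := by
  obtain ⟨y₁, z₁, hyz, -, hey, hez, hy₁, hz₁, h₁⟩ := root_eZ hB h2 hb hMc hMj hMu
  obtain ⟨y₂, z₂, -, -, hey₂, -, hy₂, -, h₂⟩ := root_eZ hB h2 hb hMc' hMj' hMu'
  refine ⟨z₁ * y₂, hz₁.mul_left hy₂, by rw [← mul_assoc, hez], ?_⟩
  calc adj B (z₁ * y₂) * M * (z₁ * y₂) = adj B y₂ * adj B z₁ * (M * eZ b) * z₁ * y₂ := by
        rw [adj_mul hB]
        simp only [mul_assoc]
        rw [← mul_assoc (eZ b) z₁, hez]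
    _ = adj B y₂ * adj B (y₁ * z₁) * (y₁ * z₁) * y₂ := by
        rw [← h₁, adj_mul hB y₁ z₁]; simp only [mul_assoc]
    _ = adj B y₂ * (eZ b * eZ b) * y₂ := by rw [hyz, adj_eZ hB h2 hb]; simp only [mul_assoc]
    _ = M' * eZ b := by rw [eZ_idem, mul_assoc, hey₂, h₂]

/-- The determinant of a self-adjoint element on that part is a square. -/
theorem det_eZ_square (hB : IsGram B) (h2 : (2 : F) ≠ 0) {b M : Matrix ι ι F} (hb : adj B b * b = 1)
    (hMc : Commute M b) (hMj : adj B M = M) (hMu : IsUnit M) :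
    IsSquare (M * eZ b + (1 - eZ b)).det := by
  obtain ⟨y, z, hyz, hzy, hey, hez, hy, -, hM⟩ := root_eZ hB h2 hb hMc hMj hMu
  have hye : y * eZ b = y := (commute_eZ hy).eq.trans hey
  refine ⟨(y + (1 - eZ b)).det, ?_⟩
  conv_rhs => arg 1; rw [← det_adj hB]
  rw [← Matrix.det_mul]
  congr 1
  have hje := adj_eZ hB h2 hb
  have hjye : adj B y * eZ b = adj B y := by rw [← hje, ← adj_mul hB, hey]
  rw [adj_add, adj_sub, adj_one hB, hje, mul_add, add_mul, add_mul, hM, mul_sub, mul_one, hjye, sub_self,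
    zero_add, sub_mul, one_mul, hey, sub_self, add_zero, mul_sub, sub_mul, sub_mul, one_mul, mul_one, one_mul,
    eZ_idem, sub_self, sub_zero]

end Cfsg.Agent.Small.ClassNumberO
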