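import Mathlib
import Cfsg.Agent.Lib.Small.ClassNumberO.Adj

/-!
Jordan coordinates on the part of eigenvalue one of an orthogonal matrix.
-/

set_option autoImplicit false
set_option linter.unusedSectionVars false
set_option linter.style.haveILetI false

namespace Cfsg.Agent.Small.ClassNumberO

open Matrix Cfsg.Agent.Small.ClassNumberSp

universe u

variable {F : Type u} [Field F] [Fintype F] {ι : Type} [Fintype ι] [DecidableEq ι]

/-- Jordan coordinates on the part of eigenvalue one. -/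
theorem exists_coords (b : Matrix ι ι F) :
    ∃ (t : ℕ) (d : Fin t → ℕ) (P : Matrix ((k : Fin t) × Fin (d k)) ι F)
      (Q : Matrix ι ((k : Fin t) × Fin (d k)) F),
      (∀ k, 1 ≤ d k) ∧ P * Q = 1 ∧ Q * P = eP b ∧ b * Q = Q * Cfsg.jordanTypeMatrix d F := by
  classical
  set e := eP b with he
  have hbe : Commute b e := commute_eP (Commute.refl b)
  set A := b - 1 with hA
  have hAe : Commute A e := hbe.sub_left (Commute.one_left e)
  set Z := LinearMap.range (Matrix.toLin' e) with hZ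
  have hfix : ∀ z ∈ Z, Matrix.toLin' e z = z := by
    rintro z ⟨y, rfl⟩
    rw [← LinearMap.comp_apply, ← Matrix.toLin'_mul, eP_idem]
  have hmaps : ∀ z ∈ Z, Matrix.toLin' A z ∈ Z := fun z hz => by
    refine ⟨Matrix.toLin' A z, ?_⟩
    rw [← LinearMap.comp_apply, ← Matrix.toLin'_mul, ← hAe.eq, Matrix.toLin'_mul, LinearMap.comp_apply, hfix z hz]
  set N : Module.End F Z := (Matrix.toLin' A).restrict hmaps with hN
  have hNnil : IsNilpotent N := by
    refine ⟨idN (Matrix ι ι F), LinearMap.ext fun z => ?_⟩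
    have hpow : ∀ k, ((N ^ k) z : ι → F) = Matrix.toLin' ((A * e) ^ k) z.1 := by
      intro k
      induction k with
      | zero => rw [pow_zero, pow_zero, Matrix.toLin'_one]; rfl
      | succ k ih =>
        rw [pow_succ', Module.End.mul_apply, pow_succ', Matrix.toLin'_mul, LinearMap.comp_apply, ← ih,
          Matrix.toLin'_mul, LinearMap.comp_apply, hfix _ ((N ^ k) z).2]
        rfl
    refine Subtype.ext ?_
    rw [hpow, eP_nilpotent, map_zero]
    rfl
  obtain ⟨t, k, bs, hbs⟩ := JordanType.exists_chain N hNnil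
  let η := Fintype.equivFin {i // k i ≠ 0}
  let d : Fin (Fintype.card {i // k i ≠ 0}) → ℕ := fun l => k (η.symm l).1
  let f : ((l : Fin (Fintype.card {i // k i ≠ 0})) × Fin (d l)) → ((i : Fin t) × Fin (k i)) :=
    fun x => ⟨(η.symm x.1).1, x.2⟩
  have hf : Function.Bijective f := by
    constructor
    · rintro ⟨l, a⟩ ⟨l', a'⟩ h
      have h1 : (η.symm l).1 = (η.symm l').1 := congrArg Sigma.fst h
      obtain rfl : l = l' := η.symm.injective (Subtype.ext h1)
      exact SpJordan.sig_ext d rfl (congrArg (fun y : (i : Fin t) × Fin (k i) => (y.2 : ℕ)) h)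
    · rintro ⟨i, a⟩
      have hi : k i ≠ 0 := fun h => absurd a.isLt (by omega)
      have hl : (η.symm (η ⟨i, hi⟩)).1 = i := by rw [Equiv.symm_apply_apply]
      exact ⟨⟨η ⟨i, hi⟩, ⟨a, by show a.val < k _; rw [hl]; exact a.isLt⟩⟩, SpJordan.sig_ext k hl rfl⟩
  let E := Equiv.ofBijective f hf
  let ce : (ι → F) →ₗ[F] Z := LinearMap.codRestrict Z (Matrix.toLin' e) fun x => LinearMap.mem_range_self _ x
  have hce : ∀ z : Z, ce z.1 = z := fun z => Subtype.ext (hfix z.1 z.2)
  let Q : Matrix ι ((l : Fin (Fintype.card {i // k i ≠ 0})) × Fin (d l)) F := fun r x => (bs (f x)).1 r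
  let P : Matrix ((l : Fin (Fintype.card {i // k i ≠ 0})) × Fin (d l)) ι F :=
    fun x r => bs.repr (ce (Pi.single r 1)) (f x)
  have hQ : ∀ x, Q *ᵥ Pi.single x 1 = (bs (f x)).1 := fun x => by rw [Matrix.mulVec_single_one]; rfl
  have hP : ∀ v x, (P *ᵥ v) x = bs.repr (ce v) (f x) := fun v x => by
    have hv : v = ∑ r : ι, v r • (Pi.single r (1 : F) : ι → F) := pi_eq_sum_univ' v
    conv_rhs => rw [hv]
    rw [map_sum, map_sum, Finsupp.finsetSum_apply]
    show ∑ r, P x r * v r = _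
    refine Finset.sum_congr rfl fun r _ => ?_
    rw [map_smul, map_smul, Finsupp.smul_apply, smul_eq_mul, mul_comm]
  refine ⟨_, d, P, Q, fun l => Nat.one_le_iff_ne_zero.2 (η.symm l).2, ?_, ?_, ?_⟩
  · refine Matrix.ext_of_mulVec_single fun x => ?_
    rw [← Matrix.mulVec_mulVec, hQ, Matrix.one_mulVec]
    funext x'
    rw [hP, hce, Module.Basis.repr_self, Finsupp.single_apply, Pi.single_apply]
    exact if_congr (hf.1.eq_iff.trans eq_comm) rfl rfl
  · refine Matrix.ext_of_mulVec_single fun r => ?_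
    rw [← Matrix.mulVec_mulVec]
    have h1 : ((∑ x, (P *ᵥ Pi.single r 1) x • bs (f x) : Z) : ι → F) = Q *ᵥ (P *ᵥ Pi.single r 1) := by
      funext s
      rw [Submodule.coe_sum, Finset.sum_apply]
      exact Finset.sum_congr rfl fun x _ => mul_comm _ _
    have h2' : ∑ x, (P *ᵥ Pi.single r 1) x • bs (f x) = ce (Pi.single r 1) := by
      conv_rhs => rw [← bs.sum_repr (ce (Pi.single r 1))]
      rw [← E.sum_comp]
      exact Finset.sum_congr rfl fun x _ => by rw [hP]; rfl
    rw [← h1, h2']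
    exact Matrix.toLin'_apply e _
  · refine Matrix.ext_of_mulVec_single fun x => ?_
    rw [← Matrix.mulVec_mulVec, hQ, ← Matrix.mulVec_mulVec, JordanCent.jordan_eq, Matrix.add_mulVec,
      Matrix.one_mulVec, Matrix.mulVec_add, hQ, show b = 1 + A by rw [hA]; abel, Matrix.add_mulVec,
      Matrix.one_mulVec]
    congr 1
    have h1 : A *ᵥ (bs (f x)).1 = ((N (bs (f x)) : Z) : ι → F) := (Matrix.toLin'_apply A _).symm
    rw [h1, hbs]
    by_cases hx : (x.2 : ℕ) + 1 < d x.1
    · rw [dif_pos (show ((f x).2 : ℕ) + 1 < k (f x).1 from hx)]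
      have hcol : JordanCent.nilM F d *ᵥ Pi.single x 1 = Pi.single ⟨x.1, ⟨x.2 + 1, hx⟩⟩ 1 := by
        rw [Matrix.mulVec_single_one]
        funext y
        simp only [Matrix.col_apply, JordanCent.nilM, Pi.single_apply]
        refine if_congr ⟨?_, ?_⟩ rfl rfl
        · rintro ⟨h1, h2⟩; exact SpJordan.sig_ext d h1 h2
        · rintro rfl; exact ⟨rfl, rfl⟩
      rw [hcol, hQ]
    · rw [dif_neg (show ¬ ((f x).2 : ℕ) + 1 < k (f x).1 from hx)]
      have hcol : JordanCent.nilM F d *ᵥ Pi.single x 1 = 0 := by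
        rw [Matrix.mulVec_single_one]
        funext y
        obtain ⟨l, a⟩ := y
        simp only [Matrix.col_apply, JordanCent.nilM, Pi.zero_apply]
        rw [if_neg]
        rintro ⟨h1, h2⟩
        subst h1
        exact hx (by rw [← h2]; exact a.isLt)
      rw [hcol, Matrix.mulVec_zero]
      rfl

section Coords

variable {t : ℕ} {d : Fin t → ℕ} {P : Matrix ((k : Fin t) × Fin (d k)) ι F}
  {Q : Matrix ι ((k : Fin t) × Fin (d k)) F} {b : Matrix ι ι F} {B : Matrix ι ι F}

theorem P_mul (hPQ : P * Q = 1) (hQP : Q * P = eP b) : P * eP b = P := by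
  rw [← hQP, ← Matrix.mul_assoc, hPQ, Matrix.one_mul]

theorem mul_Q (hPQ : P * Q = 1) (hQP : Q * P = eP b) : eP b * Q = Q := by
  rw [← hQP, Matrix.mul_assoc, hPQ, Matrix.mul_one]

theorem P_conj (hPQ : P * Q = 1) (hQP : Q * P = eP b) (hbQ : b * Q = Q * Cfsg.jordanTypeMatrix d F) :
    P * b = Cfsg.jordanTypeMatrix d F * P := by
  calc P * b = P * (eP b * b) := by rw [← Matrix.mul_assoc, P_mul hPQ hQP]
    _ = P * (b * eP b) := by rw [(commute_eP (Commute.refl b)).eq]
    _ = P * (b * Q) * P := by rw [← hQP]; simp only [Matrix.mul_assoc]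
    _ = _ := by rw [hbQ, ← Matrix.mul_assoc, hPQ, Matrix.one_mul]

/-- Pulling back a self-adjoint element splits off the pulled back form. -/
theorem pull_split (hPQ : P * Q = 1) (hQP : Q * P = eP b) {M : Matrix ι ι F} (hMc : Commute M b) :
    Qᵀ * B * M * Q = (Qᵀ * B * Q) * (P * M * Q) := by
  calc Qᵀ * B * M * Q = Qᵀ * B * (M * (eP b * Q)) := by rw [mul_Q hPQ hQP]; simp only [Matrix.mul_assoc]
    _ = Qᵀ * B * (eP b * M * Q) := by rw [← Matrix.mul_assoc M, (commute_eP hMc).eq]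
    _ = _ := by rw [← hQP]; simp only [Matrix.mul_assoc]

theorem det_pull (hPQ : P * Q = 1) (hQP : Q * P = eP b) {M : Matrix ι ι F} (hMc : Commute M b) :
    (P * M * Q).det = (M * eP b + (1 - eP b)).det := by
  have hMe : Commute M (eP b) := commute_eP hMc
  have h1 : M * eP b + (1 - eP b) = 1 + Q * ((P * M * Q - 1) * P) := by
    have h2 : Q * ((P * M * Q - 1) * P) = Q * P * M * (Q * P) - Q * P := by
      simp only [Matrix.sub_mul, Matrix.mul_sub, Matrix.one_mul, Matrix.mul_assoc]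
    rw [h2, hQP, ← hMe.eq, Matrix.mul_assoc, eP_idem]
    abel
  rw [h1, Matrix.det_one_add_mul_comm, Matrix.mul_assoc (P * M * Q - 1) P Q, hPQ, Matrix.mul_one, add_sub_cancel]

/-- The form attached to a self-adjoint element. -/
theorem isSForm_pull (hB : IsGram B) (hb : adj B b * b = 1) (hPQ : P * Q = 1) (hQP : Q * P = eP b)
    (hbQ : b * Q = Q * Cfsg.jordanTypeMatrix d F) {M : Matrix ι ι F} (hMc : Commute M b) (hMj : adj B M = M)
    (hMu : IsUnit M) : IsSForm d (Qᵀ * B * M * Q) := by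
  refine ⟨?_, ?_, ?_⟩
  · obtain ⟨u, rfl⟩ := hMu
    refine Matrix.isUnit_det_of_right_inverse
      (B := P * ((u⁻¹ : (Matrix ι ι F)ˣ) : Matrix ι ι F) * B⁻¹ * Pᵀ) ?_
    have hue : Commute (u : Matrix ι ι F) (eP b) := commute_eP hMc
    calc Qᵀ * B * (u : Matrix ι ι F) * Q * (P * ((u⁻¹ : (Matrix ι ι F)ˣ) : Matrix ι ι F) * B⁻¹ * Pᵀ)
        = Qᵀ * B * ((u : Matrix ι ι F) * (Q * P) * ((u⁻¹ : (Matrix ι ι F)ˣ) : Matrix ι ι F)) * B⁻¹ * Pᵀ := by
          simp only [Matrix.mul_assoc]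
      _ = Qᵀ * (B * eP b) * B⁻¹ * Pᵀ := by
          rw [hQP, hue.eq, Matrix.mul_assoc (eP b), u.mul_inv, Matrix.mul_one]; simp only [Matrix.mul_assoc]
      _ = Qᵀ * (eP b)ᵀ * Pᵀ := by
          conv_lhs => arg 1; arg 1; arg 2; arg 2; rw [← adj_eP hB hb]
          rw [mul_adj hB]
          simp only [Matrix.mul_assoc]
          rw [Matrix.mul_nonsing_inv_cancel_left _ _ hB.unit]
      _ = 1 := by rw [← Matrix.transpose_mul, mul_Q hPQ hQP, ← Matrix.transpose_mul, hPQ, Matrix.transpose_one]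
  · have h1 : Mᵀ * B = B * M := by rw [← mul_adj hB, hMj]
    calc (Qᵀ * B * M * Q)ᵀ = Qᵀ * (Mᵀ * B) * Q := by
          rw [Matrix.transpose_mul, Matrix.transpose_mul, Matrix.transpose_mul, Matrix.transpose_transpose, hB.symm]
          simp only [Matrix.mul_assoc]
      _ = _ := by rw [h1]; simp only [Matrix.mul_assoc]
  · have hbs : bᵀ * B * b = B := (adj_mul_self_iff hB b).1 hb
    show (Cfsg.jordanTypeMatrix d F)ᵀ * (Qᵀ * B * M * Q) * Cfsg.jordanTypeMatrix d F = Qᵀ * B * M * Q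
    calc (Cfsg.jordanTypeMatrix d F)ᵀ * (Qᵀ * B * M * Q) * Cfsg.jordanTypeMatrix d F
        = (Q * Cfsg.jordanTypeMatrix d F)ᵀ * B * M * (Q * Cfsg.jordanTypeMatrix d F) := by
          simp only [Matrix.transpose_mul, Matrix.mul_assoc]
      _ = Qᵀ * (bᵀ * B * (M * b)) * Q := by
          rw [← hbQ]; simp only [Matrix.transpose_mul, Matrix.mul_assoc]
      _ = Qᵀ * (bᵀ * B * b) * M * Q := by rw [hMc.eq]; simp only [Matrix.mul_assoc]
      _ = _ := by rw [hbs]

/-- Congruence on the part of eigenvalue one. -/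
theorem congr_eP {p : ℕ} [Fact p.Prime] [CharP F p] (hp : p ≠ 2) (h2 : (2 : F) ≠ 0) (hd : ∀ k, 1 ≤ d k)
    (hB : IsGram B) (hb : adj B b * b = 1) (hPQ : P * Q = 1) (hQP : Q * P = eP b)
    (hbQ : b * Q = Q * Cfsg.jordanTypeMatrix d F)
    {M M' : Matrix ι ι F} (hMc : Commute M b) (hMj : adj B M = M) (hMu : IsUnit M)
    (hMc' : Commute M' b) (hMj' : adj B M' = M') (hMu' : IsUnit M')
    (hbits : ∀ i, 1 ≤ i → Odd i → IsSquare ((SpClassCount.btop d (Qᵀ * B * M * Q) i).det *
      (SpClassCount.btop d (Qᵀ * B * M' * Q) i).det)) :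
    ∃ Y : Matrix ι ι F, Commute Y b ∧ eP b * Y = Y ∧ adj B Y * M * Y = M' * eP b := by
  obtain ⟨y, -, hy, hyW⟩ := congr_sym d (p := p) hd hp h2 (isSForm_pull hB hb hPQ hQP hbQ hMc hMj hMu)
    (isSForm_pull hB hb hPQ hQP hbQ hMc' hMj' hMu') hbits
  refine ⟨Q * y * P, ?_, by rw [← Matrix.mul_assoc, ← Matrix.mul_assoc, mul_Q hPQ hQP], ?_⟩
  · show Q * y * P * b = b * (Q * y * P)
    rw [Matrix.mul_assoc _ P, P_conj hPQ hQP hbQ, ← Matrix.mul_assoc b, ← Matrix.mul_assoc b, hbQ,
      Matrix.mul_assoc Q _ y, ← (SpClassCount.comm_iff d).1 hy]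
    simp only [Matrix.mul_assoc]
  · calc adj B (Q * y * P) * M * (Q * y * P) = B⁻¹ * Pᵀ * (yᵀ * (Qᵀ * B * M * Q) * y) * P := by
          simp only [adj, Matrix.transpose_mul, Matrix.mul_assoc]
      _ = adj B (Q * P) * M' * (Q * P) := by
          rw [hyW]; simp only [adj, Matrix.transpose_mul, Matrix.mul_assoc]
      _ = M' * eP b := by
          rw [hQP, adj_eP hB hb, ← (commute_eP hMc').eq, Matrix.mul_assoc, eP_idem]

/-- The square classes on the blocks determine the determinant up to squares. -/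
theorem det_eP_square (hd : ∀ k, 1 ≤ d k)
    (hB : IsGram B) (hb : adj B b * b = 1) (hPQ : P * Q = 1) (hQP : Q * P = eP b)
    (hbQ : b * Q = Q * Cfsg.jordanTypeMatrix d F)
    {M M' : Matrix ι ι F} (hMc : Commute M b) (hMj : adj B M = M) (hMu : IsUnit M)
    (hMc' : Commute M' b) (hMj' : adj B M' = M') (hMu' : IsUnit M') :
    IsSquare ((M * eP b + (1 - eP b)).det * (M' * eP b + (1 - eP b)).det *
      ∏ i ∈ Finset.univ.image d, ((SpClassCount.btop d (Qᵀ * B * M * Q) i).det *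
        (SpClassCount.btop d (Qᵀ * B * M' * Q) i).det) ^ i) := by
  set W := Qᵀ * B * M * Q with hW
  set W' := Qᵀ * B * M' * Q with hW'
  have hsW := isSForm_pull hB hb hPQ hQP hbQ hMc hMj hMu
  have hsW' := isSForm_pull hB hb hPQ hQP hbQ hMc' hMj' hMu'
  have hXc : SpClassCount.Comm d (W⁻¹ * W') := SpClassCount.comm_of_inv d hd hsW.inv hsW.unit hsW'.inv
  have hXu : IsUnit (W⁻¹ * W').det := by
    rw [Matrix.det_mul]; exact (Matrix.isUnit_nonsing_inv_det _ hsW.unit).mul hsW'.unit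
  have hX := det_comm d hd hXc hXu
  set T : ℕ → F := fun i => (SpClassCount.topC d hd (W⁻¹ * W') i).det with hT
  have hWW : W * (W⁻¹ * W') = W' := Matrix.mul_nonsing_inv_cancel_left _ _ hsW.unit
  have hprod : ∏ i ∈ Finset.univ.image d, ((SpClassCount.btop d W i).det * (SpClassCount.btop d W' i).det) ^ i =
      (∏ i ∈ Finset.univ.image d, ((SpClassCount.btop d W i).det) ^ i) ^ 2 * ∏ i ∈ Finset.univ.image d, T i ^ i := by
    rw [← Finset.prod_pow, ← Finset.prod_mul_distrib]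
    refine Finset.prod_congr rfl fun i hi => ?_
    obtain ⟨k, -, rfl⟩ := Finset.mem_image.1 hi
    have h := SpClassCount.btop_mul d hd hsW.inv hXc (i := d k) (hd k)
    rw [hWW] at h
    rw [h, Matrix.det_mul, mul_pow, mul_pow, ← pow_mul, mul_comm (d k) 2, pow_mul, ← mul_pow _ _ (d k)]
    ring
  have hdW : W'.det = W.det * ∏ i ∈ Finset.univ.image d, T i ^ i := by
    conv_lhs => rw [← hWW, Matrix.det_mul, hX]
  have e1 : W.det = (Qᵀ * B * Q).det * (M * eP b + (1 - eP b)).det := by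
    rw [hW, pull_split hPQ hQP hMc, Matrix.det_mul, det_pull hPQ hQP hMc]
  have e2 : W'.det = (Qᵀ * B * Q).det * (M' * eP b + (1 - eP b)).det := by
    rw [hW', pull_split hPQ hQP hMc', Matrix.det_mul, det_pull hPQ hQP hMc']
  set A₀ := (Qᵀ * B * Q).det with hA₀
  set x := (M * eP b + (1 - eP b)).det
  set x' := (M' * eP b + (1 - eP b)).det
  have hA : A₀ ≠ 0 := fun h => hsW.unit.ne_zero (by rw [e1, h, zero_mul])
  rw [hprod]
  refine ⟨(∏ i ∈ Finset.univ.image d, ((SpClassCount.btop d W i).det) ^ i) * x *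
    ∏ i ∈ Finset.univ.image d, T i ^ i, ?_⟩
  have e3 : x' = x * ∏ i ∈ Finset.univ.image d, T i ^ i := mul_left_cancel₀ hA (by
    rw [← e2, hdW, e1, mul_assoc])
  rw [e3]
  ring

theorem mem_range_eP_of_ker (r : ℕ) {x : ι → F} (hx : (b - 1) ^ r *ᵥ x = 0) : eP b *ᵥ x = x := by
  have hN : (b - 1) ^ idN (Matrix ι ι F) *ᵥ x = 0 := by
    have h1 : (b - 1) ^ idN (Matrix ι ι F) = ((b - 1) ^ idN (Matrix ι ι F)) ^ (r + 1) :=
      (IsIdempotentElem.pow_succ_eq r (pow_idN _)).symm
    rw [h1, ← pow_mul, show idN (Matrix ι ι F) * (r + 1) = (idN (Matrix ι ι F) * (r + 1) - r) + r by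
      have : r + 1 ≤ idN (Matrix ι ι F) * (r + 1) := Nat.le_mul_of_pos_left _ (idN_pos _)
      omega, pow_add, ← Matrix.mulVec_mulVec, hx, Matrix.mulVec_zero]
  rw [eP, Matrix.sub_mulVec, Matrix.one_mulVec, hN, sub_zero]

/-- The kernels of the powers of `b - 1`. -/
theorem finrank_ker_sub_one (hPQ : P * Q = 1) (hQP : Q * P = eP b)
    (hbQ : b * Q = Q * Cfsg.jordanTypeMatrix d F) (r : ℕ) :
    Module.finrank F (LinearMap.ker (Matrix.toLin' ((b - 1) ^ r))) = ∑ k, min r (d k) := by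
  classical
  have hpow : ∀ r : ℕ, (b - 1) ^ r * Q = Q * JordanCent.nilM F d ^ r := by
    intro r
    induction r with
    | zero => rw [pow_zero, pow_zero, Matrix.one_mul, Matrix.mul_one]
    | succ r ih =>
      rw [pow_succ', pow_succ, Matrix.mul_assoc, ih, ← Matrix.mul_assoc, ← Matrix.mul_assoc, Matrix.sub_mul,
        hbQ, JordanCent.jordan_eq, Matrix.mul_add, Matrix.mul_one, Matrix.one_mul, add_sub_cancel_left,
        Matrix.mul_assoc Q, ← pow_succ', pow_succ, ← Matrix.mul_assoc]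
  have hN : Module.finrank F (LinearMap.ker (Matrix.toLin' (JordanCent.nilM F d ^ r))) = ∑ k, min r (d k) := by
    have hch : JordanType.IsChain (Matrix.toLin' (JordanCent.nilM F d))
        (Pi.basisFun F ((k : Fin t) × Fin (d k))) := by
      intro x
      rw [Pi.basisFun_apply, Matrix.toLin'_apply, Matrix.mulVec_single_one]
      split_ifs with h
      · rw [Pi.basisFun_apply]
        funext y
        simp only [Matrix.col_apply, JordanCent.nilM, Pi.single_apply]
        refine if_congr ⟨?_, ?_⟩ rfl rfl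
        · rintro ⟨h1, h2⟩; exact SpJordan.sig_ext d h1 h2
        · rintro rfl; exact ⟨rfl, rfl⟩
      · funext y
        obtain ⟨l, a⟩ := y
        simp only [Matrix.col_apply, JordanCent.nilM, Pi.zero_apply]
        rw [if_neg]
        rintro ⟨h1, h2⟩
        subst h1
        exact h (by rw [← h2]; exact a.isLt)
    have h1 := LinearMap.finrank_range_add_finrank_ker (Matrix.toLin' (JordanCent.nilM F d ^ r))
    have h2 := hch.finrank_range r
    rw [← Matrix.toLin'_pow] at h2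
    rw [h2, Module.finrank_fintype_fun_eq_card, Fintype.card_sigma] at h1
    simp only [Fintype.card_fin] at h1
    have h3 : ∑ k, (d k - r) + ∑ k, min r (d k) = ∑ k, d k := by
      rw [← Finset.sum_add_distrib]
      exact Finset.sum_congr rfl fun k _ => by omega
    omega
  rw [← hN]
  refine LinearEquiv.finrank_eq
    { toFun := fun x => ⟨P *ᵥ x.1, ?_⟩
      invFun := fun y => ⟨Q *ᵥ y.1, ?_⟩
      map_add' := fun x y => Subtype.ext (by simp [Matrix.mulVec_add])
      map_smul' := fun c x => Subtype.ext (by simp [Matrix.mulVec_smul])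
      left_inv := fun x => Subtype.ext ?_
      right_inv := fun y => Subtype.ext ?_ }
  · have hx := LinearMap.mem_ker.1 x.2
    rw [Matrix.toLin'_apply] at hx
    rw [LinearMap.mem_ker, Matrix.toLin'_apply, Matrix.mulVec_mulVec]
    have h1 : JordanCent.nilM F d ^ r * P = P * (b - 1) ^ r * (Q * P) := by
      rw [← Matrix.mul_assoc, Matrix.mul_assoc P, hpow, ← Matrix.mul_assoc P, hPQ, Matrix.one_mul]
    rw [h1, ← Matrix.mulVec_mulVec, hQP, mem_range_eP_of_ker r hx, ← Matrix.mulVec_mulVec, hx,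
      Matrix.mulVec_zero]
  · have hy := LinearMap.mem_ker.1 y.2
    rw [Matrix.toLin'_apply] at hy
    rw [LinearMap.mem_ker, Matrix.toLin'_apply, Matrix.mulVec_mulVec, hpow, ← Matrix.mulVec_mulVec, hy,
      Matrix.mulVec_zero]
  · have hx := LinearMap.mem_ker.1 x.2
    rw [Matrix.toLin'_apply] at hx
    show Q *ᵥ (P *ᵥ x.1) = x.1
    rw [Matrix.mulVec_mulVec, hQP, mem_range_eP_of_ker r hx]
  · show P *ᵥ (Q *ᵥ y.1) = y.1
    rw [Matrix.mulVec_mulVec, hPQ, Matrix.one_mulVec]

end Coords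

end Cfsg.Agent.Small.ClassNumberO
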