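import Mathlib
import Cfsg.Agent.Lib.Small.ClassNumberO.Coords
import Cfsg.Agent.Lib.Small.ClassNumberU.Dual
import Cfsg.Agent.Lib.Small.Gram.Basic

/-!
The parameters of an orthogonal matrix in the general linear group.
-/

set_option autoImplicit false
set_option linter.unusedSectionVars false
set_option linter.style.haveILetI false

namespace Cfsg.Agent.Small.ClassNumberO

open Matrix Polynomial Cfsg.Agent.Small.ClassNumber Cfsg.Agent.Small.ClassNumberU Cfsg.Agent.Small.ClassNumberSp

attribute [local instance] starRingOfComm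

universe u

variable {F : Type u} [Field F] [Fintype F] {ι : Type} [Fintype ι] [DecidableEq ι] {B : Matrix ι ι F} {N : ℕ}

theorem nullity {κ : Type*} [Fintype κ] [DecidableEq κ] (A : Matrix κ κ F) :
    Module.finrank F (LinearMap.ker (Matrix.toLin' A)) = Fintype.card κ - A.rank := by
  have h := LinearMap.finrank_range_add_finrank_ker (Matrix.toLin' A)
  rw [Module.finrank_fintype_fun_eq_card] at h
  have h2 : Module.finrank F (LinearMap.range (Matrix.toLin' A)) = A.rank := rfl
  omega

/-- an orthogonal matrix as an element of the general linear group of a standard space -/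
noncomputable def toGL (e : ι ≃ Fin N) : ↥(Gram.Iso B) →* GL (Fin N) F :=
  (Units.map (Matrix.reindexAlgEquiv F F e).toMonoidHom).comp (Gram.Iso B).subtype

theorem toGL_val (e : ι ≃ Fin N) (g : ↥(Gram.Iso B)) :
    (toGL e g : Matrix (Fin N) (Fin N) F) = Matrix.reindexAlgEquiv F F e g.1.1 := rfl

theorem toGL_symm (e : ι ≃ Fin N) (g : ↥(Gram.Iso B)) :
    (Matrix.reindexAlgEquiv F F e).symm (toGL e g : Matrix (Fin N) (Fin N) F) = g.1.1 := by
  rw [toGL_val, AlgEquiv.symm_apply_apply]

theorem iso_adj (hB : IsGram B) (g : ↥(Gram.Iso B)) : adj B g.1.1 * g.1.1 = 1 :=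
  (adj_mul_self_iff hB g.1.1).2 (Gram.mem_iso.1 g.2)

theorem finrank_ker_aeval (e : ι ≃ Fin N) (g : ↥(Gram.Iso B)) (P : F[X]) :
    Module.finrank F (LinearMap.ker (aeval (Matrix.toLinAlgEquiv' (toGL e g).1) P)) =
      Module.finrank F (LinearMap.ker (Matrix.toLin' (aeval g.1.1 P))) := by
  rw [aeval_toLinAlgEquiv']
  refine (nullity (aeval (toGL e g : Matrix (Fin N) (Fin N) F) P)).trans ?_
  rw [nullity, Fintype.card_congr e]
  congr 1
  rw [toGL_val, show aeval (Matrix.reindexAlgEquiv F F e g.1.1) P = Matrix.reindexAlgEquiv F F e (aeval g.1.1 P) from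
      aeval_algHom_apply (Matrix.reindexAlgEquiv F F e).toAlgHom g.1.1 P,
    Matrix.coe_reindexAlgEquiv, Matrix.rank_reindex]

theorem finrank_ker_dual_o (hB : IsGram B) (e : ι ≃ Fin N) (g : ↥(Gram.Iso B)) {P : F[X]} (h0 : P.coeff 0 ≠ 0) :
    Module.finrank F (LinearMap.ker (aeval (Matrix.toLinAlgEquiv' (toGL e g).1) (dual P))) =
      Module.finrank F (LinearMap.ker (aeval (Matrix.toLinAlgEquiv' (toGL e g).1) P)) := by
  rw [finrank_ker_aeval, finrank_ker_aeval, nullity, nullity]
  congr 1
  set A := g.1.1 with hA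
  have hBA : adj B A * A = 1 := iso_adj hB g
  have hAB : A * adj B A = 1 := mul_eq_one_comm.1 hBA
  have hstar : (starRingEnd F : F →+* F) = RingHom.id F := RingHom.ext fun _ => rfl
  have hsim : ∀ R : F[X], aeval (adj B A) R = adj B (aeval A R) := by
    intro R
    induction R using Polynomial.induction_on' with
    | add p r hp hr => rw [map_add, map_add, adj_add, hp, hr]
    | monomial i a =>
      rw [aeval_monomial, aeval_monomial, ← Algebra.smul_def, ← Algebra.smul_def, adj_smul, adj_pow hB]
  have h := aeval_reflect (F := F) hAB P.natDegree P le_rfl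
  have e' : aeval A (dual P) = (star (P.coeff 0))⁻¹ • (adj B (aeval A P) * A ^ P.natDegree) := by
    rw [← hsim, ← h, mul_assoc, ← (Commute.mul_pow (show Commute (adj B A) A from hBA.trans hAB.symm)), hBA,
      one_pow, mul_one, Algebra.smul_def, dual, map_mul, aeval_C, Polynomial.reverse, hstar, Polynomial.map_id]
  rw [e']
  have hu : IsUnit (A ^ P.natDegree).det :=
    (Matrix.isUnit_iff_isUnit_det _).1 ((IsUnit.of_mul_eq_one _ hAB).pow _)
  rw [Algebra.smul_def, Matrix.rank_mul_eq_right_of_isUnit_det _ _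
    ((Matrix.isUnit_iff_isUnit_det _).1 ((inv_ne_zero (star_ne_zero.2 h0)).isUnit.map (algebraMap F _))),
    Matrix.rank_mul_eq_left_of_isUnit_det _ _ hu, adj,
    Matrix.rank_mul_eq_left_of_isUnit_det _ _ hB.unit,
    Matrix.rank_mul_eq_right_of_isUnit_det _ _ (Matrix.isUnit_nonsing_inv_det _ hB.unit),
    Matrix.rank_transpose]

/-- The parameters are self-dual. -/
theorem dataOf_selfDual_o (hB : IsGram B) (e : ι ≃ Fin N) (g : ↥(Gram.Iso B)) (k : Fin N) :
    dual ((dataOf (toGL e g)).1 k) = (dataOf (toGL e g)).1 k := by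
  classical
  set D := decompOf (toGL e g) with hD
  have h1 : ∀ P : F[X], Irreducible P → P.Monic → ∀ j,
      Module.finrank F (LinearMap.ker (aeval (Matrix.toLinAlgEquiv' (toGL e g).1) (dualF P ^ j))) =
        Module.finrank F (LinearMap.ker (aeval (Matrix.toLinAlgEquiv' (toGL e g).1) (P ^ j))) := by
    intro P hP hm j
    by_cases h0 : P.coeff 0 = 0
    · rw [show dualF P = P from if_neg fun h => h.2 h0]
    · have ej : ∀ j, dual (P ^ j) = dual P ^ j := fun j => by
        induction j with
        | zero => rw [pow_zero, pow_zero, dual_one]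
        | succ j ih => rw [pow_succ, pow_succ, dual_mul, ih]
      rw [dualF_eq hm h0, ← ej]
      refine finrank_ker_dual_o hB e g ?_
      rw [coeff_zero_eq_eval_zero, eval_pow]
      exact pow_ne_zero _ (by rwa [← coeff_zero_eq_eval_zero])
  have h2 := D.part_eq D dualF dualF_invol.injective (fun P hP hm => irreducible_dualF hP hm)
    (fun Q hQ hm => ⟨dualF Q, (irreducible_dualF hQ hm).1, (irreducible_dualF hQ hm).2.1, dualF_invol Q⟩) h1
    (k.val + 1) (Nat.succ_ne_zero _)
  show dual (D.part (k.val + 1)).prod = (D.part (k.val + 1)).prod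
  conv_rhs => rw [h2]
  have h3 : ∀ P ∈ D.part (k.val + 1), P.Monic ∧ P.coeff 0 ≠ 0 := fun P hP => by
    obtain ⟨i, -, rfl⟩ := Multiset.mem_map.1 hP
    exact ⟨D.monic i, D.coeff_zero_ne (det_ne_zero' (toGL e g)) i⟩
  generalize D.part (k.val + 1) = s at h3 ⊢
  induction s using Multiset.induction with
  | empty => simp [dual_one]
  | cons P s ih =>
    obtain ⟨hm, h0⟩ := h3 P (Multiset.mem_cons_self _ _)
    rw [Multiset.prod_cons, dual_mul, Multiset.map_cons, Multiset.prod_cons, dualF_eq hm h0,
      ih fun Q hQ => h3 Q (Multiset.mem_cons_of_mem hQ)]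

open _root_.Classical in
/-- The multiplicities of `X - c` in the parameters are the numbers of blocks. -/
theorem count_part_linear (e : ι ≃ Fin N) (g : ↥(Gram.Iso B)) {c : F} (hc : c * c = 1) {t : ℕ}
    {d : Fin t → ℕ} {P : Matrix ((k : Fin t) × Fin (d k)) ι F}
    {Q : Matrix ι ((k : Fin t) × Fin (d k)) F} (hPQ : P * Q = 1) (hQP : Q * P = eP (c • g.1.1))
    (hbQ : (c • g.1.1) * Q = Q * Cfsg.jordanTypeMatrix d F) {i : ℕ} (hi : 1 ≤ i) :
    ((decompOf (toGL e g)).part i).count (X - C c) = (Finset.univ.filter (fun k : Fin t => d k = i)).card := by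
  set D := decompOf (toGL e g) with hD
  have hS : ∀ j, ∑ l ∈ Finset.univ.filter (fun l => D.p l = X - C c), min j (D.e l) = ∑ k, min j (d k) := by
    intro j
    have h := D.kerDim_eq (irreducible_X_sub_C c) (monic_X_sub_C c) j
    rw [natDegree_X_sub_C, one_mul] at h
    rw [← h, finrank_ker_aeval, ← finrank_ker_sub_one hPQ hQP hbQ j]
    have e' : (c • g.1.1 - 1) ^ j = c ^ j • (aeval g.1.1 ((X - C c) ^ j)) := by
      rw [map_pow, map_sub, aeval_X, aeval_C, ← _root_.smul_pow, smul_sub, Algebra.algebraMap_eq_smul_one,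
        smul_smul, hc, one_smul]
    rw [e', map_smul, LinearMap.ker_smul _ _ (pow_ne_zero _ fun h0 => by simp [h0] at hc)]
  have key : ∀ {κ : Type u} (s : Finset κ) (f : κ → ℕ), 2 * ∑ l ∈ s, min i (f l) =
      (s.filter fun l => f l = i).card + ∑ l ∈ s, min (i - 1) (f l) + ∑ l ∈ s, min (i + 1) (f l) := by
    intro κ s f
    rw [Finset.mul_sum, Finset.card_filter, ← Finset.sum_add_distrib, ← Finset.sum_add_distrib]
    refine Finset.sum_congr rfl fun l _ => ?_
    split_ifs <;> omega
  have key' : 2 * ∑ k : Fin t, min i (d k) =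
      (Finset.univ.filter fun k : Fin t => d k = i).card + ∑ k : Fin t, min (i - 1) (d k) +
        ∑ k : Fin t, min (i + 1) (d k) := by
    rw [Finset.mul_sum, Finset.card_filter, ← Finset.sum_add_distrib, ← Finset.sum_add_distrib]
    refine Finset.sum_congr rfl fun l _ => ?_
    split_ifs <;> omega
  have h1 := key (Finset.univ.filter fun l => D.p l = X - C c) D.e
  rw [hS, hS, hS, Finset.filter_filter] at h1
  rw [D.count_part]
  omega

open _root_.Classical in
theorem even_of_sform {t : ℕ} (d : Fin t → ℕ) (hd : ∀ k, 1 ≤ d k) (h2 : (2 : F) ≠ 0)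
    {W : Matrix ((k : Fin t) × Fin (d k)) ((k : Fin t) × Fin (d k)) F} (hW : IsSForm d W) {j : ℕ} (hj1 : 1 ≤ j)
    (hj : Even j) : Even (Finset.univ.filter (fun k : Fin t => d k = j)).card := by
  by_contra hne
  rw [Nat.not_even_iff_odd] at hne
  have hu := SpClassCount.isUnit_btop d hd hW.inv hW.unit (i := j) hj1
  have ht := congrArg Matrix.det (btop_transpose_sym d hW.inv hW.symm (i := j) hj1)
  rw [Matrix.det_transpose, hj.add_one.neg_one_pow, Matrix.det_smul, Fintype.card_subtype, hne.neg_one_pow] at ht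
  exact hu.ne_zero ((mul_eq_zero.1 (show (2 : F) * (SpClassCount.btop d W j).det = 0 by
    linear_combination ht)).resolve_left h2)

open _root_.Classical in
/-- For even sizes the parameters have even degree and constant term one. -/
theorem even_part (hB : IsGram B) (h2 : (2 : F) ≠ 0) (e : ι ≃ Fin N) (g : ↥(Gram.Iso B)) (k : Fin N)
    (hk : Even (k.val + 1)) :
    Even ((dataOf (toGL e g)).1 k).natDegree ∧ ((dataOf (toGL e g)).1 k).coeff 0 = 1 := by
  set D := decompOf (toGL e g) with hD
  set s := D.part (k.val + 1) with hs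
  have hcount : ∀ c : F, c * c = 1 → Even (s.count (X - C c)) := by
    intro c hc
    obtain ⟨t, d, P, Q, hd, hPQ, hQP, hbQ⟩ := exists_coords (c • g.1.1)
    rw [hs, count_part_linear e g hc hPQ hQP hbQ (Nat.succ_le_succ (Nat.zero_le _))]
    exact even_of_sform d hd h2
      (isSForm_pull hB (adj_smul_mul hc (iso_adj hB g)) hPQ hQP hbQ (Commute.one_left _) (adj_one hB)
        isUnit_one) (Nat.succ_le_succ (Nat.zero_le _)) hk
  obtain ⟨a, ha⟩ := hcount 1 (one_mul 1)
  obtain ⟨b, hb⟩ := hcount (-1) (by ring)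
  have hne : (X - C (1 : F)) ≠ X - C (-1) := fun h => h2 (by
    have h1 := congrArg (fun p : F[X] => p.eval 1) h
    simp only [eval_sub, eval_X, eval_C, sub_self, sub_neg_eq_add] at h1
    linear_combination -h1)
  set rest := s.filter (fun P => P ≠ X - C (1 : F) ∧ P ≠ X - C (-1)) with hrest
  have hsplit : s = Multiset.replicate (a + a) (X - C (1 : F)) + Multiset.replicate (b + b) (X - C (-1)) + rest := by
    refine Multiset.ext.2 fun P => ?_
    rw [Multiset.count_add, Multiset.count_add, Multiset.count_replicate, Multiset.count_replicate, hrest,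
      Multiset.count_filter]
    by_cases h1 : P = X - C 1
    · subst h1; rw [if_pos rfl, if_neg (Ne.symm hne), if_neg (fun h => h.1 rfl), ← ha]; omega
    by_cases h3 : P = X - C (-1)
    · subst h3; rw [if_neg hne, if_pos rfl, if_neg (fun h => h.2 rfl), ← hb]; omega
    · rw [if_neg (Ne.symm h1), if_neg (Ne.symm h3), if_pos ⟨h1, h3⟩]; omega
  set H := rest.prod with hH
  have hrest' : ∀ P ∈ rest, Irreducible P ∧ P.Monic := fun P hP => D.part_spec (Multiset.mem_filter.1 hP).1
  have hHm : H.Monic := prod_monic hrest'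
  have hG : (dataOf (toGL e g)).1 k = (X - C (1 : F)) ^ (a + a) * (X - C (-1)) ^ (b + b) * H := by
    show s.prod = _
    conv_lhs => rw [hsplit]
    rw [Multiset.prod_add, Multiset.prod_add, Multiset.prod_replicate, Multiset.prod_replicate]
  have hroot : ∀ c : F, c = 1 ∨ c = -1 → H.eval c ≠ 0 := by
    intro c hc h
    rw [hH, eval_multiset_prod, Multiset.prod_eq_zero_iff] at h
    obtain ⟨P, hP, hP0⟩ := Multiset.mem_map.1 h
    obtain ⟨hPi, hPm⟩ := hrest' P hP
    have e' : X - C c = P := eq_of_monic_of_associated (monic_X_sub_C c) hPm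
      ((irreducible_X_sub_C c).associated_of_dvd hPi (dvd_iff_isRoot.2 hP0))
    have := (Multiset.mem_filter.1 hP).2
    rcases hc with rfl | rfl
    · exact this.1 e'.symm
    · exact this.2 e'.symm
  have hlin : ∀ c : F, c * c = 1 → dual (X - C c) = X - C c := by
    intro c hc
    have hc0 : c ≠ 0 := fun h => by simp [h] at hc
    refine Polynomial.ext fun i => ?_
    by_cases hi : i ≤ (X - C c).natDegree
    · rw [coeff_dual _ hi, natDegree_X_sub_C]
      rw [natDegree_X_sub_C] at hi
      show ((X - C c).coeff 0)⁻¹ * (X - C c).coeff (1 - i) = _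
      have hinv : c⁻¹ = c := inv_eq_of_mul_eq_one_right hc
      rcases (show i = 0 ∨ i = 1 by omega) with rfl | rfl
      · simp [inv_neg, hinv]
      · simp [inv_neg, hinv, hc]
    · have hd : (dual (X - C c)).natDegree = (X - C c).natDegree :=
        (dual_spec (monic_X_sub_C c) (by simp [hc0])).2.1
      rw [coeff_eq_zero_of_natDegree_lt (by omega), coeff_eq_zero_of_natDegree_lt (by omega)]
  have hpow : ∀ (P : F[X]) (n : ℕ), dual P = P → dual (P ^ n) = P ^ n := fun P n hP => by
    induction n with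
    | zero => rw [pow_zero, dual_one]
    | succ n ih => rw [pow_succ, dual_mul, ih, hP]
  have hHd : dual H = H := by
    have h := dataOf_selfDual_o hB e g k
    rw [hG, dual_mul, dual_mul, hpow _ _ (hlin 1 (one_mul 1)), hpow _ _ (hlin (-1) (by ring))] at h
    exact mul_left_cancel₀ (mul_ne_zero (pow_ne_zero _ (X_sub_C_ne_zero _)) (pow_ne_zero _ (X_sub_C_ne_zero _))) h
  have heval : ∀ c : F, c * c = 1 → H.eval c = (H.coeff 0)⁻¹ * (c ^ H.natDegree * H.eval c) := by
    intro c hc
    have h := aeval_reflect (F := F) (R := F) hc H.natDegree H le_rfl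
    rw [← coe_aeval_eq_eval]
    conv_lhs => rw [← hHd]
    rw [dual, show (starRingEnd F : F →+* F) = RingHom.id F from RingHom.ext fun _ => rfl, Polynomial.map_id,
      map_mul, aeval_C, Algebra.algebraMap_self_apply]
    congr 1
    rw [Polynomial.reverse, ← h, ← mul_assoc, mul_comm (c ^ H.natDegree), mul_assoc, ← mul_pow, hc, one_pow,
      mul_one]
  have h10 : H.coeff 0 = 1 := by
    have h := heval 1 (one_mul 1)
    rw [one_pow, one_mul] at h
    exact inv_eq_one.1 ((mul_eq_right₀ (hroot 1 (Or.inl rfl))).1 h.symm)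
  have hev : Even H.natDegree := by
    have h := heval (-1) (by ring)
    rw [h10, inv_one, one_mul] at h
    have h' : (-1 : F) ^ H.natDegree = 1 := (mul_eq_right₀ (hroot (-1) (Or.inr rfl))).1 h.symm
    rcases Nat.even_or_odd H.natDegree with he | ho
    · exact he
    · rw [ho.neg_one_pow] at h'
      exact absurd (by linear_combination -h') h2
  constructor
  · rw [hG, Monic.natDegree_mul (((monic_X_sub_C _).pow _).mul ((monic_X_sub_C _).pow _)) hHm,
      Monic.natDegree_mul ((monic_X_sub_C _).pow _) ((monic_X_sub_C _).pow _), natDegree_pow, natDegree_pow,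
      natDegree_X_sub_C, natDegree_X_sub_C, mul_one, mul_one]
    exact ((Even.add_self a).add (Even.add_self b)).add hev
  · rw [hG, mul_coeff_zero, mul_coeff_zero, coeff_zero_eq_eval_zero, coeff_zero_eq_eval_zero, eval_pow,
      eval_pow, h10]
    simp [Even.neg_one_pow (Even.add_self a)]

open _root_.Classical in
/-- A block of size `i` gives a root of the parameter. -/
theorem eval_eq_zero_of_block (e : ι ≃ Fin N) (g : ↥(Gram.Iso B)) {c : F} (hc : c * c = 1) {t : ℕ}
    {d : Fin t → ℕ} {P : Matrix ((k : Fin t) × Fin (d k)) ι F}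
    {Q : Matrix ι ((k : Fin t) × Fin (d k)) F} (hPQ : P * Q = 1) (hQP : Q * P = eP (c • g.1.1))
    (hbQ : (c • g.1.1) * Q = Q * Cfsg.jordanTypeMatrix d F) {l : Fin t} (hl : 1 ≤ d l) :
    ∃ k : Fin N, d l = k.val + 1 ∧ ((dataOf (toGL e g)).1 k).eval c = 0 := by
  set D := decompOf (toGL e g) with hD
  have hpos : 0 < (D.part (d l)).count (X - C c) := by
    rw [count_part_linear e g hc hPQ hQP hbQ hl]
    exact Finset.card_pos.2 ⟨l, Finset.mem_filter.2 ⟨Finset.mem_univ _, rfl⟩⟩
  have hle : d l ≤ N := by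
    by_contra hlt
    rw [D.part_large (by rw [finrank_fin]; omega), Multiset.count_zero] at hpos
    exact lt_irrefl 0 hpos
  obtain ⟨j, hj⟩ : ∃ j, d l = j + 1 := ⟨d l - 1, by omega⟩
  rw [hj] at hpos
  refine ⟨⟨j, by omega⟩, hj, ?_⟩
  exact dvd_iff_isRoot.1 (Multiset.dvd_prod (Multiset.count_pos.1 hpos))

end Cfsg.Agent.Small.ClassNumberO
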