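import Mathlib
import Cfsg.Agent.Lib.Small.ClassNumberO.Data

/-!
The classes of an orthogonal group by parameters and all but one of the square classes.
-/

set_option autoImplicit false
set_option linter.unusedSectionVars false
set_option linter.style.haveILetI false

namespace Cfsg.Agent.Small.ClassNumberO

open Matrix Polynomial Cfsg.Agent.Small.ClassNumber Cfsg.Agent.Small.ClassNumberU Cfsg.Agent.Small.ClassNumberSp

attribute [local instance] starRingOfComm

universe u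

variable {F : Type u} [Field F] [Fintype F] {ι : Type} [Fintype ι] [DecidableEq ι] {B : Matrix ι ι F} {N : ℕ}

/-- the conditions on the parameter of one size -/
def ValidO (k : ℕ) (x : F[X] × Bool × Bool) : Prop :=
  x.1.Monic ∧ x.1.coeff 0 ≠ 0 ∧ dual x.1 = x.1 ∧ (Even k → Even x.1.natDegree ∧ x.1.coeff 0 = 1) ∧
    (x.2.1 = true → Odd k ∧ x.1.eval 1 = 0) ∧ (x.2.2 = true → Odd k ∧ x.1.eval (-1) = 0)

variable (F) in
/-- the parameters -/
def SeqO (M n : ℕ) : Type u :=
  {x : Fin M → F[X] × Bool × Bool //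
    (∀ k, ValidO (k.val + 1) (x k)) ∧ ∑ k, (k.val + 1) * (x k).1.natDegree = n}

/-- the sizes carrying a square class -/
def Cap {M : ℕ} (G : Fin M → F[X]) (ε : F) (k : Fin M) : Prop := Odd (k.val + 1) ∧ (G k).eval ε = 0

/-- the designated square class -/
def IsFirst {M : ℕ} (G : Fin M → F[X]) (ε : F) (k : Fin M) : Prop :=
  (ε = 1 ∨ ε = -1 ∧ ¬ Cap G 1 k) ∧ Cap G ε k ∧ ∀ k', k' < k → ¬ Cap G 1 k' ∧ ¬ Cap G (-1) k'

theorem isFirst_unique {M : ℕ} {G : Fin M → F[X]} {ε ε' : F} {k k' : Fin M}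
    (h : IsFirst G ε k) (h' : IsFirst G ε' k') : ε = ε' ∧ k = k' := by
  obtain ⟨he, hc, hl⟩ := h
  obtain ⟨he', hc', hl'⟩ := h'
  have hk : k = k' := by
    rcases lt_trichotomy k k' with hlt | heq | hgt
    · rcases he with rfl | ⟨rfl, -⟩
      · exact absurd hc (hl' k hlt).1
      · exact absurd hc (hl' k hlt).2
    · exact heq
    · rcases he' with rfl | ⟨rfl, -⟩
      · exact absurd hc' (hl k' hgt).1
      · exact absurd hc' (hl k' hgt).2
  subst hk
  refine ⟨?_, rfl⟩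
  rcases he with rfl | ⟨rfl, hn⟩ <;> rcases he' with rfl | ⟨rfl, hn'⟩
  · rfl
  · exact absurd hc hn'
  · exact absurd hc' hn
  · rfl

/-- the designated square class is switched off -/
def Normal {M : ℕ} (x : Fin M → F[X] × Bool × Bool) : Prop :=
  ∀ k, (IsFirst (fun j => (x j).1) 1 k → (x k).2.1 = false) ∧
    (IsFirst (fun j => (x j).1) (-1) k → (x k).2.2 = false)

theorem isSquare_of_mul {a s : F} (hs : s ≠ 0) (h : IsSquare s) (h' : IsSquare (a * s)) : IsSquare a := by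
  obtain ⟨u, hu⟩ := h
  obtain ⟨v, hv⟩ := h'
  have hu0 : u ≠ 0 := fun h0 => hs (by rw [hu, h0, mul_zero])
  refine ⟨v / u, ?_⟩
  field_simp
  linear_combination hv - a * hu

theorem isSquare_mul_of_iff {a b : F} (ha : a ≠ 0) (hb : b ≠ 0) (h : IsSquare a ↔ IsSquare b) :
    IsSquare (a * b) := by
  classical
  by_cases hs : IsSquare a
  · exact hs.mul (h.1 hs)
  · rw [← quadraticChar_one_iff_isSquare (mul_ne_zero ha hb), map_mul,
      quadraticChar_neg_one_iff_not_isSquare.2 hs, quadraticChar_neg_one_iff_not_isSquare.2 fun h' => hs (h.2 h')]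
    norm_num

/-- Joining the congruences of the parts. -/
theorem congr_total (hB : IsGram B) (h2 : (2 : F) ≠ 0)
    {b M M' : Matrix ι ι F} (hb : adj B b * b = 1) (hMc : Commute M b) (hMj : adj B M = M)
    (hMu : IsUnit M) (hMc' : Commute M' b) (hMj' : adj B M' = M') (hMu' : IsUnit M')
    (hP : ∃ Y, Commute Y b ∧ eP b * Y = Y ∧ adj B Y * M * Y = M' * eP b)
    (hN : ∃ Y, Commute Y b ∧ eM b * Y = Y ∧ adj B Y * M * Y = M' * eM b) :
    ∃ Y, Commute Y b ∧ adj B Y * M * Y = M' := by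
  obtain ⟨Y₁, c₁, e₁, h₁⟩ := hP
  obtain ⟨Y₂, c₂, e₂, h₂⟩ := hN
  obtain ⟨Y₃, c₃, e₃, h₃⟩ := congr_eZ hB h2 hb hMc hMj hMu hMc' hMj' hMu'
  have hR := two_isUnit (F := F) (ι := ι) h2
  have oPM : eP b * eM b = 0 := eP_mul_eM hR b
  have oMP : eM b * eP b = 0 := eM_mul_eP hR b
  have oPZ : eP b * eZ b = 0 := by rw [eZ_eq hR, mul_sub, mul_sub, mul_one, eP_idem, oPM, sub_self, sub_zero]
  have oMZ : eM b * eZ b = 0 := by rw [eZ_eq hR, mul_sub, mul_sub, mul_one, eM_idem, oMP, sub_zero, sub_self]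
  have oZP : eZ b * eP b = 0 := by rw [eZ_eq hR, sub_mul, sub_mul, one_mul, eP_idem, oMP, sub_self, sub_zero]
  have oZM : eZ b * eM b = 0 := by rw [eZ_eq hR, sub_mul, sub_mul, one_mul, eM_idem, oPM, sub_zero, sub_self]
  have cross : ∀ {e e' Y Y' : Matrix ι ι F}, adj B e = e → Commute M e →
      e * Y = Y → e' * Y' = Y' → e * e' = 0 → adj B Y * M * Y' = 0 := by
    intro e e' Y Y' he hc hY hY' h0
    rw [← hY, ← hY', adj_mul hB, he]
    calc adj B Y * e * M * (e' * Y') = adj B Y * (M * e) * (e' * Y') := by rw [hc.eq, mul_assoc (adj B Y)]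
      _ = adj B Y * M * (e * e') * Y' := by simp only [mul_assoc]
      _ = 0 := by rw [h0, mul_zero, zero_mul]
  refine ⟨Y₁ + Y₂ + Y₃, (c₁.add_left c₂).add_left c₃, ?_⟩
  have jP := adj_eP hB hb
  have jM := adj_eM hB hb
  have jZ := adj_eZ hB h2 hb
  have mP : Commute M (eP b) := commute_eP hMc
  have mM : Commute M (eM b) := commute_eM hMc
  have mZ : Commute M (eZ b) := commute_eZ hMc
  simp only [adj_add, add_mul, mul_add, h₁, h₂, h₃, cross jP mP e₁ e₂ oPM, cross jP mP e₁ e₃ oPZ,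
    cross jM mM e₂ e₁ oMP, cross jM mM e₂ e₃ oMZ, cross jZ mZ e₃ e₁ oZP, cross jZ mZ e₃ e₂ oZM, add_zero, zero_add]
  rw [eZ_eq hR, ← mul_add, ← mul_add]
  rw [show eP b + eM b + (1 - eP b - eM b) = 1 by abel, mul_one]

/-- The determinant of an element of the centraliser is the product over the parts. -/
theorem det_parts (h2 : (2 : F) ≠ 0) {b M : Matrix ι ι F} (hMc : Commute M b) :
    M.det = (M * eP b + (1 - eP b)).det * (M * eM b + (1 - eM b)).det * (M * eZ b + (1 - eZ b)).det := by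
  rw [← Matrix.det_mul, ← Matrix.det_mul]
  congr 1
  have hR := two_isUnit (F := F) (ι := ι) h2
  set e₁ := eP b with he₁
  set e₂ := eM b with he₂
  have c1 : Commute M e₁ := commute_eP hMc
  have c2 : Commute M e₂ := commute_eM hMc
  have i1 : e₁ * e₁ = e₁ := eP_idem b
  have i2 : e₂ * e₂ = e₂ := eM_idem b
  have o12 : e₁ * e₂ = 0 := eP_mul_eM hR b
  have o21 : e₂ * e₁ = 0 := eM_mul_eP hR b
  have step : ∀ {e f : Matrix ι ι F}, Commute M f → e * f = 0 → f * e = 0 →
      (M * e + (1 - e)) * (M * f + (1 - f)) = M * (e + f) + (1 - (e + f)) := by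
    intro e f hf hef hfe
    have k1 : M * e * (M * f) = 0 := by
      rw [mul_assoc, ← mul_assoc e M f, mul_assoc e M f, hf.eq, ← mul_assoc e f M, hef, zero_mul, mul_zero]
    have k2 : M * e * f = 0 := by rw [mul_assoc, hef, mul_zero]
    have k3 : e * (M * f) = 0 := by rw [hf.eq, ← mul_assoc, hef, zero_mul]
    rw [add_mul, mul_add, mul_add, k1, sub_mul, sub_mul, mul_sub, mul_one, k2, one_mul, one_mul, k3, mul_sub,
      mul_one, hef, mul_add]
    abel
  rw [eZ_eq hR, step c2 o12 o21, step ((Commute.one_right M).sub_right c1 |>.sub_right c2) ?_ ?_]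
  · rw [show e₁ + e₂ + (1 - e₁ - e₂) = 1 by abel, mul_one, sub_self, add_zero]
  · rw [mul_sub, mul_sub, mul_one, add_mul, add_mul, i1, o21, o12, i2]
    abel
  · rw [sub_mul, sub_mul, one_mul, mul_add, mul_add, i1, o21, o12, i2]
    abel

open _root_.Classical in
/-- The classes are injected into the normalised parameters. -/
theorem exists_injective_classes (hB : IsGram B) (hodd : Odd (Fintype.card F)) (e : ι ≃ Fin N) :
    ∃ f : ConjClasses ↥(Gram.Iso B) → {x : SeqO F N N // Normal x.1}, Function.Injective f ∧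
      ∀ C, ∃ g, ConjClasses.mk g = C ∧ ∀ k, ((f C).1.1 k).1 = (dataOf (toGL e g)).1 k := by
  obtain ⟨⟨s, hs⟩, hpp, hcard⟩ := FiniteField.card F (ringChar F)
  set p := ringChar F with hp_def
  haveI : Fact p.Prime := ⟨hpp⟩
  haveI : CharP F p := ringChar.charP F
  have hp : p ≠ 2 := fun h => by
    rw [hcard, h] at hodd
    exact Nat.not_odd_iff_even.2 (Nat.even_pow.2 ⟨even_two, (Nat.pos_of_ne_zero (Nat.ne_of_gt hs)).ne'⟩) hodd
  have h2 : (2 : F) ≠ 0 := Ring.two_ne_zero hp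
  choose t d P Q hd hPQ hQP hbQ using fun b : Matrix ι ι F => exists_coords b
  let key : ↥(Gram.Iso B) → (Fin N → F[X]) := fun g => (dataOf (toGL e g)).1
  let base : (Fin N → F[X]) → ↥(Gram.Iso B) := Function.invFun key
  let B₀ : ↥(Gram.Iso B) → ↥(Gram.Iso B) := fun g => base (key g)
  have hkey : ∀ g, key (B₀ g) = key g := fun g => Function.invFun_eq (f := key) ⟨g, rfl⟩
  have hex : ∀ g, ∃ c : Matrix ι ι F, IsUnit c ∧ c * (B₀ g).1.1 = g.1.1 * c := by
    intro g
    obtain ⟨x, hx⟩ := isConj_iff.1 (isConj_of_data (g := toGL e (B₀ g)) (g' := toGL e g) (Subtype.ext (hkey g)))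
    refine ⟨(Matrix.reindexAlgEquiv F F e).symm x.1, x.isUnit.map _, ?_⟩
    have h := congrArg (fun y : GL (Fin N) F => (Matrix.reindexAlgEquiv F F e).symm y.1)
      (mul_inv_eq_iff_eq_mul.1 hx)
    simp only [Units.val_mul, map_mul, toGL_symm] at h
    exact h
  choose c hcu hc using hex
  let M : ↥(Gram.Iso B) → Matrix ι ι F := fun g => adj B (c g) * c g
  have hgJ : ∀ g : ↥(Gram.Iso B), adj B g.1.1 * g.1.1 = 1 := iso_adj hB
  have hMc : ∀ g, Commute (M g) (B₀ g).1.1 := by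
    intro g
    have h1 : adj B (B₀ g).1.1 * adj B (c g) = adj B (c g) * adj B g.1.1 := by
      rw [← adj_mul hB, hc g, adj_mul hB]
    have h3 : adj B (c g) * g.1.1 = (B₀ g).1.1 * adj B (c g) := by
      calc adj B (c g) * g.1.1 = (B₀ g).1.1 * adj B (B₀ g).1.1 * adj B (c g) * g.1.1 := by
            rw [mul_eq_one_comm.1 (hgJ (B₀ g)), one_mul]
        _ = (B₀ g).1.1 * adj B (c g) * (adj B g.1.1 * g.1.1) := by
            rw [mul_assoc (B₀ g).1.1, h1]; simp only [mul_assoc]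
        _ = _ := by rw [hgJ, mul_one]
    show adj B (c g) * c g * (B₀ g).1.1 = (B₀ g).1.1 * (adj B (c g) * c g)
    rw [mul_assoc, hc g, ← mul_assoc, h3, mul_assoc]
  have hMj : ∀ g, adj B (M g) = M g := fun g => by rw [adj_mul hB, adj_adj hB]
  have hMu : ∀ g, IsUnit (M g) := by
    intro g
    rw [Matrix.isUnit_iff_isUnit_det, Matrix.det_mul, det_adj hB]
    exact ((Matrix.isUnit_iff_isUnit_det _).1 (hcu g)).mul ((Matrix.isUnit_iff_isUnit_det _).1 (hcu g))
  have hMdet : ∀ g, IsSquare (M g).det := fun g => ⟨(c g).det, by rw [Matrix.det_mul, det_adj hB]⟩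
  let sd : F → Matrix ι ι F → Matrix ι ι F → ℕ → F := fun ε b X i =>
    (SpClassCount.btop (d (ε • b)) ((Q (ε • b))ᵀ * B * X * Q (ε • b)) i).det
  let bit : F → ↥(Gram.Iso B) → Fin N → Bool := fun ε g k =>
    decide (Cap (key g) ε k ∧ ¬ IsFirst (key g) ε k ∧ IsSquare (sd ε (B₀ g).1.1 (M g) (k.val + 1)))
  have hsq : ∀ ε : F, ε = 1 ∨ ε = -1 → ε * ε = 1 := by rintro ε (rfl | rfl) <;> simp
  have hvalid : ∀ g k, ValidO (k.val + 1) (key g k, bit 1 g k, bit (-1) g k) := fun g k =>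
    ⟨((dataOf (toGL e g)).2.1 k).1, ((dataOf (toGL e g)).2.1 k).2, dataOf_selfDual_o hB e g k,
      even_part hB h2 e g k, fun h => (of_decide_eq_true h).1, fun h => (of_decide_eq_true h).1⟩
  have hnormal : ∀ g, Normal (fun k => (key g k, bit 1 g k, bit (-1) g k)) := fun g k =>
    ⟨fun h => decide_eq_false fun h' => h'.2.1 h, fun h => decide_eq_false fun h' => h'.2.1 h⟩
  let rep : ConjClasses ↥(Gram.Iso B) → ↥(Gram.Iso B) := fun C => (ConjClasses.exists_rep C).choose
  refine ⟨fun C => ⟨⟨fun k => (key (rep C) k, bit 1 (rep C) k, bit (-1) (rep C) k), hvalid (rep C),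
    (dataOf (toGL e (rep C))).2.2⟩, hnormal (rep C)⟩, fun C C' h => ?_,
    fun C => ⟨rep C, (ConjClasses.exists_rep C).choose_spec, fun k => rfl⟩⟩
  rw [← (ConjClasses.exists_rep C).choose_spec, ← (ConjClasses.exists_rep C').choose_spec,
    ConjClasses.mk_eq_mk_iff_isConj]
  show IsConj (rep C) (rep C')
  set g := rep C with hg
  set g' := rep C' with hg'
  have h' := congrArg (fun z : {x : SeqO F N N // Normal x.1} => z.1.1) h
  have hk : key g = key g' := funext fun k => congrArg Prod.fst (congrFun h' k)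
  have hB0 : B₀ g' = B₀ g := congrArg base hk.symm
  set b := (B₀ g).1.1 with hbdef
  have hMc' : Commute (M g') b := by
    have := hMc g'
    rwa [hB0] at this
  have hb : adj B b * b = 1 := hgJ (B₀ g)
  -- the square classes of the two elements
  set r : F → ℕ → F := fun ε i => sd ε b (M g) i * sd ε b (M g') i with hr
  have hform : ∀ ε : F, ε = 1 ∨ ε = -1 → ∀ X : Matrix ι ι F, Commute X b → adj B X = X → IsUnit X →
      IsSForm (d (ε • b)) ((Q (ε • b))ᵀ * B * X * Q (ε • b)) := fun ε hε X hX hXj hXu =>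
    isSForm_pull hB (adj_smul_mul (hsq ε hε) hb) (hPQ _) (hQP _) (hbQ _) (hX.smul_right ε) hXj hXu
  have hne : ∀ ε : F, ε = 1 ∨ ε = -1 → ∀ i, 1 ≤ i → r ε i ≠ 0 := fun ε hε i hi =>
    mul_ne_zero
      (SpClassCount.isUnit_btop _ (hd _) (hform ε hε _ (hMc g) (hMj g) (hMu g)).inv
        (hform ε hε _ (hMc g) (hMj g) (hMu g)).unit hi).ne_zero
      (SpClassCount.isUnit_btop _ (hd _) (hform ε hε _ hMc' (hMj g') (hMu g')).inv
        (hform ε hε _ hMc' (hMj g') (hMu g')).unit hi).ne_zero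
  have hblock : ∀ ε : F, ε = 1 ∨ ε = -1 → ∀ i ∈ Finset.univ.image (d (ε • b)), Odd i →
      ∃ k : Fin N, i = k.val + 1 ∧ Cap (key g) ε k := by
    intro ε hε i hi ho
    obtain ⟨l, -, rfl⟩ := Finset.mem_image.1 hi
    obtain ⟨k, hk1, hk2⟩ := eval_eq_zero_of_block e (B₀ g) (hsq ε hε) (hPQ _) (hQP _) (hbQ _) (hd _ l)
    refine ⟨k, hk1, ?_, ?_⟩
    · rw [← hk1]; exact ho
    · rw [← hkey g]; exact hk2
  have hnonfirst : ∀ ε : F, ε = 1 ∨ ε = -1 → ∀ k, Cap (key g) ε k → ¬ IsFirst (key g) ε k →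
      IsSquare (r ε (k.val + 1)) := by
    intro ε hε k hcap hnf
    have hbit : bit ε g k = bit ε g' k := by
      rcases hε with rfl | rfl
      · exact congrArg (fun x => x.2.1) (congrFun h' k)
      · exact congrArg (fun x => x.2.2) (congrFun h' k)
    have hi : 1 ≤ k.val + 1 := Nat.succ_le_succ (Nat.zero_le _)
    refine isSquare_mul_of_iff
      (SpClassCount.isUnit_btop _ (hd _) (hform ε hε _ (hMc g) (hMj g) (hMu g)).inv
        (hform ε hε _ (hMc g) (hMj g) (hMu g)).unit hi).ne_zero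
      (SpClassCount.isUnit_btop _ (hd _) (hform ε hε _ hMc' (hMj g') (hMu g')).inv
        (hform ε hε _ hMc' (hMj g') (hMu g')).unit hi).ne_zero ?_
    have h3 := decide_eq_decide.1 hbit
    rw [← hk, hB0] at h3
    exact ⟨fun hs => (h3.1 ⟨hcap, hnf, hs⟩).2.2, fun hs => (h3.2 ⟨hcap, hnf, hs⟩).2.2⟩
  -- the determinant condition
  have hdet : IsSquare ((∏ i ∈ Finset.univ.image (d ((1 : F) • b)), r 1 i ^ i) *
      ∏ i ∈ Finset.univ.image (d ((-1 : F) • b)), r (-1) i ^ i) := by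
    have s1 := det_eP_square (hd ((1 : F) • b)) hB (adj_smul_mul (hsq 1 (Or.inl rfl)) hb) (hPQ _) (hQP _) (hbQ _)
      ((hMc g).smul_right 1) (hMj g) (hMu g) (hMc'.smul_right 1) (hMj g') (hMu g')
    have s2 := det_eP_square (hd ((-1 : F) • b)) hB (adj_smul_mul (hsq (-1) (Or.inr rfl)) hb) (hPQ _) (hQP _)
      (hbQ _) ((hMc g).smul_right (-1)) (hMj g) (hMu g) (hMc'.smul_right (-1)) (hMj g') (hMu g')
    have e1 : eP ((1 : F) • b) = eP b := by rw [one_smul]
    have e2 : eP ((-1 : F) • b) = eM b := by rw [neg_one_smul]; rfl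
    rw [e1] at s1
    rw [e2] at s2
    have sM := (hMdet g).mul (hMdet g')
    rw [det_parts h2 (hMc g), det_parts h2 hMc'] at sM
    have sZ := (det_eZ_square hB h2 hb (hMc g) (hMj g) (hMu g)).mul (det_eZ_square hB h2 hb hMc' (hMj g') (hMu g'))
    have hu : ∀ {X : Matrix ι ι F}, IsUnit X → Commute X b → (X * eP b + (1 - eP b)).det ≠ 0 ∧
        (X * eM b + (1 - eM b)).det ≠ 0 ∧ (X * eZ b + (1 - eZ b)).det ≠ 0 := by
      intro X hX hXb
      have h := ((Matrix.isUnit_iff_isUnit_det _).1 hX).ne_zero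
      rw [det_parts h2 hXb, mul_assoc] at h
      exact ⟨left_ne_zero_of_mul h, left_ne_zero_of_mul (right_ne_zero_of_mul h),
        right_ne_zero_of_mul (right_ne_zero_of_mul h)⟩
    obtain ⟨u1, u2, u3⟩ := hu (hMu g) (hMc g)
    obtain ⟨v1, v2, v3⟩ := hu (hMu g') hMc'
    refine isSquare_of_mul (mul_ne_zero u3 v3) sZ ?_
    refine isSquare_of_mul (mul_ne_zero (mul_ne_zero (mul_ne_zero u1 u2) u3) (mul_ne_zero (mul_ne_zero v1 v2) v3))
      sM ?_
    convert (s1.mul s2).mul (sZ.mul sZ) using 1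
    · rfl
    rw [hr]
    simp only [sd]
    ring
  have hall : ∀ ε : F, ε = 1 ∨ ε = -1 → ∀ i, 1 ≤ i → Odd i → IsSquare (r ε i) := by
    intro ε hε i hi ho
    by_cases hmem : i ∈ Finset.univ.image (d (ε • b))
    swap
    · haveI : IsEmpty {l // d (ε • b) l = i} :=
        ⟨fun l => hmem (Finset.mem_image.2 ⟨l.1, Finset.mem_univ _, l.2⟩)⟩
      simp only [hr, sd, Matrix.det_isEmpty, one_mul]
      exact IsSquare.one
    obtain ⟨k, rfl, hcap⟩ := hblock ε hε i hmem ho
    by_cases hf : IsFirst (key g) ε k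
    swap
    · exact hnonfirst ε hε k hcap hf
    have hsquare : ∀ δ : F, δ = 1 ∨ δ = -1 → ∀ j ∈ Finset.univ.image (d (δ • b)),
        (δ ≠ ε ∨ j ≠ k.val + 1) → IsSquare (r δ j ^ j) := by
      intro δ hδ j hj hne'
      rcases Nat.even_or_odd j with hev | hodd'
      · exact hev.isSquare_pow _
      · obtain ⟨k', rfl, hcap'⟩ := hblock δ hδ j hj hodd'
        refine (hnonfirst δ hδ k' hcap' fun hf' => ?_).pow _
        obtain ⟨h1, h2'⟩ := isFirst_unique hf hf'
        subst h2'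
        rcases hne' with hn | hn
        · exact hn h1.symm
        · exact hn rfl
    have hne0 : ∀ δ : F, δ = 1 ∨ δ = -1 → ∀ j ∈ Finset.univ.image (d (δ • b)), r δ j ^ j ≠ 0 := by
      intro δ hδ j hj
      obtain ⟨l, -, rfl⟩ := Finset.mem_image.1 hj
      exact pow_ne_zero _ (hne δ hδ _ (hd _ l))
    have hεprod : IsSquare (∏ j ∈ Finset.univ.image (d (ε • b)), r ε j ^ j) := by
      rcases hε with rfl | rfl
      · refine isSquare_of_mul (Finset.prod_ne_zero_iff.2 (hne0 (-1) (Or.inr rfl))) ?_ hdet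
        refine Finset.isSquare_prod _ fun j hj => hsquare (-1) (Or.inr rfl) j hj (Or.inl fun h => h2 ?_)
        linear_combination -h
      · refine isSquare_of_mul (Finset.prod_ne_zero_iff.2 (hne0 1 (Or.inl rfl))) ?_ (by rw [mul_comm]; exact hdet)
        refine Finset.isSquare_prod _ fun j hj => hsquare 1 (Or.inl rfl) j hj (Or.inl fun h => h2 ?_)
        linear_combination h
    rw [← Finset.mul_prod_erase _ _ hmem] at hεprod
    have h1 : IsSquare (r ε (k.val + 1) ^ (k.val + 1)) :=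
      isSquare_of_mul (Finset.prod_ne_zero_iff.2 fun j hj => hne0 ε hε j (Finset.mem_of_mem_erase hj))
        (Finset.isSquare_prod _ fun j hj =>
          hsquare ε hε j (Finset.mem_of_mem_erase hj) (Or.inr (Finset.ne_of_mem_erase hj))) hεprod
    obtain ⟨j, hj⟩ := ho
    rw [hj] at h1 ⊢
    rw [pow_succ', pow_mul'] at h1
    exact isSquare_of_mul (pow_ne_zero _ (pow_ne_zero _ (hne ε hε _ (by omega)))) ⟨_, sq _⟩ h1
  have hparts : ∀ ε : F, ε = 1 ∨ ε = -1 → ∃ Y, Commute Y b ∧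
      eP (ε • b) * Y = Y ∧ adj B Y * M g * Y = M g' * eP (ε • b) := by
    intro ε hε
    obtain ⟨Y, hY, heY, hYM⟩ := congr_eP hp h2 (hd (ε • b)) hB (adj_smul_mul (hsq ε hε) hb) (hPQ _) (hQP _)
      (hbQ _) ((hMc g).smul_right ε) (hMj g) (hMu g) (hMc'.smul_right ε) (hMj g') (hMu g') (hall ε hε)
    refine ⟨Y, ?_, heY, hYM⟩
    have := hY.smul_right ε
    rwa [smul_smul, hsq ε hε, one_smul] at this
  obtain ⟨Y, hY, hYM⟩ := congr_total hB h2 hb (hMc g) (hMj g) (hMu g) hMc' (hMj g') (hMu g')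
    (by simpa only [one_smul] using hparts 1 (Or.inl rfl))
    (by simpa only [neg_smul, one_smul, eM] using hparts (-1) (Or.inr rfl))
  obtain ⟨u, hu⟩ := hcu g'
  set u' := ((u⁻¹ : _ˣ) : Matrix ι ι F) with hu'
  have huu : c g' * u' = 1 := by rw [← hu, hu', u.mul_inv]
  have huu' : u' * c g' = 1 := by rw [← hu, hu', u.inv_mul]
  have hX : adj B (c g * Y * u') * (c g * Y * u') = 1 := by
    calc adj B (c g * Y * u') * (c g * Y * u') = adj B u' * (adj B Y * M g * Y) * u' := by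
          simp only [M, adj_mul hB, mul_assoc]
      _ = adj B u' * (adj B (c g') * c g') * u' := by rw [hYM]
      _ = adj B (c g' * u') * (c g' * u') := by simp only [adj_mul hB, mul_assoc]
      _ = 1 := by rw [huu, adj_one hB, mul_one]
  let X : GL ι F := Matrix.nonsingInvUnit (c g * Y * u') (Matrix.isUnit_det_of_left_inverse hX)
  have hXiso : X ∈ Gram.Iso B := Gram.mem_iso.2 ((adj_mul_self_iff hB _).1 hX)
  have hbu : b * u' = u' * g'.1.1 := by
    have h1 := hc g'
    rw [hB0] at h1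
    calc b * u' = u' * (c g' * b) * u' := by rw [← mul_assoc u', huu', one_mul]
      _ = u' * g'.1.1 * (c g' * u') := by rw [h1]; simp only [mul_assoc]
      _ = _ := by rw [huu, mul_one]
  refine (isConj_iff.2 ⟨⟨X, hXiso⟩, mul_inv_eq_iff_eq_mul.2 (Subtype.ext (Units.ext ?_))⟩).symm
  show c g * Y * u' * g'.1.1 = g.1.1 * (c g * Y * u')
  calc c g * Y * u' * g'.1.1 = c g * (Y * b) * u' := by rw [mul_assoc _ u', ← hbu]; simp only [mul_assoc]
    _ = c g * b * Y * u' := by rw [hY.eq]; simp only [mul_assoc]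
    _ = _ := by rw [hc g]; simp only [mul_assoc]

end Cfsg.Agent.Small.ClassNumberO
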