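import Mathlib
import Cfsg.Agent.Lib.Small.ClassNumberO.Classes
import Cfsg.Agent.Lib.Small.ClassNumberSp.Count

/-!
Counting the normalised parameters of an orthogonal group by shapes.
-/

set_option autoImplicit false
set_option linter.unusedSectionVars false
set_option linter.style.haveILetI false

namespace Cfsg.Agent.Small.ClassNumberO

open Matrix Polynomial Cfsg.Agent.Small.ClassNumber Cfsg.Agent.Small.ClassNumberU Cfsg.Agent.Small.ClassNumberSp

attribute [local instance] starRingOfComm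

universe u

/-- A weighted number of shapes. -/
def genSum (w : ℕ → ℕ → ℕ) (M n : ℕ) : ℕ := ∑ d ∈ shapes M n, ∏ k, w (k.val + 1) (d k)

/-- weight of a part size -/
def wO (q k d : ℕ) : ℕ := if Odd k then wEven q d else wOdd q d

/-- weight of a part size free of square classes -/
def wZ (q : ℕ) (_k d : ℕ) : ℕ := wOdd q d

variable {F : Type u} [Field F] [Fintype F]

variable (F) in
/-- parameters of one size and degree -/
def FibreO (k d : ℕ) : Type u := {x : F[X] × Bool × Bool // ValidO k x ∧ x.1.natDegree = d}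

variable (F) in
/-- parameters of one size and degree free of square classes -/
def FibreZ (k d : ℕ) : Type u :=
  {x : F[X] × Bool × Bool // (ValidO k x ∧ x.1.natDegree = d) ∧
    (Odd k → x.1.eval 1 ≠ 0 ∧ x.1.eval (-1) ≠ 0)}

theorem validO_iff {k : ℕ} {x : F[X] × Bool × Bool} : ValidO k x ↔ Valid (k + 1) x := by
  simp only [ValidO, Valid, Nat.odd_add_one, Nat.even_add_one, Nat.not_odd_iff_even, Nat.not_even_iff_odd]

/-- shifting the size exchanges the parities -/
def FibreO.shift {k d : ℕ} (x : FibreO F k d) : Fibre F (k + 1) d := ⟨x.1, validO_iff.1 x.2.1, x.2.2⟩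

theorem FibreO.shift_injective (k d : ℕ) : Function.Injective (FibreO.shift (F := F) (k := k) (d := d)) :=
  fun _ _ h => Subtype.ext (congrArg (fun y : Fibre F (k + 1) d => y.1) h :)

/-- forgetting the condition on the square classes -/
def FibreZ.forget {k d : ℕ} (x : FibreZ F k d) : FibreO F k d := ⟨x.1, x.2.1⟩

instance instFiniteFibreO (k d : ℕ) : Finite (FibreO F k d) :=
  Finite.of_injective FibreO.shift (FibreO.shift_injective k d)

instance instFiniteFibreZ (k d : ℕ) : Finite (FibreZ F k d) :=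
  Finite.of_injective FibreZ.forget fun _ _ h => Subtype.ext (congrArg (fun y : FibreO F k d => y.1) h :)

theorem card_fibreO (h2 : (2 : F) ≠ 0) (k d : ℕ) : Nat.card (FibreO F k d) ≤ wO (Fintype.card F) k d := by
  refine (Nat.card_le_card_of_injective FibreO.shift (FibreO.shift_injective k d)).trans ((card_fibre h2 (k + 1) d).trans (le_of_eq ?_))
  simp only [wSp, wO, Nat.odd_add_one]
  split_ifs <;> rfl

/-- A self-dual polynomial without the roots `±1` has even degree and constant term one. -/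
theorem even_of_no_root (h2 : (2 : F) ≠ 0) {G : F[X]} (hd : dual G = G)
    (h1 : G.eval 1 ≠ 0) (h1' : G.eval (-1) ≠ 0) : Even G.natDegree ∧ G.coeff 0 = 1 := by
  have heval : ∀ c : F, c * c = 1 → G.eval c = (G.coeff 0)⁻¹ * (c ^ G.natDegree * G.eval c) := by
    intro c hc
    have h := aeval_reflect (F := F) (R := F) hc G.natDegree G le_rfl
    rw [← coe_aeval_eq_eval]
    conv_lhs => rw [← hd]
    rw [dual, show (starRingEnd F : F →+* F) = RingHom.id F from RingHom.ext fun _ => rfl, Polynomial.map_id,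
      map_mul, aeval_C, Algebra.algebraMap_self_apply]
    congr 1
    rw [Polynomial.reverse, ← h, ← mul_assoc, mul_comm (c ^ G.natDegree), mul_assoc, ← mul_pow, hc, one_pow,
      mul_one]
  have h10 : G.coeff 0 = 1 := by
    have h := heval 1 (one_mul 1)
    rw [one_pow, one_mul] at h
    exact inv_eq_one.1 ((mul_eq_right₀ h1).1 h.symm)
  refine ⟨?_, h10⟩
  have h := heval (-1) (by ring)
  rw [h10, inv_one, one_mul] at h
  have h' : (-1 : F) ^ G.natDegree = 1 := (mul_eq_right₀ h1').1 h.symm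
  rcases Nat.even_or_odd G.natDegree with he | ho
  · exact he
  · rw [ho.neg_one_pow] at h'
    exact absurd (by linear_combination -h') h2

theorem card_fibreZ (h2 : (2 : F) ≠ 0) (k d : ℕ) : Nat.card (FibreZ F k d) ≤ wZ (Fintype.card F) k d := by
  classical
  have key : ∀ x : FibreZ F k d, Even d ∧ x.1.1.coeff 0 = 1 := by
    intro x
    obtain ⟨⟨G, a, c⟩, ⟨⟨-, -, hd, hev, -, -⟩, hdeg⟩, hnr⟩ := x
    rcases Nat.even_or_odd k with he | ho
    · exact ⟨hdeg ▸ (hev he).1, (hev he).2⟩
    · obtain ⟨e1, e2⟩ := even_of_no_root h2 hd (hnr ho).1 (hnr ho).2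
      exact ⟨hdeg ▸ e1, e2⟩
  have hbits : ∀ x : FibreZ F k d, x.1.2 = (false, false) := by
    intro x
    obtain ⟨⟨G, a, c⟩, ⟨⟨-, -, -, -, ha, hc⟩, -⟩, hnr⟩ := x
    have ha' : a = false := Bool.eq_false_iff.2 fun h => (hnr (ha h).1).1 (ha h).2
    have hc' : c = false := Bool.eq_false_iff.2 fun h => (hnr (hc h).1).2 (hc h).2
    show (a, c) = (false, false)
    rw [ha', hc']
  rw [wZ, wOdd]
  split_ifs with hev
  · refine le_trans (Nat.card_le_card_of_injective
      (fun x : FibreZ F k d => (⟨⟨x.1.1, x.2.1.1.1, x.2.1.1.2.1, x.2.1.1.2.2.1, x.2.1.2⟩, (key x).2⟩ :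
        {G : SD F d // G.1.coeff 0 = 1}))
      fun x y h => Subtype.ext (Prod.ext (congrArg (fun G : {G : SD F d // G.1.coeff 0 = 1} => G.1.1) h)
        ((hbits x).trans (hbits y).symm))) ?_
    exact card_SD_const 1 fun G _ i hi hd => absurd hd (by omega)
  · haveI : IsEmpty (FibreZ F k d) := ⟨fun x => hev (key x).1⟩
    rw [Nat.card_of_isEmpty]

variable (F) in
/-- parameters free of square classes -/
def SeqZ (M n : ℕ) : Type u :=
  {x : SeqO F M n // ∀ k, ¬ Cap (fun j => (x.1 j).1) 1 k ∧ ¬ Cap (fun j => (x.1 j).1) (-1) k}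

instance instFiniteSeqO (M n : ℕ) : Finite (SeqO F M n) :=
  Finite.of_injective
    (fun x : SeqO F M n =>
      (⟨⟨fun k => (x.1 k).1.natDegree, mem_shapes.2 x.2.2⟩, fun k => ⟨x.1 k, x.2.1 k, rfl⟩⟩ :
        Σ d : {d // d ∈ shapes M n}, ∀ k : Fin M, FibreO F (k.val + 1) (d.1 k)))
    fun x y h => Subtype.ext (congrArg (fun z : Σ d : {d // d ∈ shapes M n}, ∀ k : Fin M,
      FibreO F (k.val + 1) (d.1 k) => fun k => (z.2 k).1) h)

instance instFiniteSeqZ (M n : ℕ) : Finite (SeqZ F M n) := Subtype.finite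

theorem card_seqO (h2 : (2 : F) ≠ 0) (M n : ℕ) :
    Nat.card (SeqO F M n) ≤ genSum (wO (Fintype.card F)) M n := by
  classical
  let T := Σ d : {d // d ∈ shapes M n}, ∀ k : Fin M, FibreO F (k.val + 1) (d.1 k)
  refine le_trans (Nat.card_le_card_of_injective
    (fun x : SeqO F M n =>
      (⟨⟨fun k => (x.1 k).1.natDegree, mem_shapes.2 x.2.2⟩, fun k => ⟨x.1 k, x.2.1 k, rfl⟩⟩ : T))
    fun x y h => Subtype.ext (congrArg (fun z : T => fun k => (z.2 k).1) h)) ?_
  rw [Nat.card_sigma, genSum, ← Finset.sum_coe_sort (shapes M n)]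
  refine Finset.sum_le_sum fun d _ => ?_
  rw [Nat.card_pi]
  exact Finset.prod_le_prod' fun k _ => card_fibreO h2 _ _

theorem card_seqZ (h2 : (2 : F) ≠ 0) (M n : ℕ) :
    Nat.card (SeqZ F M n) ≤ genSum (wZ (Fintype.card F)) M n := by
  classical
  let T := Σ d : {d // d ∈ shapes M n}, ∀ k : Fin M, FibreZ F (k.val + 1) (d.1 k)
  refine le_trans (Nat.card_le_card_of_injective
    (fun x : SeqZ F M n =>
      (⟨⟨fun k => (x.1.1 k).1.natDegree, mem_shapes.2 x.1.2.2⟩, fun k => ⟨x.1.1 k, ⟨x.1.2.1 k, rfl⟩,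
        fun ho => ⟨fun h => (x.2 k).1 ⟨ho, h⟩, fun h => (x.2 k).2 ⟨ho, h⟩⟩⟩⟩ : T))
    fun x y h => Subtype.ext (Subtype.ext (congrArg (fun z : T => fun k => (z.2 k).1) h))) ?_
  rw [Nat.card_sigma, genSum, ← Finset.sum_coe_sort (shapes M n)]
  refine Finset.sum_le_sum fun d _ => ?_
  rw [Nat.card_pi]
  exact Finset.prod_le_prod' fun k _ => card_fibreZ h2 _ _

theorem exists_first {M : ℕ} (G : Fin M → F[X]) (h : ∃ k, Cap G 1 k ∨ Cap G (-1) k) :
    ∃ (ε : F) (k : Fin M), IsFirst G ε k := by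
  classical
  obtain ⟨k, hk, hmin⟩ := WellFounded.has_min (wellFounded_lt (α := Fin M))
    {k | Cap G 1 k ∨ Cap G (-1) k} h
  have hlt : ∀ k', k' < k → ¬ Cap G 1 k' ∧ ¬ Cap G (-1) k' := fun k' hk' =>
    ⟨fun hc => hmin k' (Or.inl hc) hk', fun hc => hmin k' (Or.inr hc) hk'⟩
  by_cases h1 : Cap G 1 k
  · exact ⟨1, k, Or.inl rfl, h1, hlt⟩
  · exact ⟨-1, k, Or.inr ⟨rfl, h1⟩, hk.resolve_left h1, hlt⟩

open _root_.Classical in
/-- switching the designated square class -/
noncomputable def setFirst {M n : ℕ} (h2 : (2 : F) ≠ 0) (b : Bool) (x : SeqO F M n) : SeqO F M n :=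
  ⟨fun k => ((x.1 k).1,
    (if IsFirst (fun j => (x.1 j).1) 1 k then b else (x.1 k).2.1),
    (if IsFirst (fun j => (x.1 j).1) (-1) k then b else (x.1 k).2.2)),
   fun k => by
    obtain ⟨h1, h3, h4, h5, h6, h7⟩ := x.2.1 k
    refine ⟨h1, h3, h4, h5, ?_, ?_⟩ <;> dsimp only
    · split_ifs with hf
      · exact fun _ => hf.2.1
      · exact h6
    · split_ifs with hf
      · exact fun _ => hf.2.1
      · exact h7,
   x.2.2⟩

open _root_.Classical in
/-- Twice the normalised parameters are the parameters and the ones free of square classes. -/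
theorem two_mul_card_normal_of (h2 : (2 : F) ≠ 0) (M n : ℕ) (R : (Fin M → F[X]) → Prop) :
    2 * Nat.card {x : {x : SeqO F M n // Normal x.1} // R fun j => (x.1.1 j).1} ≤
      Nat.card {x : SeqO F M n // R fun j => (x.1 j).1} + Nat.card (SeqZ F M n) := by
  rw [← Nat.card_sum, show 2 = Nat.card Bool by simp, ← Nat.card_prod]
  let f : Bool × {x : {x : SeqO F M n // Normal x.1} // R fun j => (x.1.1 j).1} →
      {x : SeqO F M n // R fun j => (x.1 j).1} ⊕ SeqZ F M n := fun p =>
    if h : ∃ k, Cap (fun j => (p.2.1.1.1 j).1) 1 k ∨ Cap (fun j => (p.2.1.1.1 j).1) (-1) k then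
      Sum.inl ⟨setFirst h2 p.1 p.2.1.1, p.2.2⟩
    else if p.1 then Sum.inr ⟨p.2.1.1, fun k => ⟨fun hc => h ⟨k, Or.inl hc⟩, fun hc => h ⟨k, Or.inr hc⟩⟩⟩
    else Sum.inl ⟨p.2.1.1, p.2.2⟩
  refine Nat.card_le_card_of_injective f fun p p' hpp => ?_
  obtain ⟨b, ⟨x, hx⟩, hR⟩ := p
  obtain ⟨b', ⟨x', hx'⟩, hR'⟩ := p'
  have hG : (fun j => (x.1 j).1) = fun j => (x'.1 j).1 := by
    have h := congrArg (Sum.elim (fun y : {x : SeqO F M n // R fun j => (x.1 j).1} => fun j => (y.1.1 j).1) fun y : SeqZ F M n => fun j => (y.1.1 j).1) hpp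
    simp only [f] at h
    split_ifs at h <;> exact h
  by_cases h : ∃ k, Cap (fun j => (x.1 j).1) 1 k ∨ Cap (fun j => (x.1 j).1) (-1) k
  · have h' : ∃ k, Cap (fun j => (x'.1 j).1) 1 k ∨ Cap (fun j => (x'.1 j).1) (-1) k := hG ▸ h
    simp only [f, dif_pos h, dif_pos h', Sum.inl.injEq, Subtype.mk.injEq] at hpp
    have hval : ∀ k, (setFirst h2 b x).1 k = (setFirst h2 b' x').1 k := fun k =>
      congrArg (fun z : SeqO F M n => z.1 k) (congrArg Subtype.val hpp :)
    obtain ⟨ε, k₀, hk₀⟩ := exists_first _ h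
    have hb : b = b' := by
      have hk₀' : IsFirst (fun j => (x'.1 j).1) ε k₀ := hG ▸ hk₀
      rcases hk₀.1 with rfl | ⟨rfl, -⟩
      · have := congrArg (fun y => y.2.1) (hval k₀)
        simpa only [setFirst, if_pos hk₀, if_pos hk₀'] using this
      · have := congrArg (fun y => y.2.2) (hval k₀)
        simpa only [setFirst, if_pos hk₀, if_pos hk₀'] using this
    subst hb
    refine Prod.ext rfl (Subtype.ext (Subtype.ext (Subtype.ext (funext fun k => ?_))))
    refine Prod.ext (congrFun hG k) (Prod.ext ?_ ?_)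
    · show (x.1 k).2.1 = (x'.1 k).2.1
      by_cases hf : IsFirst (fun j => (x.1 j).1) 1 k
      · rw [(hx k).1 hf, (hx' k).1 (hG ▸ hf)]
      · have := congrArg (fun y => y.2.1) (hval k)
        simpa only [setFirst, if_neg hf, if_neg (show ¬ IsFirst (fun j => (x'.1 j).1) 1 k from hG ▸ hf)] using this
    · show (x.1 k).2.2 = (x'.1 k).2.2
      by_cases hf : IsFirst (fun j => (x.1 j).1) (-1) k
      · rw [(hx k).2 hf, (hx' k).2 (hG ▸ hf)]
      · have := congrArg (fun y => y.2.2) (hval k)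
        simpa only [setFirst, if_neg hf, if_neg (show ¬ IsFirst (fun j => (x'.1 j).1) (-1) k from hG ▸ hf)] using this
  · have h' : ¬ ∃ k, Cap (fun j => (x'.1 j).1) 1 k ∨ Cap (fun j => (x'.1 j).1) (-1) k := hG ▸ h
    simp only [f, dif_neg h, dif_neg h'] at hpp
    cases b <;> cases b' <;> simp only [if_pos, if_neg, Bool.false_eq_true, ↓reduceIte, reduceCtorEq,
      Sum.inl.injEq, Sum.inr.injEq] at hpp
    · exact Prod.ext rfl (Subtype.ext (Subtype.ext (congrArg Subtype.val hpp :)))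
    · exact Prod.ext rfl (Subtype.ext (Subtype.ext (congrArg Subtype.val (Sum.inr.inj hpp) :)))

/-- Twice the normalised parameters are the parameters and the ones free of square classes. -/
theorem two_mul_card_normal (h2 : (2 : F) ≠ 0) (M n : ℕ) :
    2 * Nat.card {x : SeqO F M n // Normal x.1} ≤ Nat.card (SeqO F M n) + Nat.card (SeqZ F M n) := by
  have h := two_mul_card_normal_of h2 M n fun _ => True
  rwa [Nat.card_congr (Equiv.subtypeUnivEquiv fun _ => trivial), Nat.card_congr (Equiv.subtypeUnivEquiv fun _ => trivial)] at h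

/-- The classes counted by shapes. -/
theorem card_classes_le {ι : Type} [Fintype ι] [DecidableEq ι] {B : Matrix ι ι F} (hB : IsGram B)
    (hodd : Odd (Fintype.card F)) {N : ℕ} (e : ι ≃ Fin N) :
    2 * Nat.card (ConjClasses ↥(Gram.Iso B)) ≤
      genSum (wO (Fintype.card F)) N N + genSum (wZ (Fintype.card F)) N N := by
  have h2 : (2 : F) ≠ 0 := Ring.two_ne_zero fun h => by
    have := FiniteField.even_card_of_char_two h
    rw [Nat.odd_iff] at hodd
    omega
  obtain ⟨f, hf, -⟩ := exists_injective_classes hB hodd e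
  exact (Nat.mul_le_mul_left 2 (Nat.card_le_card_of_injective f hf)).trans
    ((two_mul_card_normal h2 N N).trans (Nat.add_le_add (card_seqO h2 N N) (card_seqZ h2 N N)))

end Cfsg.Agent.Small.ClassNumberO
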