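import Mathlib
import Cfsg.Agent.Lib.Small.ClassNumberO.Count
import Cfsg.Agent.Lib.Small.ClassNumberSp.Arith

/-!
Numerical bounds for the weighted sums over shapes of an orthogonal group in odd characteristic.
-/

set_option autoImplicit false
set_option linter.unusedSectionVars false
set_option linter.style.haveILetI false

namespace Cfsg.Agent.Small.ClassNumberO

open Cfsg.Agent.Small.ClassNumberU Cfsg.Agent.Small.ClassNumberSp

theorem genSum_succ_le (w : ℕ → ℕ → ℕ) (M n : ℕ) :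
    genSum w (M + 1) n ≤ ∑ a ∈ Finset.range (n / (M + 1) + 1), w (M + 1) a * genSum w M (n - (M + 1) * a) := by
  have hmem : ∀ d ∈ shapes (M + 1) n, d (Fin.last M) ∈ Finset.range (n / (M + 1) + 1) := by
    intro d hd
    rw [mem_shapes, Fin.sum_univ_castSucc] at hd
    rw [Finset.mem_range, Nat.lt_succ_iff, Nat.le_div_iff_mul_le (Nat.succ_pos M), mul_comm]
    simp only [Fin.val_last, Nat.succ_eq_add_one] at hd ⊢
    omega
  rw [genSum, ← Finset.sum_fiberwise_of_maps_to hmem]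
  refine Finset.sum_le_sum fun a _ => ?_
  rw [genSum, Finset.mul_sum]
  refine le_of_eq_of_le ?_ (Finset.sum_le_sum_of_subset
    (s := ((shapes (M + 1) n).filter fun d => d (Fin.last M) = a).image fun d k => d k.castSucc) ?_)
  · rw [Finset.sum_image]
    · refine Finset.sum_congr rfl fun d hd => ?_
      rw [Fin.prod_univ_castSucc, (Finset.mem_filter.1 hd).2, mul_comm]
      simp only [Fin.val_last, Fin.val_castSucc]
    · intro d hd d' hd' h
      funext k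
      induction k using Fin.lastCases with
      | last => rw [(Finset.mem_filter.1 hd).2, (Finset.mem_filter.1 hd').2]
      | cast k => exact congrFun h k
  · intro e he
    obtain ⟨d, hd, rfl⟩ := Finset.mem_image.1 he
    obtain ⟨hd', rfl⟩ := Finset.mem_filter.1 hd
    rw [mem_shapes, Fin.sum_univ_castSucc] at hd'
    rw [mem_shapes]
    simp only [Fin.val_last, Fin.val_castSucc] at hd' ⊢
    omega

theorem genSum_one (w : ℕ → ℕ → ℕ) (n : ℕ) : genSum w 1 n = w 1 n := by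
  have hsub : shapes 1 n = {fun _ => n} := by
    ext d
    rw [mem_shapes, Finset.mem_singleton, Fin.sum_univ_one]
    constructor
    · intro h
      funext k
      rw [Fin.fin_one_eq_zero k]
      simpa using h
    · rintro rfl
      simp
  rw [genSum, hsub, Finset.sum_singleton, Fin.prod_univ_one]
  rfl

/-- The even-index weights. -/
theorem wEven_two_mul (q b : ℕ) : wEven q 0 = 1 ∧ wEven q 2 = q + 6 ∧
    wEven q (2 * (b + 2)) = q ^ (b + 2) + 6 * q ^ (b + 1) + q ^ b := by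
  refine ⟨by simp [wEven, nb], ?_, ?_⟩
  · simp [wEven, nb]
  · have h1 : nb q (2 * (b + 2)) = q ^ (b + 2) + q ^ (b + 1) := by
      rw [nb, if_neg (by omega), if_pos (even_two_mul _), Nat.mul_div_cancel_left _ two_pos]
      rfl
    have h2 : nb q (2 * (b + 2) - 1) = 2 * q ^ (b + 1) := by
      rw [nb, if_neg (by omega), if_neg (Nat.not_even_iff_odd.2 ⟨b + 1, by omega⟩)]
      congr 2
      omega
    have h3 : nb q (2 * (b + 2) - 2) = q ^ (b + 1) + q ^ b := by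
      rw [nb, if_neg (by omega), if_pos ⟨b + 1, by omega⟩, show (2 * (b + 2) - 2) / 2 = b + 1 by omega]
      rfl
    rw [wEven, if_pos (by omega), if_pos (by omega), h1, h2, h3]
    ring

/-- The odd-index weights. -/
theorem wEven_two_mul_add_one (q b : ℕ) : wEven q 1 = 4 ∧
    wEven q (2 * (b + 1) + 1) = 4 * q ^ (b + 1) + 4 * q ^ b := by
  refine ⟨by simp [wEven, nb], ?_⟩
  have h1 : nb q (2 * (b + 1) + 1) = 2 * q ^ (b + 1) := by
    rw [nb, if_neg (by omega), if_neg (Nat.not_even_iff_odd.2 (odd_two_mul_add_one _))]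
    congr 2
    omega
  have h2 : nb q (2 * (b + 1) + 1 - 1) = q ^ (b + 1) + q ^ b := by
    rw [nb, if_neg (by omega), if_pos ⟨b + 1, by omega⟩, show (2 * (b + 1) + 1 - 1) / 2 = b + 1 by omega]
    rfl
  have h3 : nb q (2 * (b + 1) + 1 - 2) = 2 * q ^ b := by
    rw [nb, if_neg (by omega), if_neg (Nat.not_even_iff_odd.2 ⟨b, by omega⟩)]
    congr 2
    omega
  rw [wEven, if_pos (by omega), if_pos (by omega), h1, h2, h3]
  ring

/-- The even sum. -/
def facEv (q s : ℚ) : ℚ := (1 + 6 * s + s ^ 2) / (1 - q * s)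

/-- The odd sum. -/
def facOd (q s : ℚ) : ℚ := 4 * (1 + s) / (1 - q * s)

theorem sum_even_le (q : ℕ) {s : ℚ} (hs : 0 ≤ s) (hqs : (q : ℚ) * s < 1) (K : ℕ) :
    ∑ b ∈ Finset.range K, (wEven q (2 * b) : ℚ) * s ^ b ≤ facEv q s := by
  refine le_trans (Finset.sum_le_sum_of_subset_of_nonneg (Finset.range_mono (show K ≤ K + 2 by omega))
    fun _ _ _ => by positivity) ?_
  rw [Finset.sum_range_succ' _ (K + 1), Finset.sum_range_succ' _ K]
  have hterm : ∀ b : ℕ, (wEven q (2 * (b + 1 + 1)) : ℚ) * s ^ (b + 1 + 1) =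
      ((q : ℚ) ^ 2 + 6 * q + 1) * s ^ 2 * ((q : ℚ) * s) ^ b := by
    intro b
    rw [show b + 1 + 1 = b + 2 from rfl, (wEven_two_mul q b).2.2]
    push_cast
    ring
  rw [Finset.sum_congr rfl fun b _ => hterm b, ← Finset.mul_sum]
  simp only [zero_add, mul_one, mul_zero, (wEven_two_mul q 0).1, (wEven_two_mul q 0).2.1, pow_zero, pow_one]
  push_cast
  calc _ ≤ ((q : ℚ) ^ 2 + 6 * q + 1) * s ^ 2 * (1 / (1 - (q : ℚ) * s)) + ((q : ℚ) + 6) * s + 1 := by
        have := mul_le_mul_of_nonneg_left (geom_le (by positivity) hqs K)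
          (show (0 : ℚ) ≤ ((q : ℚ) ^ 2 + 6 * q + 1) * s ^ 2 by positivity)
        linarith
    _ = _ := by
        have h' : 1 - (q : ℚ) * s ≠ 0 := by linarith
        rw [facEv]
        field_simp
        ring

theorem sum_odd_le (q : ℕ) {s : ℚ} (hs : 0 ≤ s) (hqs : (q : ℚ) * s < 1) (K : ℕ) :
    ∑ b ∈ Finset.range K, (wEven q (2 * b + 1) : ℚ) * s ^ b ≤ facOd q s := by
  refine le_trans (Finset.sum_le_sum_of_subset_of_nonneg (Finset.range_mono (show K ≤ K + 1 by omega))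
    fun _ _ _ => by positivity) ?_
  rw [Finset.sum_range_succ' _ K]
  have hterm : ∀ b : ℕ, (wEven q (2 * (b + 1) + 1) : ℚ) * s ^ (b + 1) =
      (4 * (q : ℚ) + 4) * s * ((q : ℚ) * s) ^ b := by
    intro b
    rw [(wEven_two_mul_add_one q b).2]
    push_cast
    ring
  rw [Finset.sum_congr rfl fun b _ => hterm b, ← Finset.mul_sum]
  simp only [mul_zero, zero_add, (wEven_two_mul_add_one q 0).1, pow_zero, mul_one]
  push_cast
  calc _ ≤ (4 * (q : ℚ) + 4) * s * (1 / (1 - (q : ℚ) * s)) + 4 := by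
        have := mul_le_mul_of_nonneg_left (geom_le (by positivity) hqs K)
          (show (0 : ℚ) ≤ (4 * (q : ℚ) + 4) * s by positivity)
        linarith
    _ = _ := by
        have h' : 1 - (q : ℚ) * s ≠ 0 := by linarith
        rw [facOd]
        field_simp
        ring

/-- A bound for the even and the odd weights. -/
def GoodW (w : ℕ → ℕ → ℕ) (q M : ℕ) (A B : ℚ) : Prop :=
  ∀ m, (genSum w M (2 * m) : ℚ) ≤ A * (q : ℚ) ^ m ∧ (genSum w M (2 * m + 1) : ℚ) ≤ B * (q : ℚ) ^ m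

/-- The bound for the weight of an orthogonal group. -/
abbrev GoodO (q M : ℕ) (A B : ℚ) : Prop := GoodW (wO q) q M A B

theorem wO_even (q J : ℕ) : wO q (2 * J + 2) = wOdd q := funext fun a => by
  rw [wO, if_neg (Nat.not_odd_iff_even.2 ⟨J + 1, by omega⟩)]

theorem wO_odd (q J : ℕ) : wO q (2 * J + 3) = wEven q := funext fun a => by
  rw [wO, if_pos ⟨J + 1, by omega⟩]

/-- A bound for the even weights, the odd ones vanishing. -/
def GoodZ (q M : ℕ) (C : ℚ) : Prop :=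
  (∀ m, genSum (wZ q) M (2 * m + 1) = 0) ∧ ∀ m, (genSum (wZ q) M (2 * m) : ℚ) ≤ C * (q : ℚ) ^ m

theorem sum_wOdd_le {q : ℕ} {r : ℚ} (hr : 0 ≤ r) (hqr : (q : ℚ) * r < 1) (K : ℕ) :
    ∑ a ∈ Finset.range K, (if Even a then (wOdd q a : ℚ) * r ^ (a / 2) else 0) ≤ 1 / (1 - (q : ℚ) * r) := by
  refine (Finset.sum_le_sum_of_subset_of_nonneg (t := Finset.range (2 * K))
    (fun a ha => Finset.mem_range.2 (by have := Finset.mem_range.1 ha; omega))
    (fun a _ _ => by split_ifs <;> positivity)).trans ?_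
  rw [sum_range_two]
  refine le_of_eq_of_le (Finset.sum_congr rfl fun b _ => ?_) (geom_le (by positivity) hqr K)
  rw [if_pos (even_two_mul b), if_neg (Nat.not_even_iff_odd.2 (odd_two_mul_add_one b)), add_zero,
    Nat.mul_div_cancel_left b two_pos, wOdd, if_pos (even_two_mul b), Nat.mul_div_cancel_left b two_pos, mul_pow]
  push_cast
  rfl

/-- A size of weight `wOdd` preserves the parity and multiplies the bound. -/
theorem step_wOdd {q k : ℕ} {w : ℕ → ℕ → ℕ} (hw : w (k + 1) = wOdd q) (hq : 2 ≤ q) (hk : 1 ≤ k) {δ : ℕ} {c : ℚ}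
    (hδ : δ ≤ 1) (hc : 0 ≤ c) (h : ∀ m, (genSum w k (2 * m + δ) : ℚ) ≤ c * (q : ℚ) ^ m) (m : ℕ) :
    (genSum w (k + 1) (2 * m + δ) : ℚ) ≤ c * (1 / (1 - ((q : ℚ) ^ k)⁻¹)) * (q : ℚ) ^ m := by
  have hq0 : (0 : ℚ) < q := by exact_mod_cast (by omega : 0 < q)
  have hr0 : (0 : ℚ) ≤ ((q : ℚ) ^ (k + 1))⁻¹ := by positivity
  have hqr : (q : ℚ) * ((q : ℚ) ^ (k + 1))⁻¹ = ((q : ℚ) ^ k)⁻¹ := by
    rw [pow_succ]
    field_simp
  have hr1 : ((q : ℚ) ^ k)⁻¹ < 1 := inv_lt_one_of_one_lt₀ (one_lt_pow₀ (by exact_mod_cast hq) (by omega))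
  set L := (2 * m + δ) / (k + 1) + 1
  calc (genSum w (k + 1) (2 * m + δ) : ℚ)
      ≤ ∑ a ∈ Finset.range L, (w (k + 1) a : ℚ) * (genSum w k (2 * m + δ - (k + 1) * a) : ℚ) := by
        exact_mod_cast genSum_succ_le w k (2 * m + δ)
    _ ≤ ∑ a ∈ Finset.range L,
          c * (q : ℚ) ^ m * (if Even a then (wOdd q a : ℚ) * (((q : ℚ) ^ (k + 1))⁻¹) ^ (a / 2) else 0) := by
        refine Finset.sum_le_sum fun a ha => ?_
        rw [hw]
        have hle : (k + 1) * a ≤ 2 * m + δ :=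
          (Nat.mul_le_mul_left _ (Nat.lt_succ_iff.1 (Finset.mem_range.1 ha))).trans (Nat.mul_div_le _ (k + 1))
        by_cases hev : Even a
        · obtain ⟨b, rfl⟩ := hev
          rw [if_pos ⟨b, rfl⟩, show (b + b) / 2 = b by omega]
          rw [Nat.mul_add] at hle ⊢
          obtain ⟨e, rfl⟩ : ∃ e, m = e + (k + 1) * b := ⟨m - (k + 1) * b, by omega⟩
          rw [show 2 * (e + (k + 1) * b) + δ - ((k + 1) * b + (k + 1) * b) = 2 * e + δ by omega]
          refine (mul_le_mul_of_nonneg_left (h e) (Nat.cast_nonneg _)).trans (le_of_eq ?_)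
          rw [inv_pow, ← pow_mul, pow_add]
          field_simp
        · rw [if_neg hev, wOdd, if_neg hev]
          simp
    _ ≤ _ := by
        rw [← Finset.mul_sum, mul_right_comm c (1 / _)]
        refine mul_le_mul_of_nonneg_left ?_ (by positivity)
        rw [← hqr]
        exact sum_wOdd_le hr0 (hqr ▸ hr1) L

theorem step_two {q J : ℕ} {A B : ℚ} (hq : 2 ≤ q) (hA : 0 ≤ A) (hB : 0 ≤ B) {w : ℕ → ℕ → ℕ} (hw : w (2 * J + 2) = wOdd q)
    (h : GoodW w q (2 * J + 1) A B) :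
    GoodW w q (2 * J + 2) (A * (1 / (1 - ((q : ℚ) ^ (2 * J + 1))⁻¹))) (B * (1 / (1 - ((q : ℚ) ^ (2 * J + 1))⁻¹))) := by
  exact fun m => ⟨step_wOdd (w := w) (δ := 0) hw hq (by omega) (by omega) hA (fun e => (h e).1) m,
    step_wOdd (w := w) (δ := 1) hw hq (by omega) le_rfl hB (fun e => (h e).2) m⟩

theorem step_three {q J : ℕ} {A B : ℚ} (hq : 2 ≤ q) (hA : 0 ≤ A) (hB : 0 ≤ B) {w : ℕ → ℕ → ℕ} (hw : w (2 * J + 3) = wEven q)
    (h : GoodW w q (2 * J + 2) A B) :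
    GoodW w q (2 * J + 3)
      (A * facEv q ((q : ℚ) ^ (2 * J + 3))⁻¹ + B * facOd q ((q : ℚ) ^ (2 * J + 3))⁻¹ * ((q : ℚ) ^ (J + 2))⁻¹)
      (B * facEv q ((q : ℚ) ^ (2 * J + 3))⁻¹ + A * facOd q ((q : ℚ) ^ (2 * J + 3))⁻¹ * ((q : ℚ) ^ (J + 1))⁻¹) := by
  have hq0 : (0 : ℚ) < q := by exact_mod_cast (by omega : 0 < q)
  set s := ((q : ℚ) ^ (2 * J + 3))⁻¹ with hs
  have hs0 : 0 ≤ s := by positivity
  have hqs : (q : ℚ) * s < 1 := by
    rw [hs, ← div_eq_mul_inv, div_lt_one (by positivity)]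
    calc (q : ℚ) = (q : ℚ) ^ 1 := (pow_one _).symm
      _ < (q : ℚ) ^ (2 * J + 3) := pow_lt_pow_right₀ (by exact_mod_cast hq) (by omega)
  have hkb : ∀ b : ℕ, (2 * J + 3) * (2 * b) = 2 * ((2 * J + 3) * b) := fun b => by ring
  have hko : ∀ b : ℕ, (2 * J + 3) * (2 * b + 1) = 2 * ((2 * J + 3) * b) + 2 * J + 3 := fun b => by ring
  have key : ∀ (δ : ℕ) (X Y : ℚ), 0 ≤ X → 0 ≤ Y → ∀ m,
      (∀ b, (2 * J + 3) * (2 * b) ≤ 2 * m + δ →
        (genSum w (2 * J + 2) (2 * m + δ - (2 * J + 3) * (2 * b)) : ℚ) ≤ X * (q : ℚ) ^ m * s ^ b) →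
      (∀ b, (2 * J + 3) * (2 * b + 1) ≤ 2 * m + δ →
        (genSum w (2 * J + 2) (2 * m + δ - (2 * J + 3) * (2 * b + 1)) : ℚ) ≤ Y * (q : ℚ) ^ m * s ^ b) →
      (genSum w (2 * J + 3) (2 * m + δ) : ℚ) ≤ (X * facEv q s + Y * facOd q s) * (q : ℚ) ^ m := by
    intro δ X Y hX hY m he ho
    set L := (2 * m + δ) / (2 * J + 2 + 1) + 1
    calc (genSum w (2 * J + 2 + 1) (2 * m + δ) : ℚ)
        ≤ ∑ a ∈ Finset.range L,
            (w (2 * J + 2 + 1) a : ℚ) * (genSum w (2 * J + 2) (2 * m + δ - (2 * J + 2 + 1) * a) : ℚ) := by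
          exact_mod_cast genSum_succ_le w (2 * J + 2) (2 * m + δ)
      _ ≤ ∑ a ∈ Finset.range L, (q : ℚ) ^ m * ((if Even a then X else Y) * ((wEven q a : ℚ) * s ^ (a / 2))) := by
          refine Finset.sum_le_sum fun a ha => ?_
          have hle : (2 * J + 3) * a ≤ 2 * m + δ :=
            (Nat.mul_le_mul_left _ (Nat.lt_succ_iff.1 (Finset.mem_range.1 ha))).trans
              (Nat.mul_div_le _ (2 * J + 3))
          rw [show w (2 * J + 2 + 1) = wEven q from hw]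
          rcases Nat.even_or_odd' a with ⟨b, rfl | rfl⟩
          · rw [if_pos (even_two_mul b), Nat.mul_div_cancel_left b two_pos]
            refine (mul_le_mul_of_nonneg_left (he b hle) (Nat.cast_nonneg _)).trans (le_of_eq ?_)
            ring
          · rw [if_neg (Nat.not_even_iff_odd.2 (odd_two_mul_add_one b)), show (2 * b + 1) / 2 = b by omega]
            refine (mul_le_mul_of_nonneg_left (ho b hle) (Nat.cast_nonneg _)).trans (le_of_eq ?_)
            ring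
      _ ≤ ∑ a ∈ Finset.range (2 * L), (q : ℚ) ^ m * ((if Even a then X else Y) * ((wEven q a : ℚ) * s ^ (a / 2))) :=
          Finset.sum_le_sum_of_subset_of_nonneg
            (fun a ha => Finset.mem_range.2 (by have := Finset.mem_range.1 ha; omega))
            fun a _ _ => by split_ifs <;> positivity
      _ ≤ _ := by
          rw [sum_range_two, Finset.sum_add_distrib]
          have e1 := sum_even_le q hs0 hqs L
          have e2 := sum_odd_le q hs0 hqs L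
          calc ∑ b ∈ Finset.range L, (q : ℚ) ^ m * ((if Even (2 * b) then X else Y) *
                    ((wEven q (2 * b) : ℚ) * s ^ ((2 * b) / 2))) +
                ∑ b ∈ Finset.range L, (q : ℚ) ^ m * ((if Even (2 * b + 1) then X else Y) *
                    ((wEven q (2 * b + 1) : ℚ) * s ^ ((2 * b + 1) / 2)))
              = (q : ℚ) ^ m * (X * ∑ b ∈ Finset.range L, (wEven q (2 * b) : ℚ) * s ^ b) +
                (q : ℚ) ^ m * (Y * ∑ b ∈ Finset.range L, (wEven q (2 * b + 1) : ℚ) * s ^ b) := by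
                rw [Finset.mul_sum, Finset.mul_sum, Finset.mul_sum, Finset.mul_sum]
                congr 1 <;> refine Finset.sum_congr rfl fun b _ => ?_
                · rw [if_pos (even_two_mul b), Nat.mul_div_cancel_left b two_pos]
                · rw [if_neg (Nat.not_even_iff_odd.2 (odd_two_mul_add_one b)), show (2 * b + 1) / 2 = b by omega]
            _ ≤ (q : ℚ) ^ m * (X * facEv q s) + (q : ℚ) ^ m * (Y * facOd q s) := by gcongr
            _ = _ := by ring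
  intro m
  refine ⟨?_, ?_⟩
  · refine (key 0 A (B * ((q : ℚ) ^ (J + 2))⁻¹) hA (by positivity) m (fun b hb => ?_) fun b hb => ?_).trans
      (le_of_eq (by ring))
    · rw [hkb] at hb ⊢
      obtain ⟨e, rfl⟩ : ∃ e, m = e + (2 * J + 3) * b := ⟨m - (2 * J + 3) * b, by omega⟩
      rw [show 2 * (e + (2 * J + 3) * b) + 0 - 2 * ((2 * J + 3) * b) = 2 * e by omega]
      refine (h e).1.trans (le_of_eq ?_)
      rw [hs, inv_pow, ← pow_mul, pow_add]
      field_simp
    · rw [hko] at hb ⊢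
      obtain ⟨e, rfl⟩ : ∃ e, m = e + ((2 * J + 3) * b + (J + 2)) := ⟨m - ((2 * J + 3) * b + (J + 2)), by omega⟩
      rw [show 2 * (e + ((2 * J + 3) * b + (J + 2))) + 0 - (2 * ((2 * J + 3) * b) + 2 * J + 3) = 2 * e + 1 by omega]
      refine (h e).2.trans (le_of_eq ?_)
      rw [hs, inv_pow, ← pow_mul, pow_add _ e, pow_add _ ((2 * J + 3) * b)]
      field_simp
  · refine (key 1 B (A * ((q : ℚ) ^ (J + 1))⁻¹) hB (by positivity) m (fun b hb => ?_) fun b hb => ?_).trans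
      (le_of_eq (by ring))
    · rw [hkb] at hb ⊢
      obtain ⟨e, rfl⟩ : ∃ e, m = e + (2 * J + 3) * b := ⟨m - (2 * J + 3) * b, by omega⟩
      rw [show 2 * (e + (2 * J + 3) * b) + 1 - 2 * ((2 * J + 3) * b) = 2 * e + 1 by omega]
      refine (h e).2.trans (le_of_eq ?_)
      rw [hs, inv_pow, ← pow_mul, pow_add]
      field_simp
    · rw [hko] at hb ⊢
      obtain ⟨e, rfl⟩ : ∃ e, m = e + ((2 * J + 3) * b + (J + 1)) := ⟨m - ((2 * J + 3) * b + (J + 1)), by omega⟩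
      rw [show 2 * (e + ((2 * J + 3) * b + (J + 1))) + 1 - (2 * ((2 * J + 3) * b) + 2 * J + 3) = 2 * e by omega]
      refine (h e).1.trans (le_of_eq ?_)
      rw [hs, inv_pow, ← pow_mul, pow_add _ e, pow_add _ ((2 * J + 3) * b)]
      field_simp

theorem good_base {q : ℕ} (hq : 3 ≤ q) : GoodO q 1 (28 / 9) (16 / 3) := by
  have hq3 : (3 : ℚ) ≤ q := by exact_mod_cast hq
  have hw : ∀ n, genSum (wO q) 1 n = wEven q n := fun n => by rw [genSum_one, wO, if_pos odd_one]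
  intro m
  rw [hw, hw]
  refine ⟨?_, ?_⟩
  · rcases m with _ | _ | b
    · rw [mul_zero, (wEven_two_mul q 0).1]; norm_num
    · rw [show 2 * (0 + 1) = 2 from rfl, (wEven_two_mul q 0).2.1, zero_add, pow_one]
      push_cast
      linarith
    · rw [(wEven_two_mul q b).2.2]
      push_cast
      calc (q : ℚ) ^ (b + 2) + 6 * (q : ℚ) ^ (b + 1) + (q : ℚ) ^ b = (q : ℚ) ^ b * ((q : ℚ) ^ 2 + 6 * q + 1) := by ring
        _ ≤ (q : ℚ) ^ b * (28 / 9 * (q : ℚ) ^ 2) := mul_le_mul_of_nonneg_left (by nlinarith) (by positivity)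
        _ = _ := by ring
  · rcases m with _ | b
    · rw [mul_zero, zero_add, (wEven_two_mul_add_one q 0).1]; norm_num
    · rw [(wEven_two_mul_add_one q b).2]
      push_cast
      calc 4 * (q : ℚ) ^ (b + 1) + 4 * (q : ℚ) ^ b = (q : ℚ) ^ b * (4 * q + 4) := by ring
        _ ≤ (q : ℚ) ^ b * (16 / 3 * q) := mul_le_mul_of_nonneg_left (by linarith) (by positivity)
        _ = _ := by ring

/-- the bounds for three elements -/
def boundAB : ℕ → ℚ × ℚ
  | 0 => (28 / 9, 16 / 3)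
  | J + 1 =>
    let f := 1 / (1 - ((3 : ℚ) ^ (2 * J + 1))⁻¹)
    let A := (boundAB J).1 * f
    let B := (boundAB J).2 * f
    (A * facEv 3 ((3 : ℚ) ^ (2 * J + 3))⁻¹ + B * facOd 3 ((3 : ℚ) ^ (2 * J + 3))⁻¹ * ((3 : ℚ) ^ (J + 2))⁻¹,
     B * facEv 3 ((3 : ℚ) ^ (2 * J + 3))⁻¹ + A * facOd 3 ((3 : ℚ) ^ (2 * J + 3))⁻¹ * ((3 : ℚ) ^ (J + 1))⁻¹)

theorem fac_nonneg {q : ℚ} (hq : 1 < q) (J : ℕ) :
    0 ≤ facEv q (q ^ (2 * J + 3))⁻¹ ∧ 0 ≤ facOd q (q ^ (2 * J + 3))⁻¹ := by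
  have h : q * (q ^ (2 * J + 3))⁻¹ = (q ^ (2 * J + 2))⁻¹ := by
    rw [pow_succ q (2 * J + 2)]
    field_simp
  have h1 := inv_lt_one_of_one_lt₀ (one_lt_pow₀ hq (show 2 * J + 2 ≠ 0 by omega))
  have hd : 0 ≤ 1 - q * (q ^ (2 * J + 3))⁻¹ := by rw [h]; linarith
  have hq0 : 0 < q := by linarith
  constructor <;> [unfold facEv; unfold facOd] <;> exact div_nonneg (by positivity) hd

theorem fac_anti {q : ℚ} (hq : 3 ≤ q) (J : ℕ) :
    facEv q (q ^ (2 * J + 3))⁻¹ ≤ facEv 3 ((3 : ℚ) ^ (2 * J + 3))⁻¹ ∧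
      facOd q (q ^ (2 * J + 3))⁻¹ ≤ facOd 3 ((3 : ℚ) ^ (2 * J + 3))⁻¹ := by
  have hpow : ∀ n : ℕ, (q ^ n)⁻¹ ≤ ((3 : ℚ) ^ n)⁻¹ := fun n =>
    inv_anti₀ (by positivity) (pow_le_pow_left₀ (by norm_num) hq n)
  have e : ∀ x : ℚ, 0 < x → x * (x ^ (2 * J + 3))⁻¹ = (x ^ (2 * J + 2))⁻¹ := fun x hx => by
    rw [pow_succ x (2 * J + 2)]
    field_simp
  have hd : 0 < 1 - 3 * ((3 : ℚ) ^ (2 * J + 3))⁻¹ := by
    rw [e 3 (by norm_num)]
    linarith [inv_lt_one_of_one_lt₀ (one_lt_pow₀ (show (1 : ℚ) < 3 by norm_num) (show 2 * J + 2 ≠ 0 by omega))]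
  have hdle : 1 - 3 * ((3 : ℚ) ^ (2 * J + 3))⁻¹ ≤ 1 - q * (q ^ (2 * J + 3))⁻¹ := by
    rw [e 3 (by norm_num), e q (by linarith)]
    linarith [hpow (2 * J + 2)]
  have h0 : 0 ≤ (q ^ (2 * J + 3))⁻¹ := by have : (0 : ℚ) ≤ q := by linarith
                                          positivity
  have hle := hpow (2 * J + 3)
  constructor
  · exact div_le_div₀ (by positivity) (by nlinarith) hd hdle
  · exact div_le_div₀ (by positivity) (by linarith) hd hdle

theorem inv_den_le {q : ℚ} (hq : 3 ≤ q) (n : ℕ) :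
    1 / (1 - (q ^ (n + 1))⁻¹) ≤ 1 / (1 - ((3 : ℚ) ^ (n + 1))⁻¹) ∧ 1 ≤ 1 / (1 - (q ^ (n + 1))⁻¹) := by
  have hle : (q ^ (n + 1))⁻¹ ≤ ((3 : ℚ) ^ (n + 1))⁻¹ :=
    inv_anti₀ (by positivity) (pow_le_pow_left₀ (by norm_num) hq _)
  have h1 := inv_lt_one_of_one_lt₀ (one_lt_pow₀ (show (1 : ℚ) < 3 by norm_num) (show n + 1 ≠ 0 by omega))
  have h0 : 0 ≤ (q ^ (n + 1))⁻¹ := by have : (0 : ℚ) ≤ q := by linarith
                                      positivity
  exact ⟨one_div_le_one_div_of_le (by linarith) (by linarith), (le_div_iff₀ (by linarith)).2 (by linarith)⟩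

theorem boundAB_nonneg : ∀ J, 0 ≤ (boundAB J).1 ∧ 0 ≤ (boundAB J).2
  | 0 => by norm_num [boundAB]
  | J + 1 => by
    obtain ⟨hA, hB⟩ := boundAB_nonneg J
    obtain ⟨hE, hO⟩ := fac_nonneg (q := 3) (by norm_num) J
    have hf : 0 ≤ 1 / (1 - ((3 : ℚ) ^ (2 * J + 1))⁻¹) := le_trans zero_le_one (inv_den_le le_rfl (2 * J)).2
    simp only [boundAB]
    constructor <;> positivity

theorem good_odd {q : ℕ} (hq : 3 ≤ q) : ∀ J, GoodO q (2 * J + 1) (boundAB J).1 (boundAB J).2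
  | 0 => good_base hq
  | J + 1 => by
    have hq3 : (3 : ℚ) ≤ q := by exact_mod_cast hq
    obtain ⟨hA, hB⟩ := boundAB_nonneg J
    obtain ⟨hf, hf1⟩ := inv_den_le hq3 (2 * J)
    obtain ⟨hE, hO⟩ := fac_anti hq3 J
    obtain ⟨hE0, hO0⟩ := fac_nonneg (q := (q : ℚ)) (by linarith) J
    have hf0 : (0 : ℚ) ≤ 1 / (1 - ((q : ℚ) ^ (2 * J + 1))⁻¹) := le_trans zero_le_one hf1
    have h := step_three (by omega) (mul_nonneg hA hf0) (mul_nonneg hB hf0) (wO_odd q J)
      (step_two (by omega) hA hB (wO_even q J) (good_odd hq J))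
    have hinv : ∀ n : ℕ, ((q : ℚ) ^ n)⁻¹ ≤ ((3 : ℚ) ^ n)⁻¹ := fun n =>
      inv_anti₀ (by positivity) (pow_le_pow_left₀ (by norm_num) hq3 n)
    have hE3 := (fac_nonneg (q := (3 : ℚ)) (by norm_num) J)
    have hf3 : (0 : ℚ) ≤ 1 / (1 - ((3 : ℚ) ^ (2 * J + 1))⁻¹) := le_trans hf0 hf
    have h1 := hinv (J + 1)
    have h2 := hinv (J + 2)
    have := hE3.1
    have := hE3.2
    intro m
    refine ⟨(h m).1.trans (mul_le_mul_of_nonneg_right ?_ (by positivity)),
      (h m).2.trans (mul_le_mul_of_nonneg_right ?_ (by positivity))⟩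
    · simp only [boundAB]
      gcongr
    · simp only [boundAB]
      gcongr

theorem boundAB_invariant : ∀ j, (boundAB (6 + j)).1 ≤ 83 / 5 * (1 - 4 * ((3 : ℚ) ^ (6 + j))⁻¹) ∧
    (boundAB (6 + j)).2 ≤ 144 / 5 * (1 - 4 * ((3 : ℚ) ^ (6 + j))⁻¹)
  | 0 => by norm_num [boundAB, facEv, facOd]
  | j + 1 => by
    obtain ⟨iA, iB⟩ := boundAB_invariant j
    obtain ⟨hA, hB⟩ := boundAB_nonneg (6 + j)
    obtain ⟨hE0, hO0⟩ := fac_nonneg (q := 3) (by norm_num) (6 + j)
    rw [show 6 + (j + 1) = 6 + j + 1 by omega]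
    simp only [boundAB]
    set J := 6 + j with hJ
    set r := ((3 : ℚ) ^ J)⁻¹ with hr
    have hr0 : 0 ≤ r := by positivity
    have hr1 : r ≤ 1 / 729 := by
      rw [hr, one_div]
      exact inv_anti₀ (by norm_num) (le_trans (by norm_num) (pow_le_pow_right₀ (by norm_num) (show 6 ≤ J by omega)))
    have e1 : ((3 : ℚ) ^ (2 * J + 1))⁻¹ = r ^ 2 / 3 := by rw [hr, pow_add, pow_mul']; field_simp
    have e3 : ((3 : ℚ) ^ (2 * J + 3))⁻¹ = r ^ 2 / 27 := by rw [hr, pow_add, pow_mul']; field_simp; ring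
    have e4 : ((3 : ℚ) ^ (J + 1))⁻¹ = r / 3 := by rw [hr, pow_add]; field_simp
    have e5 : ((3 : ℚ) ^ (J + 2))⁻¹ = r / 9 := by rw [hr, pow_add]; field_simp; ring
    rw [e1, e3, e4, e5]
    rw [e3] at hE0 hO0
    have hr2 : r ^ 2 ≤ r * (1 / 729) := by rw [sq]; exact mul_le_mul_of_nonneg_left hr1 hr0
    have hr3 : r ^ 2 / 27 ≤ 1 := by linarith
    have hf : 1 / (1 - r ^ 2 / 3) ≤ 1 + r / 8 := by
      rw [div_le_iff₀ (by linarith)]
      nlinarith
    have hf0 : 0 ≤ 1 / (1 - r ^ 2 / 3) := div_nonneg zero_le_one (by linarith)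
    have hE : facEv 3 (r ^ 2 / 27) ≤ 1 + r / 8 := by
      rw [facEv, div_le_iff₀ (by linarith)]
      nlinarith [sq_nonneg r]
    have hO : facOd 3 (r ^ 2 / 27) ≤ 9 / 2 := by
      rw [facOd, div_le_iff₀ (by linarith)]
      linarith
    have hA' : (boundAB J).1 * (1 / (1 - r ^ 2 / 3)) ≤ 83 / 5 * (1 - 4 * r) * (1 + r / 8) :=
      mul_le_mul iA hf hf0 (le_trans hA iA)
    have hB' : (boundAB J).2 * (1 / (1 - r ^ 2 / 3)) ≤ 144 / 5 * (1 - 4 * r) * (1 + r / 8) :=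
      mul_le_mul iB hf hf0 (le_trans hB iB)
    have hA0 : 0 ≤ 83 / 5 * (1 - 4 * r) * (1 + r / 8) := le_trans (mul_nonneg hA hf0) hA'
    have hB0 : 0 ≤ 144 / 5 * (1 - 4 * r) * (1 + r / 8) := le_trans (mul_nonneg hB hf0) hB'
    have hr4 : (1 + r / 8) * (1 + r / 8) ≤ 1 + r / 3 := by nlinarith
    constructor
    · refine (add_le_add (mul_le_mul hA' hE hE0 hA0)
        (mul_le_mul (mul_le_mul hB' hO hO0 hB0) le_rfl (by positivity) (mul_nonneg hB0 (by norm_num)))).trans ?_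
      calc 83 / 5 * (1 - 4 * r) * (1 + r / 8) * (1 + r / 8) + 144 / 5 * (1 - 4 * r) * (1 + r / 8) * (9 / 2) * (r / 9)
          = (1 - 4 * r) * (83 / 5 * ((1 + r / 8) * (1 + r / 8)) + 72 / 5 * r * (1 + r / 8)) := by ring
        _ ≤ (1 - 4 * r) * (83 / 5 * (1 + r / 3) + 72 / 5 * r * 2) :=
            mul_le_mul_of_nonneg_left (add_le_add (mul_le_mul_of_nonneg_left hr4 (by norm_num))
              (mul_le_mul_of_nonneg_left (by linarith) (by positivity))) (by linarith)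
        _ ≤ _ := by nlinarith
    · refine (add_le_add (mul_le_mul hB' hE hE0 hB0)
        (mul_le_mul (mul_le_mul hA' hO hO0 hA0) le_rfl (by positivity) (mul_nonneg hA0 (by norm_num)))).trans ?_
      calc 144 / 5 * (1 - 4 * r) * (1 + r / 8) * (1 + r / 8) + 83 / 5 * (1 - 4 * r) * (1 + r / 8) * (9 / 2) * (r / 3)
          = (1 - 4 * r) * (144 / 5 * ((1 + r / 8) * (1 + r / 8)) + 249 / 10 * r * (1 + r / 8)) := by ring
        _ ≤ (1 - 4 * r) * (144 / 5 * (1 + r / 3) + 249 / 10 * r * 2) :=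
            mul_le_mul_of_nonneg_left (add_le_add (mul_le_mul_of_nonneg_left hr4 (by norm_num))
              (mul_le_mul_of_nonneg_left (by linarith) (by positivity))) (by linarith)
        _ ≤ _ := by nlinarith

theorem boundAB_le (J : ℕ) : (boundAB J).1 * (1 / (1 - ((3 : ℚ) ^ (2 * J + 1))⁻¹)) ≤ 83 / 5 ∧
    (boundAB J).2 ≤ 144 / 5 := by
  have mono : ∀ J, (boundAB J).1 * (1 / (1 - ((3 : ℚ) ^ (2 * J + 1))⁻¹)) ≤ (boundAB (J + 1)).1 ∧
      (boundAB J).2 ≤ (boundAB (J + 1)).2 := by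
    intro J
    obtain ⟨hA, hB⟩ := boundAB_nonneg J
    obtain ⟨hE0, hO0⟩ := fac_nonneg (q := 3) (by norm_num) J
    obtain ⟨-, hf1⟩ := inv_den_le (q := (3 : ℚ)) le_rfl (2 * J)
    have hd : 0 < 1 - (3 : ℚ) * ((3 : ℚ) ^ (2 * J + 3))⁻¹ := by
      have : ((3 : ℚ) ^ (2 * J + 3))⁻¹ ≤ 1 / 27 := by
        rw [one_div]
        exact inv_anti₀ (by norm_num) (le_trans (by norm_num) (pow_le_pow_right₀ (by norm_num) (show 3 ≤ 2 * J + 3 by omega)))
      linarith
    have hE1 : 1 ≤ facEv 3 ((3 : ℚ) ^ (2 * J + 3))⁻¹ := by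
      rw [facEv, le_div_iff₀ hd]
      have : 0 ≤ ((3 : ℚ) ^ (2 * J + 3))⁻¹ := by positivity
      nlinarith
    simp only [boundAB]
    refine ⟨le_add_of_le_of_nonneg (le_mul_of_one_le_right (by positivity) hE1) (by positivity), ?_⟩
    exact le_add_of_le_of_nonneg
      (le_trans (le_mul_of_one_le_right hB hf1) (le_mul_of_one_le_right (by positivity) hE1)) (by positivity)
  have hfB : ∀ J, (boundAB J).1 ≤ (boundAB (J + 1)).1 := fun J =>
    le_trans (le_mul_of_one_le_right (boundAB_nonneg J).1 (inv_den_le (q := (3 : ℚ)) le_rfl (2 * J)).2) (mono J).1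
  have hmA := monotone_nat_of_le_succ (f := fun J => (boundAB J).1) hfB
  have hmB := monotone_nat_of_le_succ (f := fun J => (boundAB J).2) fun J => (mono J).2
  have hr : (0 : ℚ) ≤ ((3 : ℚ) ^ (6 + J))⁻¹ := by positivity
  obtain ⟨iA, iB⟩ := boundAB_invariant J
  exact ⟨(mono J).1.trans ((hmA (show J + 1 ≤ 6 + J by omega)).trans (by linarith)),
    (hmB (show J ≤ 6 + J by omega)).trans (by linarith)⟩

/-- the bound for the shapes free of square classes -/
def boundZ (M : ℕ) : ℚ := ∏ i ∈ Finset.range M, 1 / (1 - ((3 : ℚ) ^ (i + 1))⁻¹)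

theorem good_Z {q : ℕ} (hq : 3 ≤ q) : ∀ M, GoodZ q (M + 1) (boundZ M)
  | 0 => by
    refine ⟨fun m => ?_, fun m => le_of_eq ?_⟩
    · rw [genSum_one, wZ, wOdd, if_neg (Nat.not_even_iff_odd.2 (odd_two_mul_add_one m))]
    · rw [genSum_one, wZ, wOdd, if_pos (even_two_mul m), Nat.mul_div_cancel_left _ two_pos, boundZ,
        Finset.prod_range_zero, one_mul]
      push_cast
      rfl
  | M + 1 => by
    obtain ⟨ho, he⟩ := good_Z hq M
    have hq3 : (3 : ℚ) ≤ q := by exact_mod_cast hq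
    have hZ : 0 ≤ boundZ M := Finset.prod_nonneg fun i _ => le_trans zero_le_one (inv_den_le le_rfl i).2
    refine ⟨fun m => Nat.eq_zero_of_le_zero ((genSum_succ_le _ (M + 1) _).trans (le_of_eq ?_)), fun m => ?_⟩
    · refine Finset.sum_eq_zero fun a ha => ?_
      by_cases hev : Even a
      · have hle : (M + 1 + 1) * a ≤ 2 * m + 1 :=
          (Nat.mul_le_mul_left _ (Nat.lt_succ_iff.1 (Finset.mem_range.1 ha))).trans (Nat.mul_div_le _ _)
        obtain ⟨e, he'⟩ := Nat.Odd.sub_even hle (odd_two_mul_add_one m) (hev.mul_left _)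
        rw [he', ho e, mul_zero]
      · rw [wZ, wOdd, if_neg hev, zero_mul]
    · refine (step_wOdd (w := wZ q) (δ := 0) rfl (by omega) (by omega) (by omega) hZ he m).trans ?_
      rw [show boundZ (M + 1) = boundZ M * (1 / (1 - ((3 : ℚ) ^ (M + 1))⁻¹)) from Finset.prod_range_succ _ M]
      exact mul_le_mul_of_nonneg_right (mul_le_mul_of_nonneg_left (inv_den_le hq3 M).1 hZ) (by positivity)

theorem boundZ_le (M : ℕ) : boundZ M ≤ 9 / 5 := by
  have h1 : ∀ i, 1 ≤ 1 / (1 - ((3 : ℚ) ^ (i + 1))⁻¹) := fun i => (inv_den_le le_rfl i).2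
  have main : ∀ j, boundZ (5 + j) ≤ 9 / 5 * (1 - ((3 : ℚ) ^ (5 + j))⁻¹) := by
    intro j
    induction j with
    | zero => norm_num [boundZ, Finset.prod_range_succ]
    | succ j ih =>
      rw [← add_assoc, boundZ, Finset.prod_range_succ]
      refine (mul_le_mul_of_nonneg_right ih (le_trans zero_le_one (h1 _))).trans ?_
      set s := ((3 : ℚ) ^ (5 + j + 1))⁻¹ with hs
      have hs3 : ((3 : ℚ) ^ (5 + j))⁻¹ = 3 * s := by
        rw [hs, pow_succ]
        field_simp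
      have hs1 : s ≤ 1 / 729 := by
        rw [hs, one_div]
        exact inv_anti₀ (by norm_num)
          (le_trans (by norm_num) (pow_le_pow_right₀ (by norm_num) (show 6 ≤ 5 + j + 1 by omega)))
      have : 0 ≤ s := by positivity
      rw [hs3, mul_one_div, div_le_iff₀ (by linarith)]
      nlinarith
  have : 0 ≤ ((3 : ℚ) ^ (5 + M))⁻¹ := by positivity
  refine le_trans (Finset.prod_le_prod_of_subset_of_one_le (Finset.range_mono (Nat.le_add_left M 5))
    (fun i _ => le_trans zero_le_one (h1 i)) fun i _ _ => h1 i) ((main M).trans ?_)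
  linarith

/-- The numerical bound for even dimension. -/
theorem oSum_even_le {q : ℕ} (hq : 3 ≤ q) (n : ℕ) (hn : 1 ≤ n) :
    genSum (wO q) (2 * n) (2 * n) + genSum (wZ q) (2 * n) (2 * n) ≤ 19 * q ^ n := by
  have hq3 : (3 : ℚ) ≤ q := by exact_mod_cast hq
  obtain ⟨J, rfl⟩ : ∃ J, n = J + 1 := ⟨n - 1, by omega⟩
  obtain ⟨hA, hB⟩ := boundAB_nonneg J
  obtain ⟨hf, hf1⟩ := inv_den_le hq3 (2 * J)
  have h1 : (genSum (wO q) (2 * (J + 1)) (2 * (J + 1)) : ℚ) ≤ 83 / 5 * (q : ℚ) ^ (J + 1) := by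
    refine ((step_two (by omega) hA hB (wO_even q J) (good_odd hq J)) (J + 1)).1.trans ?_
    exact mul_le_mul_of_nonneg_right ((mul_le_mul_of_nonneg_left hf hA).trans (boundAB_le J).1) (by positivity)
  have h2 : (genSum (wZ q) (2 * (J + 1)) (2 * (J + 1)) : ℚ) ≤ 9 / 5 * (q : ℚ) ^ (J + 1) :=
    ((good_Z hq (2 * J + 1)).2 (J + 1)).trans (mul_le_mul_of_nonneg_right (boundZ_le _) (by positivity))
  have h3 : (0 : ℚ) ≤ (q : ℚ) ^ (J + 1) := by positivity
  have : ((genSum (wO q) (2 * (J + 1)) (2 * (J + 1)) + genSum (wZ q) (2 * (J + 1)) (2 * (J + 1)) : ℕ) : ℚ) ≤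
      ((19 * q ^ (J + 1) : ℕ) : ℚ) := by
    push_cast
    linarith
  exact_mod_cast this

/-- The numerical bound for odd dimension. -/
theorem oSum_odd_le {q : ℕ} (hq : 3 ≤ q) (n : ℕ) :
    5 * (genSum (wO q) (2 * n + 1) (2 * n + 1) + genSum (wZ q) (2 * n + 1) (2 * n + 1)) ≤ 144 * q ^ n := by
  have h1 : (genSum (wO q) (2 * n + 1) (2 * n + 1) : ℚ) ≤ 144 / 5 * (q : ℚ) ^ n :=
    ((good_odd hq n) n).2.trans (mul_le_mul_of_nonneg_right (boundAB_le n).2 (by positivity))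
  rw [(good_Z hq (2 * n)).1 n, add_zero]
  have : ((5 * genSum (wO q) (2 * n + 1) (2 * n + 1) : ℕ) : ℚ) ≤ ((144 * q ^ n : ℕ) : ℚ) := by
    push_cast
    linarith
  exact_mod_cast this

end Cfsg.Agent.Small.ClassNumberO
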