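import Mathlib
import Cfsg.Agent.Lib.Small.ClassNumberO.Count

/-!
Parameters with no repeated eigenvalue `±1` among the blocks of size one.
-/

set_option autoImplicit false
set_option linter.unusedSectionVars false
set_option linter.style.haveILetI false

namespace Cfsg.Agent.Small.ClassNumberO

open Matrix Polynomial Cfsg.Agent.Small.ClassNumber Cfsg.Agent.Small.ClassNumberU Cfsg.Agent.Small.ClassNumberSp

attribute [local instance] starRingOfComm

universe u

/-- self-dual polynomials without the roots `±1` -/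
def wU (q d : ℕ) : ℕ :=
  if Even d then (if d = 0 then 1 else if d = 2 then q - 2 else (q - 1) ^ 2 * q ^ (d / 2 - 2)) else 0

/-- weight of the blocks of size one -/
def wR (q d : ℕ) : ℕ :=
  wU q d + 4 * (if 1 ≤ d then wU q (d - 1) else 0) + 4 * (if 2 ≤ d then wU q (d - 2) else 0)

/-- the restricted weight -/
def wS (q k d : ℕ) : ℕ := if k = 1 then wR q d else wO q k d

/-- the combined weight -/
def wX (q k d : ℕ) : ℕ := if k = 1 then wEven q d + 3 * wR q d else wO q k d

variable {F : Type u} [Field F] [Fintype F]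

variable (F) in
/-- self-dual polynomials without the roots `±1` -/
def NoRoot (e : ℕ) : Type u := {G : SD F e // G.1.eval 1 ≠ 0 ∧ G.1.eval (-1) ≠ 0}

instance instFiniteNoRoot (e : ℕ) : Finite (NoRoot F e) := Subtype.finite

theorem noRoot_spec (h2 : (2 : F) ≠ 0) {e : ℕ} (G : NoRoot F e) :
    Even e ∧ G.1.1.coeff 0 = 1 ∧ ∀ i ≤ e, G.1.1.coeff i = G.1.1.coeff (e - i) := by
  obtain ⟨h1, h0⟩ := even_of_no_root h2 G.1.2.2.2.1 G.2.1 G.2.2
  rw [G.1.2.2.2.2] at h1
  refine ⟨h1, h0, fun i hi => ?_⟩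
  rw [(coeff_symm G.1).2 i hi, h0, one_mul]

theorem card_noRoot (h2 : (2 : F) ≠ 0) (e : ℕ) : Nat.card (NoRoot F e) ≤ wU (Fintype.card F) e := by
  classical
  by_cases hev : Even e
  swap
  · haveI : IsEmpty (NoRoot F e) := ⟨fun G => hev (noRoot_spec h2 G).1⟩
    rw [Nat.card_of_isEmpty]
    exact Nat.zero_le _
  rw [wU, if_pos hev]
  split_ifs with h0 h22
  · subst h0
    haveI : Subsingleton (NoRoot F 0) := ⟨fun G H => Subtype.ext (Subtype.ext
      ((G.1.2.1.natDegree_eq_zero.1 G.1.2.2.2.2).trans (H.1.2.1.natDegree_eq_zero.1 H.1.2.2.2.2).symm))⟩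
    exact Finite.card_le_one_iff_subsingleton.2 inferInstance
  · subst h22
    have heval : ∀ (G : NoRoot F 2) (c : F), G.1.1.eval c = 1 + G.1.1.coeff 1 * c + c ^ 2 := by
      intro G c
      obtain ⟨-, hc0, hs⟩ := noRoot_spec h2 G
      rw [eval_eq_sum_range, G.1.2.2.2.2, Finset.sum_range_succ, Finset.sum_range_succ, Finset.sum_range_one,
        hc0, hs 2 le_rfl, Nat.sub_self, hc0]
      ring
    have hne : ∀ G : NoRoot F 2, G.1.1.coeff 1 ∈ (({2, -2} : Finset F)ᶜ) := by
      intro G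
      simp only [Finset.mem_compl, Finset.mem_insert, Finset.mem_singleton, not_or]
      exact ⟨fun h => G.2.2 (by rw [heval, h]; ring), fun h => G.2.1 (by rw [heval, h]; ring)⟩
    refine le_trans (Nat.card_le_card_of_injective
      (fun G : NoRoot F 2 => (⟨G.1.1.coeff 1, hne G⟩ : (({2, -2} : Finset F)ᶜ : Finset F))) fun G H h => ?_) ?_
    · obtain ⟨-, g0, gs⟩ := noRoot_spec h2 G
      obtain ⟨-, h0', hs⟩ := noRoot_spec h2 H
      refine Subtype.ext (Subtype.ext (eq_of_coeff G.1.2.2.2.2 H.1.2.2.2.2 fun i hi => ?_))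
      rcases (show i = 0 ∨ i = 1 ∨ i = 2 by omega) with rfl | rfl | rfl
      · rw [g0, h0']
      · exact congrArg Subtype.val h
      · rw [gs 2 le_rfl, hs 2 le_rfl, Nat.sub_self, g0, h0']
    · rw [Nat.card_eq_fintype_card, Fintype.card_coe, Finset.card_compl,
        Finset.card_pair (fun h : (2 : F) = -2 => mul_ne_zero h2 h2 (by linear_combination h))]
  · obtain ⟨j, rfl⟩ : ∃ j, e = 2 * (j + 2) := by
      obtain ⟨i, rfl⟩ := hev
      exact ⟨i - 2, by omega⟩
    rw [Nat.mul_div_cancel_left _ two_pos, Nat.add_sub_cancel]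
    refine le_trans (Nat.card_le_card_of_injective
      (fun G : NoRoot F (2 * (j + 2)) => ((fun i : Fin j => G.1.1.coeff (i.val + 1)),
        Units.mk0 _ G.2.1, Units.mk0 _ G.2.2)) fun G H h => ?_) ?_
    · obtain ⟨hlow, h1, h1'⟩ : (fun i : Fin j => G.1.1.coeff (i.val + 1)) = (fun i : Fin j => H.1.1.coeff (i.val + 1)) ∧
          G.1.1.eval 1 = H.1.1.eval 1 ∧ G.1.1.eval (-1) = H.1.1.eval (-1) :=
        ⟨congrArg Prod.fst h, congrArg (fun p => (p.2.1 : F)) h, congrArg (fun p => (p.2.2 : F)) h⟩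
      obtain ⟨-, g0, gs⟩ := noRoot_spec h2 G
      obtain ⟨-, h0', hs⟩ := noRoot_spec h2 H
      set D := G.1.1 - H.1.1 with hD
      have hD0 : ∀ i ≤ j, D.coeff i = 0 := by
        intro i hi
        rw [hD, coeff_sub, sub_eq_zero]
        rcases Nat.eq_zero_or_pos i with rfl | hpos
        · rw [g0, h0']
        · have := congrFun hlow ⟨i - 1, by omega⟩
          simpa only [Nat.sub_add_cancel hpos] using this
      have hDs : ∀ i ≤ 2 * (j + 2), D.coeff i = D.coeff (2 * (j + 2) - i) := fun i hi => by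
        rw [hD, coeff_sub, coeff_sub, gs i hi, hs i hi]
      set a := D.coeff (j + 1) with ha
      set b := D.coeff (j + 2) with hb
      have hform : D = C a * X ^ (j + 1) + C b * X ^ (j + 2) + C a * X ^ (j + 3) := by
        refine Polynomial.ext fun i => ?_
        simp only [coeff_add, coeff_C_mul_X_pow]
        by_cases hbig : 2 * (j + 2) < i
        · rw [if_neg (by omega), if_neg (by omega), if_neg (by omega), hD, coeff_sub,
            coeff_eq_zero_of_natDegree_lt (by rw [G.1.2.2.2.2]; exact hbig),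
            coeff_eq_zero_of_natDegree_lt (by rw [H.1.2.2.2.2]; exact hbig)]
          simp
        rcases (show i = j + 1 ∨ i = j + 2 ∨ i = j + 3 ∨ i ≤ j ∨ j + 4 ≤ i by omega) with rfl | rfl | rfl | hi | hi
        · simp [ha]
        · simp [hb]
        · rw [hDs _ (by omega), show 2 * (j + 2) - (j + 3) = j + 1 by omega]
          simp [ha]
        · rw [hD0 i hi, if_neg (by omega), if_neg (by omega), if_neg (by omega)]
          simp
        · rw [hDs i (by omega), hD0 _ (by omega), if_neg (by omega), if_neg (by omega), if_neg (by omega)]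
          simp
      have e1 : D.eval 1 = 0 := by rw [hD, eval_sub, h1, sub_self]
      have e2 : D.eval (-1) = 0 := by rw [hD, eval_sub, h1', sub_self]
      rw [hform] at e1 e2
      simp only [eval_add, eval_mul, eval_C, eval_pow, eval_X, one_pow, mul_one, pow_succ] at e1 e2
      have e3 : b - 2 * a = 0 := by
        have hu : ((-1 : F) ^ j) * ((-1) ^ j) = 1 := by rw [← mul_pow]; simp
        linear_combination (-1 : F) ^ j * e2 - (b - 2 * a) * hu
      have hb0 : b = 0 := (mul_eq_zero.1 (show (2 : F) * b = 0 by linear_combination e1 + e3)).resolve_left h2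
      have ha0 : a = 0 := (mul_eq_zero.1 (show (2 : F) * a = 0 by linear_combination e1 - hb0)).resolve_left h2
      refine Subtype.ext (Subtype.ext (sub_eq_zero.1 ?_))
      show D = 0
      rw [hform, ha0, hb0]
      simp
    · rw [Nat.card_prod, Nat.card_prod, Nat.card_fun, Nat.card_fin, Nat.card_eq_fintype_card (α := Fˣ),
        Fintype.card_units, Nat.card_eq_fintype_card (α := F)]
      exact le_of_eq (by ring)

variable (F) in
/-- No repeated linear factor `X ∓ 1`. -/
def Single (G : F[X]) : Prop := ¬ (X - C (1 : F)) ^ 2 ∣ G ∧ ¬ (X - C (-1 : F)) ^ 2 ∣ G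

/-- parameters without repeated blocks of size one -/
def Restricted {M : ℕ} (G : Fin M → F[X]) : Prop := ∀ k : Fin M, k.val = 0 → Single F (G k)

variable (F) in
/-- parameters of size one without repetition -/
def FibreR (d : ℕ) : Type u := {x : FibreO F 1 d // Single F x.1.1}

instance instFiniteFibreR (d : ℕ) : Finite (FibreR F d) := Subtype.finite

theorem card_fibreR (h2 : (2 : F) ≠ 0) (d : ℕ) : Nat.card (FibreR F d) ≤ wR (Fintype.card F) d := by
  classical
  have h11 : (1 : F) ≠ -1 := fun h => h2 (by linear_combination h)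
  have hsplit : ∀ x : FibreR F d, ∃ (a c : Bool) (e : ℕ) (H : NoRoot F e), e + a.toNat + c.toNat = d ∧
      x.1.1.1 = (X - C (1 : F)) ^ a.toNat * (X - C (-1)) ^ c.toNat * H.1.1 ∧
      (x.1.1.2.1 = true → a = true) ∧ (x.1.1.2.2 = true → c = true) := by
    rintro ⟨⟨⟨G, u, v⟩, ⟨⟨hm, hG0, hd, -, hu, hv⟩, hdeg⟩⟩, hs1, hs2⟩
    dsimp only at hs1 hs2 hm hG0 hd hu hv hdeg ⊢
    have peel : ∀ (c : F), c * c = 1 → ∀ G : F[X], G.Monic → G.coeff 0 ≠ 0 → dual G = G →
        ¬ (X - C c) ^ 2 ∣ G → ∃ (a : Bool) (H : F[X]), H.Monic ∧ H.coeff 0 ≠ 0 ∧ dual H = H ∧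
          G = (X - C c) ^ a.toNat * H ∧ H.eval c ≠ 0 ∧ H.natDegree + a.toNat = G.natDegree ∧
          (G.eval c = 0 → a = true) := by
      intro c hc G hm hG0 hd hsq
      by_cases hr : G.eval c = 0
      · obtain ⟨H, hH⟩ := dvd_iff_isRoot.2 (show IsRoot G c from hr)
        have hHm : H.Monic := (monic_X_sub_C c).of_mul_monic_left (hH ▸ hm)
        refine ⟨true, H, hHm, ?_, ?_, by simpa using hH, fun h => hsq ?_, ?_, fun _ => rfl⟩
        · rw [hH, mul_coeff_zero] at hG0
          exact right_ne_zero_of_mul hG0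
        · rw [hH, dual_mul, dual_linear hc] at hd
          exact mul_left_cancel₀ (X_sub_C_ne_zero c) hd
        · obtain ⟨K, hK⟩ := dvd_iff_isRoot.2 (show IsRoot H c from h)
          exact ⟨K, by rw [hH, hK]; ring⟩
        · rw [hH, (monic_X_sub_C c).natDegree_mul hHm, natDegree_X_sub_C, Bool.toNat_true]
          omega
      · exact ⟨false, G, hm, hG0, hd, by simp, hr, by simp, fun h => absurd h hr⟩
    obtain ⟨a, H₁, m₁, z₁, d₁, e₁, r₁, g₁, t₁⟩ := peel 1 (one_mul 1) G hm hG0 hd hs1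
    obtain ⟨c, H₂, m₂, z₂, d₂, e₂, r₂, g₂, t₂⟩ := peel (-1) (by ring) H₁ m₁ z₁ d₁
      fun h => hs2 (e₁ ▸ h.mul_left _)
    refine ⟨a, c, H₂.natDegree, ⟨⟨H₂, m₂, z₂, d₂, rfl⟩, fun h => r₁ ?_, r₂⟩, by omega,
      by rw [e₁, e₂, mul_assoc], fun h => t₁ (hu h).2, fun h => t₂ ?_⟩
    · rw [e₂, eval_mul, h, mul_zero]
    · have h3 := (hv h).2
      rw [e₁, eval_mul, eval_pow, eval_sub, eval_X, eval_C] at h3
      exact (mul_eq_zero.1 h3).resolve_left (pow_ne_zero _ (sub_ne_zero.2 h11.symm))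
  choose A Cc E H hE hG hu hv using hsplit
  let T := NoRoot F d ⊕ (Bool × {p : NoRoot F (d - 1) // 1 ≤ d}) ⊕ (Bool × {p : NoRoot F (d - 1) // 1 ≤ d}) ⊕
    (Bool × Bool × {p : NoRoot F (d - 2) // 2 ≤ d})
  let dec : T → F[X] × Bool × Bool := Sum.elim (fun p => (p.1.1, false, false))
    (Sum.elim (fun p => ((X - C (1 : F)) * p.2.1.1.1, p.1, false))
      (Sum.elim (fun p => ((X - C (-1 : F)) * p.2.1.1.1, false, p.1))
        fun p => ((X - C (1 : F)) * (X - C (-1 : F)) * p.2.2.1.1.1, p.1, p.2.1)))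
  have hdecomp : ∀ (a c : Bool) (e : ℕ) (K : NoRoot F e) (G : F[X]) (u v : Bool), e + a.toNat + c.toNat = d →
      G = (X - C (1 : F)) ^ a.toNat * (X - C (-1)) ^ c.toNat * K.1.1 → (u = true → a = true) →
      (v = true → c = true) → ∃ z : T, dec z = (G, u, v) := by
    intro a c e K G u v hE' hG' hu' hv'
    cases a <;> cases c <;> simp only [Bool.toNat_false, Bool.toNat_true, pow_zero, pow_one, one_mul, mul_one,
      add_zero] at hG' hE'
    · obtain rfl : e = d := hE'
      cases u <;> [skip; exact absurd (hu' rfl) (by decide)]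
      cases v <;> [skip; exact absurd (hv' rfl) (by decide)]
      exact ⟨Sum.inl K, by rw [hG']; rfl⟩
    · obtain rfl : e = d - 1 := by omega
      cases u <;> [skip; exact absurd (hu' rfl) (by decide)]
      exact ⟨Sum.inr (Sum.inr (Sum.inl (v, ⟨K, by omega⟩))), by rw [hG']; rfl⟩
    · obtain rfl : e = d - 1 := by omega
      cases v <;> [skip; exact absurd (hv' rfl) (by decide)]
      exact ⟨Sum.inr (Sum.inl (u, ⟨K, by omega⟩)), by rw [hG']; rfl⟩
    · obtain rfl : e = d - 2 := by omega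
      exact ⟨Sum.inr (Sum.inr (Sum.inr (u, v, ⟨K, by omega⟩))), by rw [hG']; rfl⟩
  choose f hf using fun x : FibreR F d =>
    hdecomp (A x) (Cc x) (E x) (H x) x.1.1.1 x.1.1.2.1 x.1.1.2.2 (hE x) (hG x) (hu x) (hv x)
  refine le_trans (Nat.card_le_card_of_injective f fun x y h => Subtype.ext (Subtype.ext ((hf x).symm.trans ((congrArg dec h).trans (hf y))))) ?_
  have hsub : ∀ (e : ℕ) (P : Prop) [Decidable P],
      Nat.card {p : NoRoot F e // P} ≤ if P then wU (Fintype.card F) e else 0 := by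
    intro e P _
    split_ifs with hP
    · exact (Finite.card_subtype_le _).trans (card_noRoot h2 e)
    · haveI : IsEmpty {p : NoRoot F e // P} := ⟨fun p => hP p.2⟩
      rw [Nat.card_of_isEmpty]
  simp only [T, Nat.card_sum, Nat.card_prod, show Nat.card Bool = 2 by simp]
  have b0 := card_noRoot h2 d
  have b1 := hsub (d - 1) (1 ≤ d)
  have b2 := hsub (d - 2) (2 ≤ d)
  rw [wR]
  omega

theorem card_seqR (h2 : (2 : F) ≠ 0) (M n : ℕ) :
    Nat.card {x : SeqO F M n // Restricted fun j => (x.1 j).1} ≤ genSum (wS (Fintype.card F)) M n := by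
  classical
  let T := Σ d : {d // d ∈ shapes M n}, ∀ k : Fin M,
    {y : FibreO F (k.val + 1) (d.1 k) // k.val = 0 → Single F y.1.1}
  refine le_trans (Nat.card_le_card_of_injective
    (fun x : {x : SeqO F M n // Restricted fun j => (x.1 j).1} =>
      (⟨⟨fun k => (x.1.1 k).1.natDegree, mem_shapes.2 x.1.2.2⟩, fun k => ⟨⟨x.1.1 k, x.1.2.1 k, rfl⟩, x.2 k⟩⟩ : T))
    fun x y h => Subtype.ext (Subtype.ext (congrArg (fun z : T => fun k => (z.2 k).1.1) h))) ?_
  rw [Nat.card_sigma, genSum, ← Finset.sum_coe_sort (shapes M n)]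
  refine Finset.sum_le_sum fun d _ => ?_
  rw [Nat.card_pi]
  refine Finset.prod_le_prod' fun k _ => ?_
  rw [wS]
  split_ifs with hk
  · have hk0 : k.val = 0 := by omega
    refine le_trans (le_of_eq ?_) (card_fibreR h2 (d.1 k))
    rw [FibreR, hk]
    exact Nat.card_congr (Equiv.subtypeEquivRight fun y => ⟨fun h => h hk0, fun h _ => h⟩)
  · exact (Finite.card_subtype_le _).trans (card_fibreO h2 _ _)

/-- The weights combine linearly. -/
theorem genSum_wX (q M n : ℕ) :
    genSum (wX q) (M + 1) n = genSum (wO q) (M + 1) n + 3 * genSum (wS q) (M + 1) n := by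
  rw [genSum, genSum, genSum, Finset.mul_sum, ← Finset.sum_add_distrib]
  refine Finset.sum_congr rfl fun d _ => ?_
  have hrest : ∀ i : Fin M, ((i.succ : Fin (M + 1)).val + 1 = 1) = False := fun i =>
    eq_false (by rw [Fin.val_succ]; omega)
  simp only [Fin.prod_univ_succ, wX, wS, hrest, if_false, Fin.val_zero, zero_add, if_true]
  rw [show wO q 1 (d 0) = wEven q (d 0) by rw [wO, if_pos odd_one]]
  ring

end Cfsg.Agent.Small.ClassNumberO
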