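import Mathlib
import Cfsg.Agent.Lib.Small.ClassNumberO.Arith
import Cfsg.Agent.Lib.Small.ClassNumberO.CountR

/-!
Numerical bounds for odd dimension: the combined weight for three elements, the plain weight otherwise.
-/

set_option autoImplicit false
set_option linter.unusedSectionVars false
set_option linter.style.haveILetI false

namespace Cfsg.Agent.Small.ClassNumberO

open Cfsg.Agent.Small.ClassNumberU Cfsg.Agent.Small.ClassNumberSp

theorem wU_odd (q : ℕ) {d : ℕ} (h : Odd d) : wU q d = 0 := by rw [wU, if_neg (Nat.not_even_iff_odd.2 h)]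

theorem wU_three (b : ℕ) : wU 3 (2 * (b + 2)) = 4 * 3 ^ b := by
  rw [wU, if_pos (even_two_mul _), if_neg (by omega), if_neg (by omega), Nat.mul_div_cancel_left _ two_pos]
  rfl

/-- The weight of the first size for three elements. -/
theorem first_three (b : ℕ) :
    wEven 3 (2 * (b + 2)) + 3 * wR 3 (2 * (b + 2)) ≤ 56 * 3 ^ b ∧
      wEven 3 (2 * (b + 2) + 1) + 3 * wR 3 (2 * (b + 2) + 1) ≤ 96 * 3 ^ b := by
  have e1 := (wEven_two_mul 3 b).2.2
  have e2 : wEven 3 (2 * (b + 2) + 1) = 4 * 3 ^ (b + 2) + 4 * 3 ^ (b + 1) := (wEven_two_mul_add_one 3 (b + 1)).2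
  have h1 : wU 3 (2 * (b + 2) - 1) = 0 := wU_odd 3 ⟨b + 1, by omega⟩
  have h2 : wU 3 (2 * (b + 2) + 1) = 0 := wU_odd 3 ⟨b + 2, rfl⟩
  have h3 : wU 3 (2 * (b + 2) + 1 - 2) = 0 := wU_odd 3 ⟨b + 1, by omega⟩
  constructor
  · rw [wR, if_pos (by omega), if_pos (by omega), h1, e1, wU_three,
      show 2 * (b + 2) - 2 = 2 * (b + 1) by omega]
    rcases b with _ | c
    · decide
    · rw [show 2 * (c + 1 + 1) = 2 * (c + 2) from rfl, wU_three]
      simp only [pow_succ]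
      omega
  · rw [wR, if_pos (by omega), if_pos (by omega), h2, h3, e2, Nat.add_sub_cancel, wU_three]
    simp only [pow_succ]
    omega

/-- Sizes one and two for three elements. -/
theorem sum_two_three : ∀ m K,
    3 * ∑ b ∈ Finset.range K, (if 4 * b ≤ 2 * m then 3 ^ b * (wEven 3 (2 * m - 4 * b) + 3 * wR 3 (2 * m - 4 * b)) else 0)
        ≤ 28 * 3 ^ m ∧
      ∑ b ∈ Finset.range K, (if 4 * b ≤ 2 * m + 1 then
          3 ^ b * (wEven 3 (2 * m + 1 - 4 * b) + 3 * wR 3 (2 * m + 1 - 4 * b)) else 0) ≤ 16 * 3 ^ m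
  | 0, K | 1, K => by
    constructor <;> rcases K with _ | K
    all_goals first
      | (simp; done)
      | (rw [Finset.sum_range_succ', Finset.sum_eq_zero fun b _ => if_neg (by omega)]; decide)
  | m + 2, K => by
    rcases K with _ | K
    · simp
    obtain ⟨h1, h2⟩ := sum_two_three m K
    obtain ⟨f1, f2⟩ := first_three m
    have e : ∀ (δ b : ℕ), (if 4 * (b + 1) ≤ 2 * (m + 2) + δ then
        3 ^ (b + 1) * (wEven 3 (2 * (m + 2) + δ - 4 * (b + 1)) + 3 * wR 3 (2 * (m + 2) + δ - 4 * (b + 1))) else 0) =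
        3 * (if 4 * b ≤ 2 * m + δ then 3 ^ b * (wEven 3 (2 * m + δ - 4 * b) + 3 * wR 3 (2 * m + δ - 4 * b)) else 0) := by
      intro δ b
      rw [show 2 * (m + 2) + δ - 4 * (b + 1) = 2 * m + δ - 4 * b by omega]
      split_ifs with u v v <;> first | omega | ring1
    have e0 := e 0
    simp only [Nat.add_zero] at e0
    constructor
    · rw [Finset.sum_range_succ', if_pos (Nat.zero_le _), Finset.sum_congr rfl fun b _ => e0 b, ← Finset.mul_sum]
      simp only [Nat.add_zero, mul_zero, Nat.sub_zero, pow_zero, one_mul]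
      rw [show 3 ^ (m + 2) = 9 * 3 ^ m by ring]
      omega
    · rw [Finset.sum_range_succ', if_pos (Nat.zero_le _), Finset.sum_congr rfl fun b _ => e 1 b, ← Finset.mul_sum]
      simp only [mul_zero, Nat.sub_zero, pow_zero, one_mul]
      rw [show 3 ^ (m + 2) = 9 * 3 ^ m by ring]
      omega

theorem good_two_three : GoodW (wX 3) 3 2 (28 / 3) 16 := by
  have key : ∀ n, genSum (wX 3) 2 n ≤
      ∑ b ∈ Finset.range (n + 1), if 4 * b ≤ n then 3 ^ b * (wEven 3 (n - 4 * b) + 3 * wR 3 (n - 4 * b)) else 0 := by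
    intro n
    refine (genSum_succ_le _ 1 n).trans ?_
    have hterm : ∀ a ∈ Finset.range (n / (1 + 1) + 1), wX 3 (1 + 1) a * genSum (wX 3) 1 (n - (1 + 1) * a) ≤
        if Even a then (if 4 * (a / 2) ≤ n then
          3 ^ (a / 2) * (wEven 3 (n - 4 * (a / 2)) + 3 * wR 3 (n - 4 * (a / 2))) else 0) else 0 := by
      intro a ha
      rw [show wX 3 (1 + 1) a = wOdd 3 a by rw [wX, if_neg (by omega), wO, if_neg (by decide)], wOdd]
      by_cases hev : Even a
      · obtain ⟨b, rfl⟩ := hev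
        have hle : b + b ≤ n / (1 + 1) := Nat.lt_succ_iff.1 (Finset.mem_range.1 ha)
        rw [if_pos ⟨b, rfl⟩, if_pos ⟨b, rfl⟩, show (b + b) / 2 = b by omega, if_pos (by omega), genSum_one, wX,
          if_pos rfl, show n - (1 + 1) * (b + b) = n - 4 * b by omega]
      · rw [if_neg hev, if_neg hev, zero_mul]
    refine (Finset.sum_le_sum hterm).trans ?_
    rw [← Finset.sum_filter]
    refine le_of_eq_of_le ?_ (Finset.sum_le_sum_of_subset
      (s := ((Finset.range (n / (1 + 1) + 1)).filter Even).image (· / 2)) ?_)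
    · rw [Finset.sum_image]
      intro a ha b hb h
      obtain ⟨i, rfl⟩ := (Finset.mem_filter.1 ha).2
      obtain ⟨j, rfl⟩ := (Finset.mem_filter.1 hb).2
      simp only at h
      omega
    · intro b hb
      obtain ⟨a, ha, rfl⟩ := Finset.mem_image.1 hb
      have := Finset.mem_range.1 (Finset.mem_filter.1 ha).1
      exact Finset.mem_range.2 (by omega)
  intro m
  obtain ⟨h1, h2⟩ := sum_two_three m (2 * m + 1)
  obtain ⟨-, h2'⟩ := sum_two_three m (2 * m + 1 + 1)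
  have k1 : ((3 * genSum (wX 3) 2 (2 * m) : ℕ) : ℚ) ≤ ((28 * 3 ^ m : ℕ) : ℚ) := by
    exact_mod_cast (Nat.mul_le_mul_left 3 (key (2 * m))).trans h1
  have k2 : ((genSum (wX 3) 2 (2 * m + 1) : ℕ) : ℚ) ≤ ((16 * 3 ^ m : ℕ) : ℚ) := by
    exact_mod_cast (key (2 * m + 1)).trans h2'
  push_cast at k1 k2 ⊢
  constructor <;> linarith

theorem good_three : ∀ J, GoodW (wX 3) 3 (2 * J + 3) (2 * (boundAB (J + 1)).1) (2 * (boundAB (J + 1)).2) := by
  have hodd : ∀ J, wX 3 (2 * J + 3) = wEven 3 := fun J => funext fun a => by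
    rw [wX, if_neg (by omega), wO_odd]
  have heven : ∀ J, wX 3 (2 * (J + 1) + 2) = wOdd 3 := fun J => funext fun a => by
    rw [wX, if_neg (by omega), wO_even]
  intro J
  induction J with
  | zero =>
    have h := step_three (q := 3) (J := 0) (by norm_num) (by norm_num) (by norm_num) (hodd 0) good_two_three
    intro m
    refine ⟨(h m).1.trans (le_of_eq ?_), (h m).2.trans (le_of_eq ?_)⟩ <;> simp only [boundAB] <;> push_cast <;> ring
  | succ J ih =>
    obtain ⟨hA, hB⟩ := boundAB_nonneg (J + 1)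
    have hf : 0 ≤ 1 / (1 - (((3 : ℕ) : ℚ) ^ (2 * (J + 1) + 1))⁻¹) := by
      have := (inv_den_le (q := (3 : ℚ)) le_rfl (2 * (J + 1))).2
      push_cast
      linarith
    have h := step_three (q := 3) (J := J + 1) (by norm_num) (mul_nonneg (mul_nonneg two_pos.le hA) hf)
      (mul_nonneg (mul_nonneg two_pos.le hB) hf) (hodd (J + 1))
      (step_two (q := 3) (J := J + 1) (by norm_num) (mul_nonneg two_pos.le hA) (mul_nonneg two_pos.le hB) (heven J) ih)
    intro m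
    refine ⟨(h m).1.trans (le_of_eq ?_), (h m).2.trans (le_of_eq ?_)⟩ <;>
      rw [show boundAB (J + 1 + 1) = _ from boundAB.eq_2 (J + 1)] <;> push_cast <;> ring

/-- The combined bound for three elements. -/
theorem wX_sum_le (n : ℕ) (hn : 1 ≤ n) : 5 * genSum (wX 3) (2 * n + 1) (2 * n + 1) ≤ 288 * 3 ^ n := by
  obtain ⟨J, rfl⟩ : ∃ J, n = J + 1 := ⟨n - 1, by omega⟩
  have h := (good_three J (J + 1)).2
  have hB := (boundAB_le (J + 1)).2
  have h' : ((5 * genSum (wX 3) (2 * J + 3) (2 * (J + 1) + 1) : ℕ) : ℚ) ≤ ((288 * 3 ^ (J + 1) : ℕ) : ℚ) := by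
    push_cast
    have h3 : (0 : ℚ) ≤ (3 : ℚ) ^ (J + 1) := by positivity
    have := mul_le_mul_of_nonneg_right hB h3
    push_cast at h
    linarith
  exact_mod_cast h'

theorem good_five {q : ℕ} (hq : 5 ≤ q) : ∀ J, GoodO q (2 * J + 3)
    (11 / 2 * (1 - ((5 : ℚ) ^ (J + 1))⁻¹)) (23 / 2 * (1 - ((5 : ℚ) ^ (J + 1))⁻¹)) := by
  have hq5 : (5 : ℚ) ≤ q := by exact_mod_cast hq
  have hq0 : (0 : ℚ) < q := by linarith
  have hinv : ∀ n : ℕ, ((q : ℚ) ^ n)⁻¹ ≤ ((5 : ℚ) ^ n)⁻¹ := fun n =>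
    inv_anti₀ (by positivity) (pow_le_pow_left₀ (by norm_num) hq5 n)
  have hqs : ∀ J : ℕ, (q : ℚ) * ((q : ℚ) ^ (2 * J + 3))⁻¹ ≤ ((5 : ℚ) ^ (2 * J + 2))⁻¹ := fun J => by
    refine le_trans (le_of_eq ?_) (hinv (2 * J + 2))
    rw [pow_succ (q : ℚ) (2 * J + 2)]
    field_simp
  have hfE : ∀ (J : ℕ) (s t E O : ℚ), ((q : ℚ) ^ (2 * J + 3))⁻¹ ≤ s → ((5 : ℚ) ^ (2 * J + 2))⁻¹ ≤ t → t < 1 →
      1 + 6 * s + s ^ 2 ≤ E * (1 - t) → 4 * (1 + s) ≤ O * (1 - t) →
      facEv q ((q : ℚ) ^ (2 * J + 3))⁻¹ ≤ E ∧ facOd q ((q : ℚ) ^ (2 * J + 3))⁻¹ ≤ O := by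
    intro J s t E O hs ht ht1 hE hO
    have h0 : 0 ≤ ((q : ℚ) ^ (2 * J + 3))⁻¹ := by positivity
    have hd : 1 - t ≤ 1 - (q : ℚ) * ((q : ℚ) ^ (2 * J + 3))⁻¹ := by linarith [hqs J]
    have hE0 : 0 ≤ E := by
      by_contra hc
      nlinarith
    have hO0 : 0 ≤ O := by
      by_contra hc
      nlinarith
    constructor
    · rw [facEv, div_le_iff₀ (by linarith)]
      refine le_trans ?_ (mul_le_mul_of_nonneg_left hd hE0)
      refine le_trans ?_ hE
      nlinarith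
    · rw [facOd, div_le_iff₀ (by linarith)]
      refine le_trans ?_ (mul_le_mul_of_nonneg_left hd hO0)
      linarith
  have hden : ∀ (n : ℕ) (t : ℚ), ((5 : ℚ) ^ (n + 1))⁻¹ ≤ t → t < 1 →
      0 ≤ 1 / (1 - ((q : ℚ) ^ (n + 1))⁻¹) ∧ 1 / (1 - ((q : ℚ) ^ (n + 1))⁻¹) ≤ 1 / (1 - t) := by
    intro n t ht ht1
    have := hinv (n + 1)
    exact ⟨div_nonneg zero_le_one (by linarith), one_div_le_one_div_of_le (by linarith) (by linarith)⟩
  intro J
  induction J with
  | zero =>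
    have hbase : GoodO q 1 (56 / 25) (24 / 5) := by
      have hw : ∀ n, genSum (wO q) 1 n = wEven q n := fun n => by rw [genSum_one, wO, if_pos odd_one]
      intro m
      rw [hw, hw]
      refine ⟨?_, ?_⟩
      · rcases m with _ | _ | b
        · rw [mul_zero, (wEven_two_mul q 0).1]; norm_num
        · rw [show 2 * (0 + 1) = 2 from rfl, (wEven_two_mul q 0).2.1, zero_add, pow_one]
          push_cast
          linarith
        · rw [(wEven_two_mul q b).2.2]
          push_cast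
          calc (q : ℚ) ^ (b + 2) + 6 * (q : ℚ) ^ (b + 1) + (q : ℚ) ^ b =
                (q : ℚ) ^ b * ((q : ℚ) ^ 2 + 6 * q + 1) := by ring
            _ ≤ (q : ℚ) ^ b * (56 / 25 * (q : ℚ) ^ 2) := mul_le_mul_of_nonneg_left (by nlinarith) (by positivity)
            _ = _ := by ring
      · rcases m with _ | b
        · rw [mul_zero, zero_add, (wEven_two_mul_add_one q 0).1]; norm_num
        · rw [(wEven_two_mul_add_one q b).2]
          push_cast
          calc 4 * (q : ℚ) ^ (b + 1) + 4 * (q : ℚ) ^ b = (q : ℚ) ^ b * (4 * q + 4) := by ring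
            _ ≤ (q : ℚ) ^ b * (24 / 5 * q) := mul_le_mul_of_nonneg_left (by linarith) (by positivity)
            _ = _ := by ring
    obtain ⟨hf0, hf⟩ := hden 0 (1 / 5) (by norm_num) (by norm_num)
    obtain ⟨hE0, hO0⟩ := fac_nonneg (q := (q : ℚ)) (by linarith) 0
    obtain ⟨hE, hO⟩ := hfE 0 (1 / 125) (1 / 25) (1093 / 1000) (21 / 5) ((hinv 3).trans (by norm_num)) (by norm_num)
      (by norm_num) (by norm_num) (by norm_num)
    have h1 := hinv 1
    have h2 := hinv 2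
    have h := step_three (J := 0) (by omega) (mul_nonneg (by norm_num) hf0) (mul_nonneg (by norm_num) hf0) (wO_odd q 0)
      (step_two (J := 0) (by omega) (by norm_num) (by norm_num) (wO_even q 0) hbase)
    simp only [mul_zero, zero_add] at hf0 hf hE hO hE0 hO0 h ⊢
    intro m
    refine ⟨(h m).1.trans (mul_le_mul_of_nonneg_right ?_ (by positivity)),
      (h m).2.trans (mul_le_mul_of_nonneg_right ?_ (by positivity))⟩
    · refine le_trans (b := 56 / 25 * (1 / (1 - 1 / 5)) * (1093 / 1000) +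
        24 / 5 * (1 / (1 - 1 / 5)) * (21 / 5) * ((5 : ℚ) ^ 2)⁻¹) ?_ (by norm_num)
      gcongr
    · refine le_trans (b := 24 / 5 * (1 / (1 - 1 / 5)) * (1093 / 1000) +
        56 / 25 * (1 / (1 - 1 / 5)) * (21 / 5) * ((5 : ℚ) ^ 1)⁻¹) ?_ (by norm_num)
      gcongr
  | succ J ih =>
    set r := ((5 : ℚ) ^ (J + 1))⁻¹ with hr
    have hr0 : 0 ≤ r := by positivity
    have hr1 : r ≤ 1 / 5 := by
      rw [hr, one_div]
      exact inv_anti₀ (by norm_num) (le_trans (by norm_num) (pow_le_pow_right₀ (by norm_num) (show 1 ≤ J + 1 by omega)))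
    have hr2 : r ^ 2 ≤ r * (1 / 5) := by rw [sq]; exact mul_le_mul_of_nonneg_left hr1 hr0
    have e1 : ((5 : ℚ) ^ (J + 1 + 1))⁻¹ = r / 5 := by rw [hr, pow_succ _ (J + 1)]; field_simp
    have e2 : ((5 : ℚ) ^ (2 * (J + 1) + 1))⁻¹ = r ^ 2 / 5 := by rw [hr, pow_succ, pow_mul']; field_simp
    have e3 : ((5 : ℚ) ^ (2 * (J + 1) + 2))⁻¹ = r ^ 2 / 25 := by rw [hr, pow_add, pow_mul']; field_simp; norm_num
    have e4 : ((5 : ℚ) ^ (2 * (J + 1) + 3))⁻¹ = r ^ 2 / 125 := by rw [hr, pow_add, pow_mul']; field_simp; norm_num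
    have e5 : ((5 : ℚ) ^ (J + 1 + 2))⁻¹ = r / 25 := by rw [hr, pow_add _ (J + 1)]; field_simp; norm_num
    obtain ⟨hf0, hf⟩ := hden (2 * (J + 1)) (r ^ 2 / 5) (le_of_eq e2) (by linarith)
    obtain ⟨hE0, hO0⟩ := fac_nonneg (q := (q : ℚ)) (by linarith) (J + 1)
    obtain ⟨hE, hO⟩ := hfE (J + 1) (r ^ 2 / 125) (r ^ 2 / 25) (1 + r / 20) (21 / 5) ((hinv _).trans (le_of_eq e4))
      (le_of_eq e3) (by linarith) (by nlinarith) (by linarith)
    have hf' : 1 / (1 - ((q : ℚ) ^ (2 * (J + 1) + 1))⁻¹) ≤ 1 + r / 20 :=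
      hf.trans (by rw [div_le_iff₀ (by linarith)]; nlinarith)
    have h1 := (hinv (J + 1 + 1)).trans (le_of_eq e1)
    have h2 := (hinv (J + 1 + 2)).trans (le_of_eq e5)
    have hA : 0 ≤ 11 / 2 * (1 - r) := by linarith
    have hB : 0 ≤ 23 / 2 * (1 - r) := by linarith
    have h := step_three (J := J + 1) (by omega) (mul_nonneg hA hf0) (mul_nonneg hB hf0) (wO_odd q (J + 1))
      (step_two (J := J + 1) (by omega) hA hB (wO_even q (J + 1)) ih)
    rw [e1]
    intro m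
    refine ⟨(h m).1.trans (mul_le_mul_of_nonneg_right ?_ (by positivity)),
      (h m).2.trans (mul_le_mul_of_nonneg_right ?_ (by positivity))⟩
    · refine le_trans (b := 11 / 2 * (1 - r) * (1 + r / 20) * (1 + r / 20) +
        23 / 2 * (1 - r) * (1 + r / 20) * (21 / 5) * (r / 25)) ?_ (by nlinarith)
      gcongr
    · refine le_trans (b := 23 / 2 * (1 - r) * (1 + r / 20) * (1 + r / 20) +
        11 / 2 * (1 - r) * (1 + r / 20) * (21 / 5) * (r / 5)) ?_ (by nlinarith)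
      gcongr

/-- The plain bound for at least five elements. -/
theorem oSum_five_le {q : ℕ} (hq : 5 ≤ q) (n : ℕ) (hn : 1 ≤ n) :
    2 * (genSum (wO q) (2 * n + 1) (2 * n + 1) + genSum (wZ q) (2 * n + 1) (2 * n + 1)) ≤ 23 * q ^ n := by
  obtain ⟨J, rfl⟩ : ∃ J, n = J + 1 := ⟨n - 1, by omega⟩
  rw [(good_Z (by omega : 3 ≤ q) (2 * (J + 1))).1 (J + 1), add_zero]
  have h := (good_five hq J (J + 1)).2
  have h0 : (0 : ℚ) ≤ ((5 : ℚ) ^ (J + 1))⁻¹ * (q : ℚ) ^ (J + 1) := by positivity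
  have : ((2 * genSum (wO q) (2 * J + 3) (2 * (J + 1) + 1) : ℕ) : ℚ) ≤ ((23 * q ^ (J + 1) : ℕ) : ℚ) := by
    push_cast
    linarith
  exact_mod_cast this

end Cfsg.Agent.Small.ClassNumberO
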