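import Mathlib

/-!
The classes of a subgroup of index two, by commuting pairs.
-/

set_option autoImplicit false
set_option linter.unusedSectionVars false
set_option linter.style.haveILetI false

namespace Cfsg.Agent.Small.ClassNumberO

variable {G : Type*} [Group G] [Finite G]

/-- the classes inside a subgroup whose centralisers stay inside it -/
def SplitClass (N : Subgroup G) : Type _ :=
  {C : ConjClasses G // ∀ g, ConjClasses.mk g = C → g ∈ N ∧ ∀ h, Commute g h → h ∈ N}

instance instFiniteSplitClass (N : Subgroup G) : Finite (SplitClass N) := Subtype.finite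

/-- The number of commuting pairs with first element in an invariant set. -/
theorem card_comm_invariant (P : G → Prop) (hP : ∀ g x, P x → P (g * x * g⁻¹)) :
    Nat.card {p : G × G // Commute p.1 p.2 ∧ P p.1} =
      Nat.card {C : ConjClasses G // ∀ g, ConjClasses.mk g = C → P g} * Nat.card G := by
  classical
  haveI := Fintype.ofFinite G
  let S : SubMulAction (ConjAct G) G :=
    { carrier := {x | P x}
      smul_mem' := fun c x hx => by rw [ConjAct.smul_def]; exact hP _ _ hx }
  have e1 : {p : G × G // Commute p.1 p.2 ∧ P p.1} ≃ Σ c : ConjAct G, MulAction.fixedBy ↥S c :=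
    { toFun := fun p => ⟨ConjAct.toConjAct p.1.2, ⟨p.1.1, p.2.2⟩, Subtype.ext (by
        show p.1.2 * p.1.1 * p.1.2⁻¹ = p.1.1
        rw [mul_inv_eq_iff_eq_mul]; exact p.2.1.eq.symm)⟩
      invFun := fun c => ⟨((c.2.1 : G), ConjAct.ofConjAct c.1), by
        have h : ConjAct.ofConjAct c.1 * (c.2.1 : G) * (ConjAct.ofConjAct c.1)⁻¹ = (c.2.1 : G) :=
          congrArg Subtype.val c.2.2
        exact (mul_inv_eq_iff_eq_mul.1 h).symm, c.2.1.2⟩
      left_inv := fun p => rfl
      right_inv := fun c => rfl }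
  rw [Nat.card_congr e1, Nat.card_congr (MulAction.sigmaFixedByEquivOrbitsProdGroup (ConjAct G) ↥S), Nat.card_prod]
  congr 1
  have hmem : ∀ x : ↥S, ∀ g, ConjClasses.mk g = ConjClasses.mk (x : G) → P g := fun x g hg => by
    obtain ⟨c, hc⟩ := isConj_iff.1 (ConjClasses.mk_eq_mk_iff_isConj.1 hg.symm)
    exact hc ▸ hP c _ x.2
  refine Nat.card_congr (Equiv.ofBijective (Quotient.lift
    (fun x : ↥S => (⟨ConjClasses.mk (x : G), hmem x⟩ : {C : ConjClasses G // ∀ g, ConjClasses.mk g = C → P g}))
    ?_) ⟨?_, ?_⟩)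
  · intro x y h
    obtain ⟨c, hc⟩ := h
    exact Subtype.ext (ConjClasses.mk_eq_mk_iff_isConj.2
      (isConj_iff.2 ⟨ConjAct.ofConjAct c, congrArg Subtype.val hc⟩).symm)
  · intro x y
    refine Quotient.inductionOn₂ x y fun a b h => Quotient.sound ?_
    obtain ⟨c, hc⟩ := isConj_iff.1 (ConjClasses.mk_eq_mk_iff_isConj.1 (congrArg Subtype.val h)).symm
    exact ⟨ConjAct.toConjAct c, Subtype.ext hc⟩
  · rintro ⟨C, hC⟩
    obtain ⟨g, rfl⟩ := ConjClasses.exists_rep C
    exact ⟨Quotient.mk _ ⟨g, hC g rfl⟩, rfl⟩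

/-- The classes of a subgroup of index two. -/
theorem two_mul_card_classes (N : Subgroup G) (hN : N.index = 2) :
    2 * Nat.card (ConjClasses ↥N) = Nat.card (ConjClasses G) + 3 * Nat.card (SplitClass N) := by
  classical
  haveI := Fintype.ofFinite G
  have hmul : ∀ a b, a * b ∈ N ↔ (a ∈ N ↔ b ∈ N) := fun a b => Subgroup.mul_mem_iff_of_index_two hN
  let C (a b : Prop) : ℕ := Nat.card {p : G × G // Commute p.1 p.2 ∧ (p.1 ∈ N ↔ a) ∧ (p.2 ∈ N ↔ b)}
  have hG : Nat.card G = 2 * Nat.card ↥N := by rw [← N.index_mul_card, hN]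
  -- pairs inside
  have hTT : C True True = Nat.card (ConjClasses ↥N) * Nat.card ↥N := by
    rw [← card_comm_eq_card_conjClasses_mul_card]
    refine Nat.card_congr
      { toFun := fun p => ⟨(⟨p.1.1, p.2.2.1.2 trivial⟩, ⟨p.1.2, p.2.2.2.2 trivial⟩), Subtype.ext p.2.1⟩
        invFun := fun p => ⟨((p.1.1 : G), (p.1.2 : G)), congrArg Subtype.val p.2,
          iff_true_intro p.1.1.2, iff_true_intro p.1.2.2⟩
        left_inv := fun p => rfl
        right_inv := fun p => rfl }
  have hswap : C True False = C False True := Nat.card_congr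
    { toFun := fun p => ⟨(p.1.2, p.1.1), p.2.1.symm, p.2.2.2, p.2.2.1⟩
      invFun := fun p => ⟨(p.1.2, p.1.1), p.2.1.symm, p.2.2.2, p.2.2.1⟩
      left_inv := fun p => rfl
      right_inv := fun p => rfl }
  have hFF : C False False = C False True := by
    refine Nat.card_congr
      { toFun := fun p => ⟨(p.1.1, p.1.1 * p.1.2), (Commute.refl _).mul_right p.2.1, p.2.2.1, ?_⟩
        invFun := fun p => ⟨(p.1.1, p.1.1⁻¹ * p.1.2), ((Commute.refl p.1.1).inv_right).mul_right p.2.1, p.2.2.1, ?_⟩
        left_inv := fun p => Subtype.ext (Prod.ext rfl (inv_mul_cancel_left _ _))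
        right_inv := fun p => Subtype.ext (Prod.ext rfl (mul_inv_cancel_left _ _)) }
    · rw [hmul]
      have h1 := p.2.2.1
      have h2 := p.2.2.2
      tauto
    · show p.1.1⁻¹ * p.1.2 ∈ N ↔ False
      rw [hmul, inv_mem_iff]
      have h1 := p.2.2.1
      have h2 := p.2.2.2
      tauto
  have hall : Nat.card {p : G × G // Commute p.1 p.2} =
      C True True + C True False + C False True + C False False := by
    simp only [C, Nat.card_eq_fintype_card, Fintype.card_subtype]
    rw [← Finset.card_union_of_disjoint (by simp +contextual [Finset.disjoint_filter]),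
      ← Finset.card_union_of_disjoint (by simp +contextual [Finset.disjoint_union_left, Finset.disjoint_filter]),
      ← Finset.card_union_of_disjoint (by simp +contextual [Finset.disjoint_union_left, Finset.disjoint_filter])]
    congr 1
    ext p
    simp only [Finset.mem_union, Finset.mem_filter, Finset.mem_univ, true_and, iff_true, iff_false]
    tauto
  -- pairs starting at split elements
  let P : G → Prop := fun x => x ∈ N ∧ ∀ h, Commute x h → h ∈ N
  have hP : ∀ g x, P x → P (g * x * g⁻¹) := by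
    rintro g x ⟨hx, hc⟩
    refine ⟨(hmul _ _).2 ?_, fun h hh => ?_⟩
    · rw [hmul, inv_mem_iff]; tauto
    have h1 : g⁻¹ * h * g ∈ N := hc _ (by
      show x * (g⁻¹ * h * g) = g⁻¹ * h * g * x
      have := congrArg (fun y => g⁻¹ * y * g) hh.eq
      simpa only [mul_assoc, inv_mul_cancel_left, inv_mul_cancel, mul_one] using this)
    rw [hmul, hmul, inv_mem_iff] at h1
    tauto
  have hsplit : C True True = C True False + Nat.card (SplitClass N) * Nat.card G := by
    show _ = _ + Nat.card {C : ConjClasses G // ∀ g, ConjClasses.mk g = C → P g} * Nat.card G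
    rw [← card_comm_invariant P hP]
    -- an element with a centralising element outside has as many inside as outside
    choose o ho using fun (x : G) (h : x ∈ N ∧ ¬ P x) =>
      (show ∃ o, Commute x o ∧ o ∉ N by
        by_contra hcon
        push Not at hcon
        exact h.2 ⟨h.1, hcon⟩)
    rw [show C True True = Nat.card {p : G × G // (Commute p.1 p.2 ∧ (p.1 ∈ N ↔ True) ∧ (p.2 ∈ N ↔ True))} from rfl]
    rw [← Nat.card_sum]
    refine Nat.card_congr
      { toFun := fun p => if h : P p.1.1 then Sum.inr ⟨p.1, p.2.1, h⟩ else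
          Sum.inl ⟨(p.1.1, o p.1.1 ⟨p.2.2.1.2 trivial, h⟩ * p.1.2), (ho _ _).1.mul_right p.2.1, p.2.2.1, ?_⟩
        invFun := Sum.elim
          (fun p => ⟨(p.1.1, (o p.1.1 ⟨p.2.2.1.2 trivial, fun h => p.2.2.2.1 (h.2 _ p.2.1)⟩)⁻¹ * p.1.2),
            ((ho _ _).1.inv_right).mul_right p.2.1, p.2.2.1, ?_⟩)
          fun p => ⟨p.1, p.2.1, iff_true_intro p.2.2.1, iff_true_intro (p.2.2.2 _ p.2.1)⟩
        left_inv := ?_
        right_inv := ?_ }
    · rw [hmul]
      have h1 := (ho p.1.1 ⟨p.2.2.1.2 trivial, h⟩).2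
      have h2 := p.2.2.2
      tauto
    · show _ * p.1.2 ∈ N ↔ True
      rw [hmul, inv_mem_iff]
      have h1 := (ho p.1.1 ⟨p.2.2.1.2 trivial, fun h => p.2.2.2.1 (h.2 _ p.2.1)⟩).2
      have h2 := p.2.2.2
      tauto
    · intro p
      by_cases h : P p.1.1
      · simp [dif_pos h]
      · simp [dif_neg h]
    · rintro (p | p)
      · have h : ¬ P p.1.1 := fun h => p.2.2.2.1 (h.2 _ p.2.1)
        simp [dif_neg h]
      · simp [dif_pos p.2.2]
  rw [card_comm_eq_card_conjClasses_mul_card] at hall
  have hk : Nat.card G * (2 * Nat.card (ConjClasses ↥N)) =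
      Nat.card G * (Nat.card (ConjClasses G) + 3 * Nat.card (SplitClass N)) := by
    rw [Nat.mul_add, mul_comm (Nat.card G) (Nat.card (ConjClasses G)), hall, hFF, hswap,
      show Nat.card G * (2 * Nat.card (ConjClasses ↥N)) = 4 * (Nat.card (ConjClasses ↥N) * Nat.card ↥N) by
        rw [hG]; ring,
      ← hTT, show Nat.card G * (3 * Nat.card (SplitClass N)) = 3 * (Nat.card (SplitClass N) * Nat.card G) by ring]
    omega
  exact Nat.eq_of_mul_eq_mul_left Nat.card_pos hk

/-- A group has at most twice the classes of a subgroup of index two. -/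
theorem card_classes_le_two_mul (N : Subgroup G) (hN : N.index = 2) :
    Nat.card (ConjClasses G) ≤ 2 * Nat.card (ConjClasses ↥N) := by
  rw [two_mul_card_classes N hN]
  omega

end Cfsg.Agent.Small.ClassNumberO
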