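import Mathlib
import Cfsg.Agent.Lib.Small.Gram.Basic
import Cfsg.Agent.Lib.Small.TransposeSimilar
import Cfsg.Agent.Lib.Small.SpClassCount.Forms
import Cfsg.Agent.Lib.Small.Semisimple
import Cfsg.Agent.Lib.Small.FormDisc

/-!
Many classes of an orthogonal group, told apart by the characteristic polynomial of `g + g⁻¹`.
-/

set_option autoImplicit false
set_option linter.unusedSectionVars false
set_option linter.style.haveILetI false

namespace Cfsg.Agent.Small.ClassNumberO

open Matrix Polynomial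

universe u

variable {F : Type u} [Field F] [Fintype F]

/-- A symmetric invertible matrix for which a matrix with given characteristic polynomial is self-adjoint. -/
theorem exists_selfadjoint {T : F[X]} (hT : T.Monic) {m : ℕ} (hm : T.natDegree = m) :
    ∃ C H : Matrix (Fin m) (Fin m) F, Hᵀ = H ∧ IsUnit H.det ∧ H * C = Cᵀ * H ∧ C.charpoly = T := by
  classical
  subst hm
  haveI := (AdjoinRoot.powerBasis' hT).finite
  obtain ⟨lam, hlam⟩ := TransposeSimilar.exists_functional T hT.ne_zero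
  let lam' : AdjoinRoot T →ₗ[F] F :=
    { toFun := fun x => lam x
      map_add' := fun x y => map_add lam x y
      map_smul' := fun c x => map_smul lam c x }
  let b : Module.Basis (Fin T.natDegree) F (AdjoinRoot T) :=
    (AdjoinRoot.powerBasis' hT).basis.reindex (finCongr (AdjoinRoot.powerBasis'_dim hT))
  let β : AdjoinRoot T →ₗ[F] AdjoinRoot T →ₗ[F] F := (LinearMap.mul F (AdjoinRoot T)).compr₂ lam'
  have hβ : ∀ x y, β x y = lam' (x * y) := fun x y => rfl
  refine ⟨LinearMap.toMatrix b b (Semisimple.rootMul T), LinearMap.toMatrix₂ b b β, ?_, ?_, ?_, ?_⟩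
  · ext i j
    rw [Matrix.transpose_apply, LinearMap.toMatrix₂_apply, LinearMap.toMatrix₂_apply, hβ, hβ, mul_comm]
  · refine isUnit_iff_ne_zero.2 ((LinearMap.separatingLeft_iff_det_ne_zero b).1 fun x hx => ?_)
    by_contra hne
    obtain ⟨y, hy⟩ := hlam x hne
    exact hy (hx y)
  · have h1 := LinearMap.toMatrix₂_compl₁₂ b b b b β LinearMap.id (Semisimple.rootMul T)
    have h2 := LinearMap.toMatrix₂_compl₁₂ b b b b β (Semisimple.rootMul T) LinearMap.id
    rw [LinearMap.toMatrix_id, Matrix.transpose_one, Matrix.one_mul] at h1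
    rw [LinearMap.toMatrix_id, Matrix.mul_one] at h2
    rw [← h1, ← h2]
    congr 1
    refine LinearMap.ext₂ fun u v => ?_
    show lam' (u * (AdjoinRoot.root T * v)) = lam' (AdjoinRoot.root T * u * v)
    rw [mul_left_comm, mul_assoc]
  · rw [LinearMap.charpoly_toMatrix, Semisimple.charpoly_rootMul hT]

/-- An element whose sum with its inverse has characteristic polynomial `T ^ 2`. -/
theorem exists_model (h2 : (2 : F) ≠ 0) {T : F[X]} (hT : T.Monic) {m : ℕ} (hm : T.natDegree = m)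
    (h0 : T.eval 2 * T.eval (-2) ≠ 0) :
    ∃ M g g' : Matrix (Fin m ⊕ Fin m) (Fin m ⊕ Fin m) F, Mᵀ = M ∧
      (∃ d : F, d ≠ 0 ∧ M.det = d * d * ((-1) ^ m * (T.eval 2 * T.eval (-2)))) ∧
      g * g' = 1 ∧ gᵀ * M * g = M ∧ (g + g').charpoly = T * T ∧ g.det = 1 := by
  obtain ⟨C, H, hH, hHu, hHC, hC⟩ := exists_selfadjoint hT hm
  set D := C * C - (4 : F) • 1 with hD
  set g := (2⁻¹ : F) • Matrix.fromBlocks C D 1 C with hg
  have hHD : H * D = Dᵀ * H := by
    rw [hD, Matrix.mul_sub, Matrix.transpose_sub, Matrix.sub_mul, Matrix.transpose_mul, ← Matrix.mul_assoc, hHC,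
      Matrix.mul_assoc, hHC, ← Matrix.mul_assoc, Matrix.transpose_smul, Matrix.transpose_one]
    simp
  have hCD : C * D = D * C := by
    rw [hD, Matrix.mul_sub, Matrix.sub_mul, Matrix.mul_assoc]
    simp
  have hDdet : D.det = T.eval 2 * T.eval (-2) := by
    rw [← hC, Matrix.eval_charpoly, Matrix.eval_charpoly, ← Matrix.det_mul]
    congr 1
    rw [hD, show (Matrix.scalar (Fin m) (2 : F)) = (2 : F) • 1 by rw [Matrix.smul_one_eq_diagonal]; rfl,
      show (Matrix.scalar (Fin m) (-2 : F)) = (-2 : F) • 1 by rw [Matrix.smul_one_eq_diagonal]; rfl]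
    simp only [Matrix.sub_mul, Matrix.mul_sub, Matrix.smul_mul, Matrix.mul_smul, Matrix.one_mul, Matrix.mul_one,
      smul_smul]
    module
  refine ⟨Matrix.fromBlocks H 0 0 (-(H * D)), g, Matrix.fromBlocks C 0 0 C - g, ?_, ⟨H.det, hHu.ne_zero, ?_⟩,
    ?_, ?_, ?_, ?_⟩
  · rw [Matrix.fromBlocks_transpose, hH, Matrix.transpose_zero, Matrix.transpose_neg, Matrix.transpose_mul, hH,
      ← hHD]
  · rw [Matrix.det_fromBlocks_zero₂₁, Matrix.det_neg, Matrix.det_mul, hDdet, Fintype.card_fin]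
    ring
  · have h4 : (2⁻¹ : F) * 2⁻¹ * 4 = 1 := by field_simp; norm_num
    rw [Matrix.mul_sub, hg, Matrix.smul_mul, Matrix.fromBlocks_multiply, Matrix.smul_mul, Matrix.mul_smul, smul_smul,
      Matrix.fromBlocks_multiply, Matrix.fromBlocks_smul, Matrix.fromBlocks_smul, ← Matrix.fromBlocks_one]
    simp only [Matrix.mul_zero, Matrix.zero_mul, Matrix.one_mul, Matrix.mul_one, add_zero, zero_add]
    rw [show Matrix.fromBlocks ((2⁻¹ : F) • (C * C)) ((2⁻¹ : F) • (D * C)) ((2⁻¹ : F) • C) ((2⁻¹ : F) • (C * C)) -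
        Matrix.fromBlocks ((2⁻¹ * 2⁻¹ : F) • (C * C + D)) ((2⁻¹ * 2⁻¹ : F) • (C * D + D * C))
          ((2⁻¹ * 2⁻¹ : F) • (C + C)) ((2⁻¹ * 2⁻¹ : F) • (D + C * C)) =
        Matrix.fromBlocks ((2⁻¹ : F) • (C * C) - (2⁻¹ * 2⁻¹ : F) • (C * C + D))
          ((2⁻¹ : F) • (D * C) - (2⁻¹ * 2⁻¹ : F) • (C * D + D * C))
          ((2⁻¹ : F) • C - (2⁻¹ * 2⁻¹ : F) • (C + C))
          ((2⁻¹ : F) • (C * C) - (2⁻¹ * 2⁻¹ : F) • (D + C * C)) by
      simp only [sub_eq_add_neg, Matrix.fromBlocks_neg, Matrix.fromBlocks_add]]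
    have hh : (2⁻¹ : F) * 2⁻¹ + 2⁻¹ * 2⁻¹ = 2⁻¹ := by field_simp; ring
    congr 1
    · rw [hD]
      match_scalars <;> field_simp <;> ring
    · rw [hCD, smul_add, ← add_smul, hh, sub_self]
    · rw [smul_add, ← add_smul, hh, sub_self]
    · rw [hD]
      match_scalars <;> field_simp <;> ring
  · rw [hg, Matrix.transpose_smul, Matrix.fromBlocks_transpose, Matrix.transpose_one, Matrix.smul_mul,
      Matrix.smul_mul, Matrix.mul_smul, smul_smul, Matrix.fromBlocks_multiply, Matrix.fromBlocks_multiply,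
      Matrix.fromBlocks_smul]
    simp only [Matrix.mul_zero, Matrix.zero_mul, Matrix.one_mul, Matrix.mul_one, add_zero, zero_add,
      Matrix.mul_neg, Matrix.neg_mul]
    have h4 : (2⁻¹ : F) * 2⁻¹ * 4 = 1 := by field_simp; norm_num
    have a1 : Cᵀ * H * C = H * (C * C) := by rw [← hHC, Matrix.mul_assoc]
    have a2 : Cᵀ * (H * D) = H * (C * D) := by rw [← Matrix.mul_assoc, ← hHC, Matrix.mul_assoc]
    have a3 : Dᵀ * H = H * D := hHD.symm
    congr 1
    · rw [a1, ← sub_eq_add_neg, ← Matrix.mul_sub, hD, sub_sub_cancel, Matrix.mul_smul, Matrix.mul_one,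
        smul_smul, h4, one_smul]
    · rw [Matrix.mul_assoc _ D C, ← hCD, ← hHC, Matrix.mul_assoc, add_neg_cancel, smul_zero]
    · rw [a3, a2, Matrix.mul_assoc, ← hCD, add_neg_cancel, smul_zero]
    · rw [a3, a2, Matrix.mul_assoc H D D, Matrix.mul_assoc H (C * D) C, ← sub_eq_add_neg, ← Matrix.mul_sub,
        show C * D * C = C * C * D by rw [Matrix.mul_assoc, ← hCD, Matrix.mul_assoc], ← Matrix.sub_mul, hD,
        sub_sub_cancel_left, Matrix.neg_mul, Matrix.smul_mul, Matrix.one_mul, Matrix.mul_neg, Matrix.mul_smul,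
        smul_neg, smul_smul, h4, one_smul]
  · rw [add_sub_cancel, Matrix.charpoly_fromBlocks_zero₁₂, hC]
  · have key : Matrix.fromBlocks C D 1 C * Matrix.fromBlocks 1 (-C) 0 1 =
        Matrix.fromBlocks (C * 0 + -((4 : F) • 1) * 1) (C * 1) 0 1 * Matrix.fromBlocks 0 (1 : Matrix (Fin m) (Fin m) F) 1 0 +
          Matrix.fromBlocks 0 0 0 0 + Matrix.fromBlocks (C - C) 0 0 0 := by
      simp [Matrix.fromBlocks_multiply, Matrix.fromBlocks_add, hD]
      abel
    have h1 := congrArg Matrix.det key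
    rw [Matrix.det_mul, Matrix.det_fromBlocks_zero₂₁, Matrix.det_one, one_mul, mul_one, sub_self, Matrix.fromBlocks_zero,
      add_zero, add_zero, Matrix.mul_zero, zero_add, Matrix.mul_one, Matrix.det_mul, Matrix.det_fromBlocks_zero₂₁,
      ← neg_smul, Matrix.det_smul, Matrix.det_one, Fintype.card_fin] at h1
    rw [hg, Matrix.det_smul, h1, show Matrix.fromBlocks 0 (1 : Matrix (Fin m) (Fin m) F) 1 0 = FormDisc.Jplus F m from rfl,
      FormDisc.det_Jplus, Fintype.card_sum, Fintype.card_fin, ← two_mul, pow_mul, mul_one, mul_one, ← mul_pow, ← mul_pow]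
    rw [show ((2 : F)⁻¹) ^ 2 * (-4 * -1) = 1 by field_simp; norm_num, one_pow]

/-- Transport of an element to a congruent form. -/
theorem exists_iso {ι κ : Type} [Fintype ι] [DecidableEq ι] [Fintype κ] [DecidableEq κ] (h2 : (2 : F) ≠ 0)
    {B : Matrix ι ι F} (hBs : Bᵀ = B) (hBu : IsUnit B.det) {M g g' : Matrix κ κ F}
    (hcard : Fintype.card κ = Fintype.card ι) (hMs : Mᵀ = M) (hMu : IsUnit M.det)
    (hsq : IsSquare (B.det * M.det)) (hgg : g * g' = 1) (hgM : gᵀ * M * g = M) :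
    ∃ x : ↥(Gram.Iso B), (x.1.1 + (x.1⁻¹).1).charpoly = (g + g').charpoly ∧ x.1.1.det = g.det := by
  obtain ⟨e⟩ := Fintype.card_eq.1 hcard
  let r := Matrix.reindexAlgEquiv F F e
  have hrT : ∀ A, (r A)ᵀ = r Aᵀ := fun A => rfl
  obtain ⟨P, hP⟩ := SpClassCount.sym_congr h2 (A := B) (B := r M) hBs (by rw [hrT, hMs]) hBu
    (by rw [Matrix.det_reindexAlgEquiv]; exact hMu) (by rw [Matrix.det_reindexAlgEquiv]; exact hsq)
  have hPu : IsUnit P.det := by
    have h := congrArg Matrix.det hP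
    rw [Matrix.det_reindexAlgEquiv, Matrix.det_mul, Matrix.det_mul, Matrix.det_transpose] at h
    rw [← h] at hMu
    exact (IsUnit.mul_iff.1 hMu).2
  let u : GL ι F := Matrix.nonsingInvUnit P hPu
  let x₀ : GL ι F := ⟨r g, r g', by rw [← map_mul, hgg, map_one],
    by rw [← map_mul, mul_eq_one_comm.1 hgg, map_one]⟩
  refine ⟨⟨u * x₀ * u⁻¹, Gram.mem_iso.2 ?_⟩, ?_, ?_⟩
  · have h1 : x₀.valᵀ * r M * x₀.val = r M := by
      show (r g)ᵀ * r M * r g = r M
      rw [hrT, ← map_mul, ← map_mul, hgM]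
    have h3 : (u⁻¹).valᵀ * r M * (u⁻¹).val = B := by
      rw [← hP, ← Gram.gram_mul]
      show (u.val * (u⁻¹).val)ᵀ * B * (u.val * (u⁻¹).val) = B
      rw [Units.mul_inv, Matrix.transpose_one, Matrix.one_mul, Matrix.mul_one]
    rw [Units.val_mul, Units.val_mul, Gram.gram_mul, Gram.gram_mul]
    rw [show u.valᵀ * B * u.val = r M from hP, h1, h3]
  · show ((u * x₀ * u⁻¹).val + ((u * x₀ * u⁻¹)⁻¹).val).charpoly = _
    rw [_root_.mul_inv_rev, _root_.mul_inv_rev, inv_inv, Units.val_mul, Units.val_mul, Units.val_mul, Units.val_mul,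
      ← mul_assoc u.val (x₀⁻¹).val, ← add_mul, ← mul_add, Matrix.coe_units_inv u, Matrix.charpoly_units_conj]
    show (r g + r g').charpoly = _
    rw [← map_add]
    exact Matrix.charpoly_reindex e _
  · rw [Units.val_mul, Units.val_mul, Matrix.coe_units_inv u, Matrix.det_conj u.isUnit]
    exact Matrix.det_reindexAlgEquiv F F e g

/-- The invariant is a class function. -/
theorem charpoly_add_inv_eq {ι : Type} [Fintype ι] [DecidableEq ι] {B : Matrix ι ι F} {x y : ↥(Gram.Iso B)}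
    (h : IsConj x y) : (x.1.1 + (x.1⁻¹).1).charpoly = (y.1.1 + (y.1⁻¹).1).charpoly := by
  obtain ⟨c, rfl⟩ := isConj_iff.1 h
  show _ = ((c.1 * x.1 * c.1⁻¹).val + ((c.1 * x.1 * c.1⁻¹)⁻¹).val).charpoly
  rw [_root_.mul_inv_rev, _root_.mul_inv_rev, inv_inv, Units.val_mul, Units.val_mul, Units.val_mul, Units.val_mul,
    ← mul_assoc c.1.val (x.1⁻¹).val, ← add_mul, ← mul_add, Matrix.coe_units_inv c.1, Matrix.charpoly_units_conj]

/-- the prescribed high coefficients -/
noncomputable def high (s : ℕ) {k : ℕ} (r : Fin k → F) : F[X] := ∑ i : Fin k, C (r i) * X ^ (i.val + s)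

theorem coeff_high (s : ℕ) {k : ℕ} (r : Fin k → F) (i : Fin k) : (high s r).coeff (i.val + s) = r i := by
  rw [high, finset_sum_coeff, Finset.sum_eq_single i]
  · simp
  · intro j _ hj
    rw [coeff_C_mul_X_pow, if_neg fun h => hj (Fin.ext (by omega))]
  · simp

theorem degree_high (s : ℕ) {k n : ℕ} (r : Fin k → F) (h : k + s ≤ n) : (high s r).degree < n := by
  refine (degree_sum_le _ _).trans_lt ((Finset.sup_lt_iff (WithBot.bot_lt_coe n)).2 fun i _ => ?_)
  exact (degree_C_mul_X_pow_le _ _).trans_lt (Nat.cast_lt.2 (by omega : i.val + s < n))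

theorem card_units_le_sq (F : Type u) [Field F] [Fintype F] :
    Fintype.card F - 1 ≤ 2 * Nat.card {s : Fˣ // IsSquare s} := by
  classical
  rw [← Fintype.card_units, ← Nat.card_eq_fintype_card, show 2 = Nat.card Bool by simp, ← Nat.card_prod]
  choose rt hrt using fun s : {s : Fˣ // IsSquare s} => s.2
  refine Nat.card_le_card_of_injective
    (fun x : Fˣ => (decide (x = rt ⟨x * x, x, rfl⟩), (⟨x * x, x, rfl⟩ : {s : Fˣ // IsSquare s}))) fun x y h => ?_
  obtain ⟨h1, h2⟩ := Prod.ext_iff.1 h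
  dsimp only at h1 h2
  rw [h2] at h1
  have hroot : ∀ z : Fˣ, z = rt ⟨z * z, z, rfl⟩ ∨ (z : F) = -(rt ⟨z * z, z, rfl⟩ : Fˣ) := by
    intro z
    rcases mul_self_eq_mul_self_iff.1 (congrArg Units.val (hrt ⟨z * z, z, rfl⟩)) with h | h
    · exact Or.inl (Units.ext h)
    · exact Or.inr h
  have hx := hroot x
  have hy := hroot y
  rw [h2] at hx
  by_cases hxr : x = rt ⟨y * y, y, rfl⟩
  · rw [decide_eq_true hxr, eq_comm, decide_eq_true_iff] at h1
    exact hxr.trans h1.symm
  · rw [decide_eq_false hxr, eq_comm, decide_eq_false_iff_not] at h1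
    exact Units.ext ((hx.resolve_left hxr).trans (hy.resolve_left h1).symm)

theorem eq_of_mul_self {P Q : F[X]} (h2 : (2 : F) ≠ 0) (hP : P.Monic) (hQ : Q.Monic) (h : P * P = Q * Q) :
    P = Q := by
  rcases mul_self_eq_mul_self_iff.1 h with h | h
  · exact h
  · have h' := congrArg Polynomial.leadingCoeff h
    rw [leadingCoeff_neg, hP.leadingCoeff, hQ.leadingCoeff] at h'
    exact absurd (by linear_combination h') h2

/-- The lower bound. -/
theorem le_card_classes {ι : Type} [Fintype ι] [DecidableEq ι] (hodd : Odd (Fintype.card F))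
    {B : Matrix ι ι F} (hBs : Bᵀ = B) (hBu : IsUnit B.det) (n : ℕ) (hn : 2 ≤ n)
    (hι : Fintype.card ι = 2 * n) :
    Fintype.card F ^ n ≤ 2 * Nat.card (ConjClasses ↥(Gram.Iso B)) := by
  classical
  have h2 : (2 : F) ≠ 0 := Ring.two_ne_zero fun h => by
    have := FiniteField.even_card_of_char_two h
    rw [Nat.odd_iff] at hodd
    omega
  have h4 : (4 : F) ≠ 0 := by rw [show (4 : F) = 2 * 2 by norm_num]; exact mul_ne_zero h2 h2
  obtain ⟨m, rfl⟩ : ∃ m, n = m + 2 := ⟨n - 2, by omega⟩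
  let P₀ := (Fin m → F) × Fˣ × {s : Fˣ // IsSquare s}
  let P₁ := Σ r : Fin m → F,
    {c : F // c ∉ ({-((2 : F) ^ (m + 1) + (high 1 r).eval 2), -((-2 : F) ^ (m + 1) + (high 1 r).eval (-2))} : Finset F)}
  let W := P₀ ⊕ Fin 3 × P₁
  -- the polynomials of the first family
  let u₀ : P₀ → F := fun p => (p.2.1 : F)
  let w₀ : P₀ → F := fun p => (-1) ^ (m + 2) * B.det * (p.2.2.1 : F) / (p.2.1 : F)
  let L : P₀ → F[X] := fun p =>
    C (((u₀ p - 2 ^ (m + 2) - (high 2 p.1).eval 2) - (w₀ p - (-2) ^ (m + 2) - (high 2 p.1).eval (-2))) / 4) * X +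
      C (((u₀ p - 2 ^ (m + 2) - (high 2 p.1).eval 2) + (w₀ p - (-2) ^ (m + 2) - (high 2 p.1).eval (-2))) / 2)
  let T₀ : P₀ → F[X] := fun p => X ^ (m + 2) + (high 2 p.1 + L p)
  have hT₀ : ∀ p, (T₀ p).Monic ∧ (T₀ p).natDegree = m + 2 ∧ (T₀ p).eval 2 = u₀ p ∧ (T₀ p).eval (-2) = w₀ p := by
    intro p
    have hdeg : (high 2 p.1 + L p).degree < ((m + 2 : ℕ) : WithBot ℕ) :=
      (degree_add_le _ _).trans_lt (max_lt (degree_high 2 p.1 le_rfl)
        (degree_linear_le.trans_lt (by exact_mod_cast (by omega : 1 < m + 2))))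
    refine ⟨monic_X_pow_add hdeg, natDegree_eq_of_degree_eq_some ?_, ?_, ?_⟩
    · rw [degree_add_eq_left_of_degree_lt (by rw [degree_X_pow]; exact hdeg), degree_X_pow]
    · simp only [T₀, L, eval_add, eval_pow, eval_X, eval_mul, eval_C]
      field_simp
      ring
    · simp only [T₀, L, eval_add, eval_pow, eval_X, eval_mul, eval_C]
      field_simp
      ring
  have hw₀ : ∀ p, u₀ p * w₀ p ≠ 0 := fun p => mul_ne_zero p.2.1.ne_zero
    (div_ne_zero (mul_ne_zero (mul_ne_zero (pow_ne_zero _ (neg_ne_zero.2 one_ne_zero)) hBu.ne_zero) p.2.2.1.ne_zero)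
      p.2.1.ne_zero)
  -- the polynomials of the other families
  let T₁ : P₁ → F[X] := fun p => X ^ (m + 1) + (high 1 p.1 + C p.2.1)
  have hT₁ : ∀ p, (T₁ p).Monic ∧ (T₁ p).natDegree = m + 1 ∧ (T₁ p).eval 2 ≠ 0 ∧ (T₁ p).eval (-2) ≠ 0 := by
    intro p
    have hdeg : (high 1 p.1 + C p.2.1).degree < ((m + 1 : ℕ) : WithBot ℕ) :=
      (degree_add_le _ _).trans_lt (max_lt (degree_high 1 p.1 le_rfl)
        (degree_C_le.trans_lt (by exact_mod_cast (by omega : 0 < m + 1))))
    have hc := p.2.2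
    simp only [Finset.mem_insert, Finset.mem_singleton, not_or] at hc
    refine ⟨monic_X_pow_add hdeg, natDegree_eq_of_degree_eq_some ?_, fun h => hc.1 ?_, fun h => hc.2 ?_⟩
    · rw [degree_add_eq_left_of_degree_lt (by rw [degree_X_pow]; exact hdeg), degree_X_pow]
    · simp only [T₁, eval_add, eval_pow, eval_X, eval_C] at h
      linear_combination h
    · simp only [T₁, eval_add, eval_pow, eval_X, eval_C] at h
      linear_combination h
  let ε : Fin 3 → Fin 2 → F := ![![1, 1], ![-1, -1], ![1, -1]]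
  let inv : W → F[X] := Sum.elim (fun p => T₀ p * T₀ p) fun p =>
    T₁ p.2 * T₁ p.2 * ((X - C (2 * ε p.1 0)) * (X - C (2 * ε p.1 1)))
  -- realisation
  have hex : ∀ w : W, ∃ x : ↥(Gram.Iso B), (x.1.1 + (x.1⁻¹).1).charpoly = inv w := by
    rintro (p | ⟨f, p⟩)
    · obtain ⟨hm, hdeg, hu, hw⟩ := hT₀ p
      obtain ⟨M, g, g', hMs, ⟨d, hd, hdet⟩, hgg, hgM, hchar, -⟩ := exists_model h2 hm hdeg (by rw [hu, hw]; exact hw₀ p)
      rw [hu, hw] at hdet
      obtain ⟨s, hs⟩ := p.2.2.2
      have hMu : IsUnit M.det := by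
        rw [hdet]
        exact (mul_ne_zero (mul_ne_zero hd hd) (mul_ne_zero (pow_ne_zero _ (neg_ne_zero.2 one_ne_zero)) (hw₀ p))).isUnit
      obtain ⟨x, hx, -⟩ := exists_iso h2 hBs hBu (by rw [hι, Fintype.card_sum, Fintype.card_fin]; omega) hMs hMu
        ⟨d * B.det * (s : F), by
          rw [hdet]
          simp only [u₀, w₀, hs, Units.val_mul]
          have := p.2.1.ne_zero
          field_simp
          rw [← pow_mul, (even_two.mul_left (m + 2)).neg_one_pow]
          ring⟩ hgg hgM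
      exact ⟨x, hx.trans hchar⟩
    · obtain ⟨hm, hdeg, hu, hw⟩ := hT₁ p
      obtain ⟨M, g, g', hMs, ⟨d, hd, hdet⟩, hgg, hgM, hchar, -⟩ := exists_model h2 hm hdeg (mul_ne_zero hu hw)
      have hMu : M.det ≠ 0 := by
        rw [hdet]
        exact mul_ne_zero (mul_ne_zero hd hd) (mul_ne_zero (pow_ne_zero _ (neg_ne_zero.2 one_ne_zero)) (mul_ne_zero hu hw))
      let e := Matrix.diagonal (ε f)
      have he : ∀ i, ε f i * ε f i = 1 := by intro i; fin_cases f <;> fin_cases i <;> simp [ε]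
      obtain ⟨x, hx, -⟩ := exists_iso h2 hBs hBu (κ := (Fin (m + 1) ⊕ Fin (m + 1)) ⊕ Fin 2)
        (M := Matrix.fromBlocks M 0 0 (Matrix.diagonal ![1, M.det * B.det]))
        (g := Matrix.fromBlocks g 0 0 e) (g' := Matrix.fromBlocks g' 0 0 e)
        (by rw [hι, Fintype.card_sum, Fintype.card_sum, Fintype.card_fin, Fintype.card_fin]; omega)
        (by rw [Matrix.fromBlocks_transpose, hMs, Matrix.transpose_zero, Matrix.transpose_zero, Matrix.diagonal_transpose])
        (by
          rw [Matrix.det_fromBlocks_zero₂₁, Matrix.det_diagonal, Fin.prod_univ_two]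
          exact (mul_ne_zero hMu (mul_ne_zero one_ne_zero (mul_ne_zero hMu hBu.ne_zero))).isUnit)
        ⟨M.det * B.det, by
          rw [Matrix.det_fromBlocks_zero₂₁, Matrix.det_diagonal, Fin.prod_univ_two]
          simp
          ring⟩
        (by
          rw [Matrix.fromBlocks_multiply, ← Matrix.fromBlocks_one]
          simp [hgg, e, he])
        (by
          rw [Matrix.fromBlocks_transpose, Matrix.fromBlocks_multiply, Matrix.fromBlocks_multiply]
          simp [hgM, e, Matrix.diagonal_transpose, he]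
          rw [mul_right_comm, he, one_mul])
      refine ⟨x, hx.trans ?_⟩
      rw [Matrix.fromBlocks_add, add_zero, add_zero, Matrix.charpoly_fromBlocks_zero₁₂, hchar, Matrix.diagonal_add,
        Matrix.charpoly_diagonal, Fin.prod_univ_two]
      simp [inv, two_mul]
  choose x hx using hex
  have hinv : Function.Injective inv := by
    have hval : ∀ p : P₁, ∀ f : Fin 3, ((inv (Sum.inr (f, p))).eval 2 = 0 ↔ f ≠ 1) ∧
        ((inv (Sum.inr (f, p))).eval (-2) = 0 ↔ f ≠ 0) := by
      intro p f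
      obtain ⟨-, -, hu, hw⟩ := hT₁ p
      have h4' : (2 : F) + 2 ≠ 0 := by rwa [show (2 : F) + 2 = 4 by norm_num]
      have h4'' : (-2 : F) - 2 ≠ 0 := fun h => h4' (by linear_combination -h)
      fin_cases f <;> simp [inv, ε, hu, hw, h4', h4'']
    have hnz : ∀ p : P₀, (inv (Sum.inl p)).eval 2 ≠ 0 ∧ (inv (Sum.inl p)).eval (-2) ≠ 0 := by
      intro p
      obtain ⟨-, -, hu, hw⟩ := hT₀ p
      have := hw₀ p
      simp only [inv, Sum.elim_inl, eval_mul, hu, hw]
      exact ⟨mul_self_ne_zero.2 (left_ne_zero_of_mul this), mul_self_ne_zero.2 (right_ne_zero_of_mul this)⟩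
    rintro (p | ⟨f, p⟩) (p' | ⟨f', p'⟩) h
    · obtain ⟨hm, -, hu, hw⟩ := hT₀ p
      obtain ⟨hm', -, hu', hw'⟩ := hT₀ p'
      have hTT : T₀ p = T₀ p' := eq_of_mul_self h2 hm hm' h
      have e1 : p.2.1 = p'.2.1 := Units.ext (by rw [← show (T₀ p).eval 2 = (p.2.1 : F) from hu, hTT]; exact hu')
      have e2 : p.2.2 = p'.2.2 := by
        have h3 : w₀ p = w₀ p' := by rw [← hw, hTT, hw']
        simp only [w₀, e1] at h3
        rw [div_left_inj' p'.2.1.ne_zero, mul_right_inj' (mul_ne_zero (pow_ne_zero _ (neg_ne_zero.2 one_ne_zero))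
          hBu.ne_zero)] at h3
        exact Subtype.ext (Units.ext h3)
      have e3 : p.1 = p'.1 := funext fun i => by
        have h3 := congrArg (fun P : F[X] => P.coeff (i.val + 2)) hTT
        simp only [T₀, L, coeff_add, coeff_X_pow, coeff_high, if_neg (show ¬ i.val + 2 = m + 2 by omega),
          coeff_C_mul, coeff_X, coeff_C, if_neg (show ¬ 1 = i.val + 2 by omega),
          if_neg (show ¬ i.val + 2 = 0 by omega), mul_zero, zero_add, add_zero] at h3
        exact h3
      exact congrArg Sum.inl (Prod.ext e3 (Prod.ext e1 e2))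
    · fin_cases f' <;> first | exact absurd ((hval p' _).1.2 (by decide)) (h ▸ (hnz p).1) |
        exact absurd ((hval p' _).2.2 (by decide)) (h ▸ (hnz p).2)
    · fin_cases f <;> first | exact absurd ((hval p _).1.2 (by decide)) (h.symm ▸ (hnz p').1) |
        exact absurd ((hval p _).2.2 (by decide)) (h.symm ▸ (hnz p').2)
    · have hf : f = f' := by
        have k1 := (hval p f).1
        have k2 := (hval p f).2
        rw [h, (hval p' f').1] at k1
        rw [h, (hval p' f').2] at k2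
        clear * - k1 k2
        revert k1 k2
        revert f f'
        decide
      subst hf
      obtain ⟨hm, -, -, -⟩ := hT₁ p
      obtain ⟨hm', -, -, -⟩ := hT₁ p'
      have hTT : T₁ p = T₁ p' := eq_of_mul_self h2 hm hm'
        (mul_right_cancel₀ (mul_ne_zero (X_sub_C_ne_zero _) (X_sub_C_ne_zero _)) h)
      obtain ⟨r, c, hc⟩ := p
      obtain ⟨r', c', hc'⟩ := p'
      have e1 : r = r' := funext fun i => by
        have h3 := congrArg (fun P : F[X] => P.coeff (i.val + 1)) hTT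
        simp only [T₁, coeff_add, coeff_X_pow, coeff_high, if_neg (show ¬ i.val + 1 = m + 1 by omega),
          coeff_C, if_neg (show ¬ i.val + 1 = 0 by omega), zero_add, add_zero] at h3
        exact h3
      subst e1
      simp only [T₁, add_right_inj, C_inj] at hTT
      subst hTT
      rfl
  have hle : Nat.card W ≤ Nat.card (ConjClasses ↥(Gram.Iso B)) := by
    refine Nat.card_le_card_of_injective (fun w => ConjClasses.mk (x w)) fun w w' h => hinv ?_
    rw [← hx w, ← hx w']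
    exact charpoly_add_inv_eq (ConjClasses.mk_eq_mk_iff_isConj.1 h)
  refine le_trans ?_ (Nat.mul_le_mul_left 2 hle)
  set q := Fintype.card F with hq
  have hP₁ : q ^ m * (q - 2) ≤ Nat.card P₁ := by
    rw [Nat.card_sigma]
    calc q ^ m * (q - 2) = ∑ _r : Fin m → F, (q - 2) := by simp [hq]
      _ ≤ _ := Finset.sum_le_sum fun r _ => by
        rw [Nat.card_eq_fintype_card, Fintype.card_subtype_compl, Fintype.card_coe]
        exact Nat.sub_le_sub_left Finset.card_le_two q
  have hP₀ : q ^ m * ((q - 1) * (q - 1)) ≤ 2 * Nat.card P₀ := by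
    rw [Nat.card_prod, Nat.card_prod, Nat.card_fun, Nat.card_fin, Nat.card_eq_fintype_card (α := Fˣ), Fintype.card_units,
      Nat.card_eq_fintype_card (α := F)]
    calc q ^ m * ((q - 1) * (q - 1)) ≤ q ^ m * ((q - 1) * (2 * Nat.card {s : Fˣ // IsSquare s})) :=
          Nat.mul_le_mul_left _ (Nat.mul_le_mul_left _ (card_units_le_sq F))
      _ = _ := by ring
  have hW : Nat.card W = Nat.card P₀ + 3 * Nat.card P₁ := by
    show Nat.card (P₀ ⊕ Fin 3 × P₁) = _
    rw [Nat.card_sum, Nat.card_prod (Fin 3) P₁, Nat.card_fin]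
  have hq3 : 3 ≤ q := by
    have : 1 < q := Fintype.one_lt_card
    obtain ⟨k, hk⟩ := hodd
    omega
  rw [hW]
  calc q ^ (m + 2) = q ^ m * (q * q) := by ring
    _ ≤ q ^ m * ((q - 1) * (q - 1) + 6 * (q - 2)) := Nat.mul_le_mul_left _ (by
        obtain ⟨j, hj⟩ : ∃ j, q = j + 3 := ⟨q - 3, by omega⟩
        rw [hj, show j + 3 - 1 = j + 2 by omega, show j + 3 - 2 = j + 1 by omega]
        nlinarith)
    _ ≤ _ := by rw [Nat.mul_add, Nat.mul_left_comm (q ^ m) 6]; omega

end Cfsg.Agent.Small.ClassNumberO
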