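import Mathlib
import Cfsg.Agent.Lib.Small.ClassNumberO.IndexTwo
import Cfsg.Agent.Lib.Small.ClassNumberO.ArithR
import Cfsg.Agent.Lib.Small.ClassNumberO.Lower
import Cfsg.Agent.Lib.Small.Orth.Bridge
import Cfsg.Agent.Lib.Small.Gram.Standard
import Cfsg.Agent.Lib.Classical.OrthIndex

/-!
The classes of the derived group of an odd-dimensional orthogonal group.
-/

set_option autoImplicit false
set_option linter.unusedSectionVars false
set_option linter.style.haveILetI false

namespace Cfsg.Agent.Small.ClassNumberO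

open Matrix Polynomial Cfsg.Agent.Small.ClassNumber Cfsg.Agent.Small.ClassNumberU Cfsg.Agent.Small.ClassNumberSp

attribute [local instance] starRingOfComm

universe u

variable {F : Type u} [Field F] [Fintype F] {ι : Type} [Fintype ι] [DecidableEq ι] {B : Matrix ι ι F} {N : ℕ}

variable (B) in
/-- the rotations -/
noncomputable def SO : Subgroup ↥(Gram.Iso B) :=
  ((Matrix.GeneralLinearGroup.det : GL ι F →* Fˣ).comp (Gram.Iso B).subtype).ker

theorem mem_SO {g : ↥(Gram.Iso B)} : g ∈ SO B ↔ g.1.1.det = 1 := by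
  rw [SO, MonoidHom.mem_ker, MonoidHom.comp_apply, ← Units.val_inj]
  rfl

/-- Vectors fixed up to the same sign take values of one square class. -/
def Good (g : ↥(Gram.Iso B)) : Prop :=
  ∀ (ε : F) (v w : ι → F), ε = 1 ∨ ε = -1 → g.1.1 *ᵥ v = ε • v → g.1.1 *ᵥ w = ε • w →
    v ⬝ᵥ B *ᵥ v ≠ 0 → w ⬝ᵥ B *ᵥ w ≠ 0 → IsSquare ((v ⬝ᵥ B *ᵥ v) * (w ⬝ᵥ B *ᵥ w))

theorem good_conj {g : ↥(Gram.Iso B)} (hg : Good g) (c : ↥(Gram.Iso B)) : Good (c * g * c⁻¹) := by
  intro ε v w hε hv hw hv0 hw0
  have hval : ∀ x, ((c⁻¹ : ↥(Gram.Iso B)).1.1 *ᵥ x) ⬝ᵥ B *ᵥ ((c⁻¹ : ↥(Gram.Iso B)).1.1 *ᵥ x) = x ⬝ᵥ B *ᵥ x := fun x => by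
    rw [← Gram.dot_gram, Gram.mem_iso.1 (c⁻¹ : ↥(Gram.Iso B)).2]
  have hfix : ∀ x, (c * g * c⁻¹).1.1 *ᵥ x = ε • x →
      g.1.1 *ᵥ ((c⁻¹ : ↥(Gram.Iso B)).1.1 *ᵥ x) = ε • ((c⁻¹ : ↥(Gram.Iso B)).1.1 *ᵥ x) := fun x hx => by
    rw [← Matrix.mulVec_smul, ← hx, Matrix.mulVec_mulVec, Matrix.mulVec_mulVec, ← Units.val_mul, ← Units.val_mul,
      ← Subgroup.coe_mul, ← Subgroup.coe_mul, show c⁻¹ * (c * g * c⁻¹) = g * c⁻¹ by group]
  rw [← hval v, ← hval w]
  exact hg ε _ _ hε (hfix v hv) (hfix w hw) (by rwa [hval]) (by rwa [hval])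

theorem toQ_pnd (h2 : (2 : F) ≠ 0) (hB : IsGram B) : Classical.OCount.PND (Gram.toQ B) :=
  Classical.ORefl.pnd_of_nondeg (Gram.toQ_nondeg h2 hB.symm hB.unit)

theorem iso_eq (h2 : (2 : F) ≠ 0) (hB : IsGram B) :
    Cfsg.isometryGroup F ⇑(Gram.toQ B) = Gram.Iso B := by
  rw [Gram.isometry_eq h2 (B := (2 : F) • B)
    (fun u v => by rw [Gram.polar_toQ hB.symm, Matrix.smul_mulVec, dotProduct_smul, smul_eq_mul])
    (fun v => by rw [← two_smul F v, QuadraticMap.map_smul, smul_eq_mul]; ring)]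
  ext g
  rw [Gram.mem_iso, Gram.mem_iso, Matrix.mul_smul, Matrix.smul_mul]
  exact ⟨fun h => smul_right_injective _ h2 h, fun h => by rw [h]⟩

/-- An element failing `Good` is centralised by a rotation outside the derived group. -/
theorem exists_outside (h2 : (2 : F) ≠ 0) (hB : IsGram B) (g : ↥(Gram.Iso B)) (hg : ¬ Good g) :
    ∃ r : ↥(Gram.Iso B), Commute g r ∧ r.1.1.det = 1 ∧ r ∉ commutator ↥(Gram.Iso B) := by
  classical
  simp only [Good, not_forall] at hg
  obtain ⟨ε, v, w, hε, hv, hw, hv0, hw0, hns⟩ := hg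
  revert g
  rw [← iso_eq h2 hB]
  intro g hv hw
  have hQ := toQ_pnd h2 hB
  have hvQ : ∀ u ∈ [v, w], Gram.toQ B u ≠ 0 := by
    simp only [List.mem_cons, List.not_mem_nil, or_false]
    rintro u (rfl | rfl) <;> rw [Gram.toQ_apply] <;> assumption
  obtain ⟨r, hr⟩ := Orth.exists_word_mat (Q := Gram.toQ B) rfl [v, w]
  refine ⟨r, ?_, by rw [Orth.det_word [v, w] hvQ hr]; norm_num, fun hmem => hns ?_⟩
  · have hp : ∀ u, g.1.1 *ᵥ u = ε • u → ∀ x, g.1.1 *ᵥ Classical.ORefl.refl (Gram.toQ B) u x =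
        Classical.ORefl.refl (Gram.toQ B) u (g.1.1 *ᵥ x) := by
      intro u hu x
      have hg' : ∀ y, Gram.toQ B (g.1.1 *ᵥ y) = Gram.toQ B y := fun y => g.2 y y
      have hpol : QuadraticMap.polar (Gram.toQ B) u (g.1.1 *ᵥ x) = ε * QuadraticMap.polar (Gram.toQ B) u x := by
        have h1 : QuadraticMap.polar (Gram.toQ B) (g.1.1 *ᵥ u) (g.1.1 *ᵥ x) =
            QuadraticMap.polar (Gram.toQ B) u x := by
          rw [QuadraticMap.polar, QuadraticMap.polar, ← Matrix.mulVec_add, hg', hg', hg']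
        rw [hu, QuadraticMap.polar_smul_left, smul_eq_mul] at h1
        rcases hε with rfl | rfl
        · simpa using h1
        · linear_combination -h1
      rw [Classical.ORefl.refl_apply, Classical.ORefl.refl_apply, Matrix.mulVec_sub, Matrix.mulVec_smul, hu, hpol,
        smul_smul]
      congr 2
      ring
    refine Subtype.ext (Units.ext (Matrix.ext_of_mulVec_single fun i => ?_))
    show (g.1.1 * r.1.1) *ᵥ _ = (r.1.1 * g.1.1) *ᵥ _
    rw [← Matrix.mulVec_mulVec, ← Matrix.mulVec_mulVec, hr, hr]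
    show g.1.1 *ᵥ Classical.ORefl.refl _ v (Classical.ORefl.refl _ w _) =
      Classical.ORefl.refl _ v (Classical.ORefl.refl _ w _)
    rw [hp v hv, hp w hw]
  · have h := ((Orth.mem_omega rfl hQ r [v, w] hvQ hr).1 hmem).2
    simpa [Gram.toQ_apply] using h

theorem index_commutator (h2 : (2 : F) ≠ 0) (hB : IsGram B) (hn : 2 ≤ Fintype.card ι) :
    (commutator ↥(Gram.Iso B)).index = 4 := by
  rw [← iso_eq h2 hB]
  exact Classical.OOmega.index_omega_odd h2 (toQ_pnd h2 hB) hn

variable (B) in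
/-- minus the identity -/
noncomputable def negI : ↥(Gram.Iso B) := ⟨-1, Gram.mem_iso.2 (by simp)⟩

theorem negI_val : (negI B).1.1 = -1 := rfl

theorem negI_comm (g : ↥(Gram.Iso B)) : Commute (negI B) g := Subtype.ext (Units.ext (by
  show (-1 : Matrix ι ι F) * g.1.1 = g.1.1 * (-1 : Matrix ι ι F)
  simp))

theorem commutator_le_SO : commutator ↥(Gram.Iso B) ≤ SO B := Abelianization.commutator_subset_ker _

theorem index_SO (h2 : (2 : F) ≠ 0) (hB : IsGram B) (hodd : Odd (Fintype.card ι)) : (SO B).index = 2 := by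
  rw [Subgroup.index_eq_two_iff]
  refine ⟨negI B, fun g => ?_⟩
  have hdet : g.1.1.det = 1 ∨ g.1.1.det = -1 := by
    have h := congrArg Matrix.det (Gram.mem_iso.1 g.2)
    rw [Matrix.det_mul, Matrix.det_mul, Matrix.det_transpose] at h
    exact mul_self_eq_one_iff.1 (mul_right_cancel₀ hB.unit.ne_zero (by linear_combination h))
  have hmul : (g * negI B).1.1.det = -g.1.1.det := by
    rw [Subgroup.coe_mul, Units.val_mul, Matrix.det_mul, negI_val, Matrix.det_neg, Matrix.det_one, hodd.neg_one_pow]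
    ring
  have hne : (-1 : F) ≠ 1 := fun h => h2 (by linear_combination -h)
  rw [mem_SO, mem_SO, hmul]
  rcases hdet with h | h <;> rw [h]
  · exact Or.inr ⟨rfl, fun e => hne (by simpa using e)⟩
  · exact Or.inl ⟨by simp, fun e => hne e⟩

/-- The derived group inside the rotations. -/
theorem index_omega_SO (h2 : (2 : F) ≠ 0) (hB : IsGram B) (hodd : Odd (Fintype.card ι)) (hn : 2 ≤ Fintype.card ι) :
    ((commutator ↥(Gram.Iso B)).subgroupOf (SO B)).index = 2 := by
  have h := Subgroup.relIndex_mul_index (commutator_le_SO (B := B))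
  rw [index_commutator h2 hB hn, index_SO h2 hB hodd] at h
  show (commutator ↥(Gram.Iso B)).relIndex (SO B) = 2
  omega

/-- Signs double the classes of rotations. -/
theorem two_mul_card_classes_le (h2 : (2 : F) ≠ 0) (hB : IsGram B) (hodd : Odd (Fintype.card ι))
    {A : Type*} [Finite A] (f : A → ConjClasses ↥(SO B)) (hf : Function.Injective f)
    (P : ↥(Gram.Iso B) → Prop) (hneg : ∀ g, P g → P (negI B * g))
    (hP : ∀ a, ∀ g : ↥(SO B), ConjClasses.mk g = f a → P g.1) (hPc : ∀ g c, P g → P (c * g * c⁻¹)) :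
    2 * Nat.card A ≤ Nat.card {C : ConjClasses ↥(Gram.Iso B) // ∀ g, ConjClasses.mk g = C → P g} := by
  classical
  rw [show 2 = Nat.card Bool by simp, ← Nat.card_prod]
  choose rep hrep using fun a => ConjClasses.exists_rep (f a)
  let sgn : Bool → ↥(Gram.Iso B) := fun b => if b then negI B else 1
  have hPs : ∀ p : Bool × A, P (sgn p.1 * (rep p.2).1) := by
    rintro ⟨b, a⟩
    cases b <;> simp [sgn, hP a _ (hrep a), hneg]
  refine Nat.card_le_card_of_injective (fun p => ⟨ConjClasses.mk (sgn p.1 * (rep p.2).1), fun g hg => by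
    obtain ⟨c, hc⟩ := isConj_iff.1 (ConjClasses.mk_eq_mk_iff_isConj.1 hg.symm)
    exact hc ▸ hPc _ c (hPs p)⟩) ?_
  rintro ⟨b, a⟩ ⟨b', a'⟩ h
  obtain ⟨c, hc⟩ := isConj_iff.1 (ConjClasses.mk_eq_mk_iff_isConj.1 (congrArg Subtype.val h))
  dsimp only at hc
  have hd : ∀ (b : Bool) (a : A), (sgn b * (rep a).1).1.1.det = if b then -1 else 1 := by
    intro b a
    rw [Subgroup.coe_mul, Units.val_mul, Matrix.det_mul, mem_SO.1 (rep a).2, mul_one]
    cases b <;> simp [sgn, negI_val, Matrix.det_neg, hodd.neg_one_pow]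
  have hb : b = b' := by
    have h1 : (c * (sgn b * (rep a).1) * c⁻¹).1.1.det = (sgn b * (rep a).1).1.1.det := by
      rw [Subgroup.coe_mul, Subgroup.coe_mul _ c, Subgroup.coe_inv, Units.val_mul, Units.val_mul c.1,
        Matrix.coe_units_inv c.1, Matrix.det_conj c.1.isUnit]
    rw [hc, hd, hd] at h1
    cases b <;> cases b' <;> first | rfl | exact absurd h1 (by simp; intro e; exact h2 (by linear_combination e)) |
      exact absurd h1 (by simp; intro e; exact h2 (by linear_combination -e))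
  subst hb
  have hsc : Commute c (sgn b) := by
    cases b
    · exact Commute.one_right c
    · exact (negI_comm c).symm
  have hc' : c * (rep a).1 * c⁻¹ = (rep a').1 := by
    rw [← mul_assoc c, hsc.eq, mul_assoc (sgn b) c, mul_assoc (sgn b)] at hc
    exact mul_left_cancel hc
  refine Prod.ext rfl (hf ?_)
  rw [← hrep a, ← hrep a', ConjClasses.mk_eq_mk_iff_isConj, isConj_iff]
  by_cases hcS : c ∈ SO B
  · exact ⟨⟨c, hcS⟩, Subtype.ext hc'⟩
  · have hB2 : negI B * c ∈ SO B := by
      rw [mem_SO, Subgroup.coe_mul, Units.val_mul, Matrix.det_mul, negI_val, Matrix.det_neg, Matrix.det_one,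
        hodd.neg_one_pow]
      have h := congrArg Matrix.det (Gram.mem_iso.1 c.2)
      rw [Matrix.det_mul, Matrix.det_mul, Matrix.det_transpose] at h
      have hB0 := hB.unit.ne_zero
      rcases mul_self_eq_one_iff.1 (mul_right_cancel₀ hB0 (show c.1.1.det * c.1.1.det * B.det = 1 * B.det by
          linear_combination h)) with e | e
      · exact absurd (mem_SO.2 e) hcS
      · rw [e]; ring
    refine ⟨⟨negI B * c, hB2⟩, Subtype.ext ?_⟩
    show negI B * c * (rep a).1 * (negI B * c)⁻¹ = (rep a').1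
    rw [← hc', _root_.mul_inv_rev, mul_assoc (negI B), mul_assoc (negI B), ← mul_assoc (c * (rep a).1),
      (negI_comm _).eq, mul_assoc, inv_mul_cancel, mul_one]

open _root_.Classical in
/-- `Good` restricts the parameters. -/
theorem single_of_good (hB : IsGram B) (h2 : (2 : F) ≠ 0) (e : ι ≃ Fin N) (g : ↥(Gram.Iso B)) (hg : Good g)
    (k : Fin N) (hk : k.val = 0) : Single F ((dataOf (toGL e g)).1 k) := by
  set D := decompOf (toGL e g) with hD
  set s := D.part (k.val + 1) with hs
  have hcount : ∀ c : F, c = 1 ∨ c = -1 → s.count (X - C c) ≤ 1 := by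
    intro c hc
    have hcc : c * c = 1 := by rcases hc with rfl | rfl <;> simp
    obtain ⟨t, d, P, Q, hd, hPQ, hQP, hbQ⟩ := exists_coords (c • g.1.1)
    rw [hs, hk, zero_add, count_part_linear e g hcc hPQ hQP hbQ le_rfl, ← Fintype.card_subtype]
    by_contra hlt
    have hW : IsSForm d (Qᵀ * B * (1 : Matrix ι ι F) * Q) :=
      isSForm_pull hB (adj_smul_mul hcc (iso_adj hB g)) hPQ hQP hbQ (Commute.one_left _) (adj_one hB) isUnit_one
    set S := SpClassCount.btop d (Qᵀ * B * (1 : Matrix ι ι F) * Q) 1 with hS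
    have hSs : Sᵀ = S := by
      rw [hS, btop_transpose_sym d hW.inv hW.symm le_rfl]
      simp
    have hSu : IsUnit S.det := SpClassCount.isUnit_btop d hd hW.inv hW.unit le_rfl
    let x0 : {l // d l = 1} → ((l : Fin t) × Fin (d l)) := fun l => ⟨l.1, ⟨0, by rw [l.2]; exact Nat.one_pos⟩⟩
    let E : Matrix ((l : Fin t) × Fin (d l)) {l // d l = 1} F := (1 : Matrix _ _ F).submatrix id x0
    have hgen : ∀ W : Matrix ((l : Fin t) × Fin (d l)) ((l : Fin t) × Fin (d l)) F,
        Eᵀ * W * E = W.submatrix x0 x0 := by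
      intro W
      rw [show E = (1 : Matrix _ _ F).submatrix id x0 from rfl, Matrix.transpose_submatrix, Matrix.transpose_one]
      ext l l'
      simp only [Matrix.mul_apply, Matrix.submatrix_apply, id, Matrix.one_apply, ite_mul, one_mul, zero_mul,
        mul_ite, mul_one, mul_zero, Finset.sum_ite_eq, Finset.sum_ite_eq', Finset.mem_univ, if_true]
    have hE : Eᵀ * (Qᵀ * B * (1 : Matrix ι ι F) * Q) * E = S := by
      rw [hgen]
      ext l l'
      exact (SpClassCount.phi_val d (Qᵀ * B * (1 : Matrix ι ι F) * Q) (x0 l) (x0 l')).symm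
    have hJ : Cfsg.jordanTypeMatrix d F * E = E := by
      rw [JordanCent.jordan_eq, Matrix.add_mul, Matrix.one_mul, add_eq_left]
      ext x l
      rw [show E = (1 : Matrix _ _ F).submatrix id x0 from rfl, Matrix.mul_apply]
      simp only [Matrix.submatrix_apply, id, Matrix.one_apply, mul_ite, mul_one, mul_zero, Finset.sum_ite_eq',
        Finset.mem_univ, if_true, Matrix.zero_apply]
      have hz := SpClassCount.mul_nilM_phi d (1 : Matrix _ _ F) x l.1 ⟨0, by rw [l.2]; exact Nat.one_pos⟩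
      rw [Matrix.one_mul] at hz
      rw [hz]
      exact SpClassCount.phi_out d _ fun h => by
        have h' := h.2
        simp [l.2] at h'
    have hfix : ∀ x, g.1.1 *ᵥ ((Q * E) *ᵥ x) = c • ((Q * E) *ᵥ x) := by
      intro x
      have h1 : (c • g.1.1) * (Q * E) = Q * E := by rw [← Matrix.mul_assoc, hbQ, Matrix.mul_assoc, hJ]
      have h2' := congrArg (fun M => c • (M *ᵥ x)) h1
      simp only [← Matrix.mulVec_mulVec, Matrix.smul_mulVec, smul_smul, hcc, one_smul] at h2'
      simp only [← Matrix.mulVec_mulVec]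
      exact h2'
    have hvalue : ∀ x, ((Q * E) *ᵥ x) ⬝ᵥ B *ᵥ ((Q * E) *ᵥ x) = x ⬝ᵥ S *ᵥ x := fun x => by
      rw [← Gram.dot_gram, Gram.gram_mul, ← hE, Matrix.mul_one]
    have hfin : 2 ≤ Module.finrank F ({l // d l = 1} → F) := by
      rw [Module.finrank_fintype_fun_eq_card]
      omega
    obtain ⟨ν, hν⟩ := FiniteField.exists_nonsquare (F := F) fun h => h2 (by
      haveI := ringChar.of_eq h
      exact CharTwo.two_eq_zero)
    have hQS : Classical.OCount.PND (Gram.toQ S) :=
      Classical.ORefl.pnd_of_nondeg (Gram.toQ_nondeg h2 hSs hSu)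
    obtain ⟨x, hx⟩ := Classical.OOmega.exists_value h2 hQS hfin 1
    obtain ⟨y, hy⟩ := Classical.OOmega.exists_value h2 hQS hfin ν
    rw [Gram.toQ_apply, ← hvalue] at hx hy
    have h := hg c ((Q * E) *ᵥ x) ((Q * E) *ᵥ y) hc (hfix x) (hfix y) (by rw [hx]; exact one_ne_zero)
      (by rw [hy]; exact fun e => hν (e ▸ IsSquare.zero))
    rw [hx, hy, one_mul] at h
    exact hν h
  have hndvd : ∀ c : F, c = 1 ∨ c = -1 → ¬ (X - C c) ^ 2 ∣ s.prod := by
    intro c hc hdvd
    set rest := s.filter (fun P => P ≠ X - C c) with hrest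
    have hsplit : s = Multiset.replicate (s.count (X - C c)) (X - C c) + rest := by
      refine Multiset.ext.2 fun P => ?_
      rw [Multiset.count_add, Multiset.count_replicate, hrest, Multiset.count_filter]
      by_cases h : P = X - C c
      · subst h; simp
      · rw [if_neg (Ne.symm h), if_pos h, zero_add]
    have hroot : rest.prod.eval c ≠ 0 := by
      intro h
      rw [eval_multiset_prod, Multiset.prod_eq_zero_iff] at h
      obtain ⟨P, hP, hP0⟩ := Multiset.mem_map.1 h
      obtain ⟨hPi, hPm⟩ := D.part_spec (Multiset.mem_filter.1 hP).1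
      exact (Multiset.mem_filter.1 hP).2 (eq_of_monic_of_associated (monic_X_sub_C c) hPm
        ((irreducible_X_sub_C c).associated_of_dvd hPi (dvd_iff_isRoot.2 hP0))).symm
    rw [hsplit, Multiset.prod_add, Multiset.prod_replicate] at hdvd
    obtain ⟨K, hK⟩ := hdvd
    rcases Nat.le_one_iff_eq_zero_or_eq_one.1 (hcount c hc) with h0 | h1
    · rw [h0, pow_zero, one_mul] at hK
      exact hroot (by rw [hK]; simp)
    · rw [h1, pow_one, pow_two, mul_assoc] at hK
      exact hroot (by rw [mul_left_cancel₀ (X_sub_C_ne_zero c) hK]; simp)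
  exact ⟨hndvd 1 (Or.inl rfl), hndvd (-1) (Or.inr rfl)⟩

/-- The classes all of whose elements are good, by shapes. -/
theorem two_mul_card_good (hB : IsGram B) (hoddF : Odd (Fintype.card F)) (e : ι ≃ Fin N) :
    2 * Nat.card {C : ConjClasses ↥(Gram.Iso B) // ∀ g, ConjClasses.mk g = C → Good g} ≤
      genSum (wS (Fintype.card F)) N N + genSum (wZ (Fintype.card F)) N N := by
  classical
  have h2 : (2 : F) ≠ 0 := Ring.two_ne_zero fun h => by
    have := FiniteField.even_card_of_char_two h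
    rw [Nat.odd_iff] at hoddF
    omega
  obtain ⟨f, hf, hspec⟩ := exists_injective_classes hB hoddF e
  have hR : ∀ C : {C : ConjClasses ↥(Gram.Iso B) // ∀ g, ConjClasses.mk g = C → Good g},
      Restricted fun j => ((f C.1).1.1 j).1 := by
    intro C k hk
    obtain ⟨g, hg, hG⟩ := hspec C.1
    simp only [hG]
    exact single_of_good hB h2 e g (C.2 g hg) k hk
  refine le_trans (Nat.mul_le_mul_left 2 (Nat.card_le_card_of_injective
    (fun C => (⟨f C.1, hR C⟩ : {x : {x : SeqO F N N // Normal x.1} // Restricted fun j => (x.1.1 j).1}))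
    fun C C' h => Subtype.ext (hf (congrArg Subtype.val h)))) ?_
  exact (two_mul_card_normal_of h2 N N Restricted).trans (Nat.add_le_add (card_seqR h2 N N) (card_seqZ h2 N N))

/-- The rotations whose centraliser among the rotations stays in the derived group are good. -/
theorem good_of_split (h2 : (2 : F) ≠ 0) (hB : IsGram B) {C : ConjClasses ↥(SO B)}
    (hC : ∀ g, ConjClasses.mk g = C → g ∈ (commutator ↥(Gram.Iso B)).subgroupOf (SO B) ∧
      ∀ h, Commute g h → h ∈ (commutator ↥(Gram.Iso B)).subgroupOf (SO B))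
    (g : ↥(SO B)) (hg : ConjClasses.mk g = C) : Good g.1 := by
  by_contra hng
  obtain ⟨r, hcomm, hdet, hr⟩ := exists_outside h2 hB g.1 hng
  exact hr (Subgroup.mem_subgroupOf.1 ((hC g hg).2 ⟨r, mem_SO.2 hdet⟩ (Subtype.ext hcomm)))

/-- The upper bound. -/
theorem card_classes_omega_le (hB : IsGram B) (hoddF : Odd (Fintype.card F)) (n : ℕ) (hn : 1 ≤ n)
    (hι : Fintype.card ι = 2 * n + 1) :
    10 * Nat.card (ConjClasses ↥(commutator ↥(Gram.Iso B))) ≤ 73 * Fintype.card F ^ n := by
  classical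
  have h2 : (2 : F) ≠ 0 := Ring.two_ne_zero fun h => by
    have := FiniteField.even_card_of_char_two h
    rw [Nat.odd_iff] at hoddF
    omega
  have hodd : Odd (Fintype.card ι) := ⟨n, hι⟩
  let e : ι ≃ Fin (2 * n + 1) := Fintype.equivFinOfCardEq hι
  set N' := (commutator ↥(Gram.Iso B)).subgroupOf (SO B) with hN'
  have hk : Nat.card (ConjClasses ↥(commutator ↥(Gram.Iso B))) = Nat.card (ConjClasses ↥N') := by
    obtain ⟨φ⟩ : Nonempty (↥N' ≃* ↥(commutator ↥(Gram.Iso B))) := ⟨Subgroup.subgroupOfEquivOfLe commutator_le_SO⟩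
    exact (Nat.card_congr (Equiv.ofBijective (ConjClasses.map φ.toMonoidHom)
      ⟨fun a b h => by
        obtain ⟨a, rfl⟩ := ConjClasses.exists_rep a
        obtain ⟨b, rfl⟩ := ConjClasses.exists_rep b
        have h' := ConjClasses.mk_eq_mk_iff_isConj.1 h
        exact ConjClasses.mk_eq_mk_iff_isConj.2 (by simpa using MonoidHom.map_isConj φ.symm.toMonoidHom h'),
      ConjClasses.map_surjective φ.surjective⟩)).symm
  have hN2 := two_mul_card_classes N' (index_omega_SO h2 hB hodd (by omega))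
  have hS : 2 * Nat.card (ConjClasses ↥(SO B)) ≤ Nat.card (ConjClasses ↥(Gram.Iso B)) := by
    refine (two_mul_card_classes_le h2 hB hodd id Function.injective_id (fun _ => True) (fun _ _ => trivial)
      (fun _ _ _ => trivial) fun _ _ _ => trivial).trans (Finite.card_subtype_le _)
  have hO := card_classes_le hB hoddF e
  have hsplit : 2 * Nat.card (SplitClass N') ≤
      Nat.card {C : ConjClasses ↥(Gram.Iso B) // ∀ g, ConjClasses.mk g = C → Good g} := by
    refine two_mul_card_classes_le h2 hB hodd (fun C : SplitClass N' => C.1) Subtype.val_injective Good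
      (fun g hg => ?_) (fun C g hg => good_of_split h2 hB C.2 g hg) fun g c hg => good_conj hg c
    intro ε v w hε hv hw
    have hneg : ∀ x, (negI B * g).1.1 *ᵥ x = ε • x → g.1.1 *ᵥ x = (-ε) • x := fun x hx => by
      rw [Subgroup.coe_mul, Units.val_mul, negI_val, Matrix.neg_mul, Matrix.one_mul, Matrix.neg_mulVec] at hx
      rw [neg_smul, ← hx, neg_neg]
    exact hg (-ε) v w (by rcases hε with rfl | rfl <;> simp) (hneg v hv) (hneg w hw)
  have hgood := two_mul_card_good hB hoddF e
  have hq3 : 3 ≤ Fintype.card F := by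
    have h1 : 1 < Fintype.card F := Fintype.one_lt_card
    obtain ⟨k, hk'⟩ := hoddF
    omega
  have hs : Nat.card (SplitClass N') ≤ Nat.card (ConjClasses ↥(SO B)) := Finite.card_subtype_le _
  rw [hk]
  rcases (show Fintype.card F = 3 ∨ 5 ≤ Fintype.card F by
    obtain ⟨k, hk'⟩ := hoddF
    omega) with h3 | h5
  · rw [h3] at hO hgood ⊢
    have hX := wX_sum_le n hn
    rw [genSum_wX] at hX
    rw [(good_Z (le_refl 3) (2 * n)).1 n] at hO hgood
    omega
  · have := oSum_five_le h5 n hn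
    omega

/-- The lower bound. -/
theorem le_card_classes_omega (hB : IsGram B) (hoddF : Odd (Fintype.card F)) (n : ℕ) (hn : 1 ≤ n)
    (hι : Fintype.card ι = 2 * n + 1) :
    Fintype.card F ^ n ≤ 2 * Nat.card (ConjClasses ↥(commutator ↥(Gram.Iso B))) := by
  classical
  have h2 : (2 : F) ≠ 0 := Ring.two_ne_zero fun h => by
    have := FiniteField.even_card_of_char_two h
    rw [Nat.odd_iff] at hoddF
    omega
  have hodd : Odd (Fintype.card ι) := ⟨n, hι⟩
  set N' := (commutator ↥(Gram.Iso B)).subgroupOf (SO B) with hN'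
  have hk : Nat.card (ConjClasses ↥N') ≤ Nat.card (ConjClasses ↥(commutator ↥(Gram.Iso B))) :=
    Nat.card_le_card_of_surjective
      (ConjClasses.map (Subgroup.subgroupOfEquivOfLe (commutator_le_SO (B := B))).symm.toMonoidHom)
      (ConjClasses.map_surjective (f := (Subgroup.subgroupOfEquivOfLe (commutator_le_SO (B := B))).symm.toMonoidHom)
        (Subgroup.subgroupOfEquivOfLe (commutator_le_SO (B := B))).symm.surjective)
  refine le_trans ?_ ((card_classes_le_two_mul N' (index_omega_SO h2 hB hodd (by omega))).trans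
    (Nat.mul_le_mul_left 2 hk))
  -- a class for every monic polynomial of degree `n`
  let T : (Fin n → F) → F[X] := fun r => X ^ n + high 0 r
  have hT : ∀ r, (T r).Monic ∧ (T r).natDegree = n := fun r => by
    have hdeg : (high 0 r).degree < (n : WithBot ℕ) := degree_high 0 r le_rfl
    exact ⟨monic_X_pow_add hdeg, natDegree_eq_of_degree_eq_some
      (by rw [degree_add_eq_left_of_degree_lt (by rw [degree_X_pow]; exact hdeg), degree_X_pow])⟩
  have hex : ∀ r, ∃ x : ↥(SO B), (x.1.1.1 + (x.1.1⁻¹).1).charpoly = (X - C 2) * (T r * T r) := by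
    intro r
    obtain ⟨hm, hdeg⟩ := hT r
    obtain ⟨T₁, he₁, hnd₁⟩ := exists_eq_pow_rootMultiplicity_mul_and_not_dvd (T r) hm.ne_zero 2
    set a := (T r).rootMultiplicity 2
    have hm₁ : T₁.Monic := ((monic_X_sub_C _).pow a).of_mul_monic_left (he₁ ▸ hm)
    obtain ⟨T₂, he₂, hnd₂⟩ := exists_eq_pow_rootMultiplicity_mul_and_not_dvd T₁ hm₁.ne_zero (-2)
    set b := T₁.rootMultiplicity (-2)
    have hm₂ : T₂.Monic := ((monic_X_sub_C _).pow b).of_mul_monic_left (he₂ ▸ hm₁)
    have hu : T₂.eval 2 ≠ 0 := fun h => hnd₁ (he₂ ▸ (dvd_iff_isRoot.2 h).mul_left _)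
    have hw : T₂.eval (-2) ≠ 0 := fun h => hnd₂ (dvd_iff_isRoot.2 h)
    have hdeg₂ : n = a + b + T₂.natDegree := by
      rw [← hdeg, he₁, Monic.natDegree_mul ((monic_X_sub_C _).pow a) hm₁, he₂,
        Monic.natDegree_mul ((monic_X_sub_C _).pow b) hm₂, natDegree_pow, natDegree_pow, natDegree_X_sub_C,
        natDegree_X_sub_C]
      ring
    obtain ⟨M, g, g', hMs, ⟨d, hd, hdet⟩, hgg, hgM, hchar, hgdet⟩ := exists_model h2 hm₂ rfl (mul_ne_zero hu hw)
    have hMu : M.det ≠ 0 := by
      rw [hdet]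
      exact mul_ne_zero (mul_ne_zero hd hd) (mul_ne_zero (pow_ne_zero _ (neg_ne_zero.2 one_ne_zero)) (mul_ne_zero hu hw))
    let δ : Fin (2 * a + 1) ⊕ Fin (2 * b) → F := Sum.elim (fun i => if i = 0 then M.det * B.det else 1) fun _ => 1
    let ε : Fin (2 * a + 1) ⊕ Fin (2 * b) → F := Sum.elim (fun _ => 1) fun _ => -1
    have hδ : ∏ i, δ i = M.det * B.det := by simp [δ, Fintype.prod_sum_type]
    have hε : ∀ i, ε i * ε i = 1 := by rintro (i | i) <;> simp [ε]
    obtain ⟨x, hx, hxdet⟩ := exists_iso h2 hB.symm hB.unit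
      (κ := (Fin T₂.natDegree ⊕ Fin T₂.natDegree) ⊕ (Fin (2 * a + 1) ⊕ Fin (2 * b)))
      (M := Matrix.fromBlocks M 0 0 (Matrix.diagonal δ))
      (g := Matrix.fromBlocks g 0 0 (Matrix.diagonal ε)) (g' := Matrix.fromBlocks g' 0 0 (Matrix.diagonal ε))
      (by rw [hι, Fintype.card_sum, Fintype.card_sum, Fintype.card_sum, Fintype.card_fin, Fintype.card_fin,
        Fintype.card_fin]; omega)
      (by rw [Matrix.fromBlocks_transpose, hMs, Matrix.transpose_zero, Matrix.transpose_zero, Matrix.diagonal_transpose])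
      (by
        rw [Matrix.det_fromBlocks_zero₂₁, Matrix.det_diagonal, hδ]
        exact (mul_ne_zero hMu (mul_ne_zero hMu hB.unit.ne_zero)).isUnit)
      ⟨M.det * B.det, by rw [Matrix.det_fromBlocks_zero₂₁, Matrix.det_diagonal, hδ]; ring⟩
      (by
        rw [Matrix.fromBlocks_multiply, ← Matrix.fromBlocks_one]
        simp [hgg, Matrix.diagonal_mul_diagonal, hε])
      (by
        rw [Matrix.fromBlocks_transpose, Matrix.fromBlocks_multiply, Matrix.fromBlocks_multiply]
        simp [hgM, Matrix.diagonal_transpose, Matrix.diagonal_mul_diagonal, mul_comm, ← mul_assoc, hε])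
    have hx1 : x ∈ SO B := by
      rw [mem_SO, hxdet, Matrix.det_fromBlocks_zero₂₁, hgdet, Matrix.det_diagonal, Fintype.prod_sum_type]
      simp [ε, pow_mul]
    refine ⟨⟨x, hx1⟩, hx.trans ?_⟩
    rw [Matrix.fromBlocks_add, add_zero, add_zero, Matrix.charpoly_fromBlocks_zero₁₂, hchar, Matrix.diagonal_add,
      Matrix.charpoly_diagonal, Fintype.prod_sum_type, he₁, he₂]
    simp only [ε, Sum.elim_inl, Sum.elim_inr, Finset.prod_const, Finset.card_univ, Fintype.card_fin]
    rw [show (1 : F) + 1 = 2 by norm_num, show (-1 : F) + -1 = -2 by norm_num, pow_succ, pow_mul', pow_mul']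
    ring
  choose x hx using hex
  calc Fintype.card F ^ n = Nat.card (Fin n → F) := by
        rw [Nat.card_fun, Nat.card_fin, Nat.card_eq_fintype_card]
    _ ≤ Nat.card (ConjClasses ↥(SO B)) := by
        refine Nat.card_le_card_of_injective (fun r => ConjClasses.mk (x r)) fun r r' h => ?_
        have h1 := charpoly_add_inv_eq (MonoidHom.map_isConj (SO B).subtype (ConjClasses.mk_eq_mk_iff_isConj.1 h))
        simp only [Subgroup.coe_subtype] at h1
        rw [hx r, hx r'] at h1
        have h3 := eq_of_mul_self h2 (hT r).1 (hT r').1 (mul_left_cancel₀ (X_sub_C_ne_zero _) h1)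
        funext i
        have h4 := congrArg (fun P : F[X] => P.coeff (i.val + 0)) h3
        simp only [T, coeff_add, coeff_X_pow, coeff_high, if_neg (show ¬ i.val + 0 = n by omega), zero_add] at h4
        exact h4

end Cfsg.Agent.Small.ClassNumberO
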